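import Mathlib
import Cfsg.Prelude.Def_Solvable
import Cfsg.Agent.Lib.Helper55.Cores

set_option autoImplicit false
set_option linter.style.haveILetI false

namespace Cfsg.Agent.Lib.Helper22

open Subgroup

variable {G : Type*} [Group G]

/-- The Fitting subgroup is normal. -/
theorem fittingSubgroup_normal (G : Type*) [Group G] : (Cfsg.fittingSubgroup G).Normal :=
  Subgroup.sSup_normal _ (fun _ h => h.1)

/-- `O_p(G)` is normal. -/
theorem pCore_normal' (p : ℕ) (G : Type*) [Group G] : (Cfsg.pCore p G).Normal :=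
  Subgroup.sSup_normal _ (fun _ h => h.1)

/-- `O_{p'}(G)` is normal. -/
theorem pPrimeCore_normal' (p : ℕ) (G : Type*) [Group G] : (Cfsg.pPrimeCore p G).Normal :=
  Subgroup.sSup_normal _ (fun _ h => h.1)

/-- `O_p(G)` is a `p`-group. -/
theorem pCore_isPGroup' (p : ℕ) [Fact p.Prime] (G : Type*) [Group G] :
    IsPGroup p (Cfsg.pCore p G) :=
  Sylow.sSup_of_normal _ (fun _ h => h.2) (fun _ h => h.1)

/-- A normal `p`-subgroup lies in `O_p(G)`. -/
theorem le_pCore' {p : ℕ} {N : Subgroup G} (hN : N.Normal) (hp : IsPGroup p N) :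
    N ≤ Cfsg.pCore p G :=
  le_sSup ⟨hN, hp⟩

/-- A normal subgroup of order prime to `p` lies in `O_{p'}(G)`. -/
theorem le_pPrimeCore' {p : ℕ} {N : Subgroup G} (hN : N.Normal) (hp : (Nat.card N).Coprime p) :
    N ≤ Cfsg.pPrimeCore p G :=
  le_sSup ⟨hN, hp⟩

/-- A normal nilpotent subgroup lies in `F(G)`. -/
theorem le_fittingSubgroup {N : Subgroup G} (hN : N.Normal) (hn : Group.IsNilpotent N) :
    N ≤ Cfsg.fittingSubgroup G :=
  le_sSup ⟨hN, hn⟩

/-- For distinct primes, `O_q(G) ≤ O_{p'}(G)`. -/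
theorem pCore_le_pPrimeCore [Finite G] {p q : ℕ} [hp : Fact p.Prime] [hq : Fact q.Prime]
    (hne : q ≠ p) : Cfsg.pCore q G ≤ Cfsg.pPrimeCore p G := by
  apply le_pPrimeCore' (pCore_normal' q G)
  obtain ⟨n, hn⟩ := (pCore_isPGroup' q G).exists_card_eq
  rw [hn]
  exact Nat.Coprime.pow_left n ((Nat.coprime_primes hq.out hp.out).mpr hne)

/-- A `p`-element of `O_p(G) ⊔ O_{p'}(G)` lies in `O_p(G)`. -/
theorem mem_pCore_of_mem_sup [Finite G] {p : ℕ} [hp : Fact p.Prime] {x : G}
    (hx : x ∈ Cfsg.pCore p G ⊔ Cfsg.pPrimeCore p G) {k : ℕ} (hk : x ^ (p ^ k) = 1) :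
    x ∈ Cfsg.pCore p G := by
  haveI := pCore_normal' p G
  haveI := pPrimeCore_normal' p G
  obtain ⟨a, ha, b, hb, rfl⟩ := Subgroup.mem_sup_of_normal_right.mp hx
  -- image of b in the quotient by O_p
  have h1 : (QuotientGroup.mk' (Cfsg.pCore p G)) (a * b) = (QuotientGroup.mk' (Cfsg.pCore p G)) b := by
    have ha1 : (QuotientGroup.mk' (Cfsg.pCore p G)) a = 1 := (QuotientGroup.eq_one_iff a).mpr ha
    rw [map_mul, ha1, one_mul]
  have h2 : orderOf ((QuotientGroup.mk' (Cfsg.pCore p G)) (a * b)) ∣ p ^ k := by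
    apply orderOf_dvd_of_pow_eq_one
    rw [← map_pow, hk, map_one]
  have h3 : orderOf ((QuotientGroup.mk' (Cfsg.pCore p G)) b) ∣ Nat.card (Cfsg.pPrimeCore p G) := by
    have : orderOf b ∣ Nat.card (Cfsg.pPrimeCore p G) := Subgroup.orderOf_dvd_natCard _ hb
    exact (orderOf_map_dvd _ b).trans this
  rw [h1] at h2
  have hcop : (Nat.card (Cfsg.pPrimeCore p G)).Coprime (p ^ k) :=
    Nat.Coprime.pow_right k (Cfsg.Agent.Lib.Helper55.pPrimeCore_card_coprime p)
  have h4 : orderOf ((QuotientGroup.mk' (Cfsg.pCore p G)) b) = 1 :=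
    Nat.eq_one_of_dvd_coprimes hcop h3 h2
  rw [orderOf_eq_one_iff] at h4
  have hb' : b ∈ Cfsg.pCore p G := (QuotientGroup.eq_one_iff b).mp h4
  exact Subgroup.mul_mem _ ha hb'

/-- The join of the `p`-cores is nilpotent. -/
theorem iSup_pCore_isNilpotent [Finite G] :
    Group.IsNilpotent ↥(⨆ p : Nat.Primes, Cfsg.pCore (p : ℕ) G) := by
  set K := ⨆ p : Nat.Primes, Cfsg.pCore (p : ℕ) G with hK
  apply (Group.isNilpotent_of_finite_tfae.out 0 3).mpr
  intro p hp P
  have hKle : K ≤ Cfsg.pCore p G ⊔ Cfsg.pPrimeCore p G := by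
    apply iSup_le
    intro q
    haveI : Fact (q : ℕ).Prime := ⟨q.2⟩
    by_cases hqp : (q : ℕ) = p
    · rw [hqp]; exact le_sup_left
    · exact (pCore_le_pPrimeCore hqp).trans le_sup_right
  have hpK : Cfsg.pCore p G ≤ K := le_iSup (fun q : Nat.Primes => Cfsg.pCore (q : ℕ) G) ⟨p, hp.out⟩
  haveI := pCore_normal' p G
  have hQn : ((Cfsg.pCore p G).subgroupOf K).Normal := inferInstance
  have hQp : IsPGroup p ((Cfsg.pCore p G).subgroupOf K) := (pCore_isPGroup' p G).comap_subtype
  have h1 : (Cfsg.pCore p G).subgroupOf K ≤ (P : Subgroup K) := hQp.le_sylow_of_normal P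
  have h2 : (P : Subgroup K) ≤ (Cfsg.pCore p G).subgroupOf K := by
    intro x hx
    rw [Subgroup.mem_subgroupOf]
    obtain ⟨k, hk⟩ := P.isPGroup' ⟨x, hx⟩
    have hk' : (x : G) ^ (p ^ k) = 1 := by
      have := congrArg (fun y : (P : Subgroup K) => ((y : K) : G)) hk
      simpa using this
    exact mem_pCore_of_mem_sup (hKle x.2) hk'
  rw [le_antisymm h2 h1]
  exact hQn

/-- A normal nilpotent subgroup of a finite group lies in the join of the `p`-cores. -/
theorem normal_nilpotent_le_iSup_pCore [Finite G] {N : Subgroup G} (hN : N.Normal)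
    (hn : Group.IsNilpotent N) : N ≤ ⨆ p : Nat.Primes, Cfsg.pCore (p : ℕ) G := by
  set K := ⨆ p : Nat.Primes, Cfsg.pCore (p : ℕ) G with hK
  -- every Sylow subgroup of N maps into K
  have hsyl : ∀ (p : ℕ) [Fact p.Prime] (P : Sylow p N), (P : Subgroup N).map N.subtype ≤ K ⊓ N := by
    intro p hp P
    have hall : ∀ (p : ℕ) (_hp : Fact p.Prime) (P : Sylow p N), (↑P : Subgroup N).Normal :=
      (Group.isNilpotent_of_finite_tfae (G := N)).out 0 3 |>.mp hn
    have hPn : (P : Subgroup N).Normal := hall p hp P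
    haveI : (P : Subgroup N).Characteristic := P.characteristic_of_normal hPn
    haveI := hN
    have hnorm : ((P : Subgroup N).map N.subtype).Normal := inferInstance
    have hpg : IsPGroup p ((P : Subgroup N).map N.subtype) := P.isPGroup'.map _
    refine le_inf ?_ (Subgroup.map_subtype_le _)
    exact (le_pCore' hnorm hpg).trans
      (le_iSup (fun q : Nat.Primes => Cfsg.pCore (q : ℕ) G) ⟨p, hp.out⟩)
  -- cardinality argument
  have hdvd : Nat.card N ∣ Nat.card ↥(K ⊓ N) := by
    rw [← Nat.factorization_le_iff_dvd Nat.card_pos.ne' Nat.card_pos.ne']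
    intro p
    by_cases hp : p.Prime
    · haveI : Fact p.Prime := ⟨hp⟩
      obtain P : Sylow p N := default
      have h1 := hsyl p P
      have h2 : Nat.card ((P : Subgroup N).map N.subtype) ∣ Nat.card ↥(K ⊓ N) :=
        Subgroup.card_dvd_of_le h1
      rw [Nat.card_congr ((P : Subgroup N).equivMapOfInjective N.subtype N.subtype_injective).symm.toEquiv,
        P.card_eq_multiplicity] at h2
      exact (hp.pow_dvd_iff_le_factorization Nat.card_pos.ne').mp h2
    · rw [Nat.factorization_eq_zero_of_not_prime _ hp]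
      exact Nat.zero_le _
  have hle : Nat.card ↥(K ⊓ N) ∣ Nat.card N := Subgroup.card_dvd_of_le inf_le_right
  have heq : Nat.card ↥(K ⊓ N) = Nat.card N := Nat.dvd_antisymm hle hdvd
  have : K ⊓ N = N := by
    apply Subgroup.eq_of_le_of_card_ge inf_le_right
    rw [heq]
  rw [← this]
  exact inf_le_left

/-- `F(G)` is the join of the `p`-cores (finite `G`). -/
theorem fittingSubgroup_eq_iSup_pCore [Finite G] :
    Cfsg.fittingSubgroup G = ⨆ p : Nat.Primes, Cfsg.pCore (p : ℕ) G := by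
  apply le_antisymm
  · apply sSup_le
    rintro N ⟨hN, hn⟩
    exact normal_nilpotent_le_iSup_pCore hN hn
  · apply iSup_le
    intro p
    haveI : Fact (p : ℕ).Prime := ⟨p.2⟩
    exact le_fittingSubgroup (pCore_normal' p G) (pCore_isPGroup' p G).isNilpotent

/-- Fitting's theorem. -/
theorem fittingSubgroup_isNilpotent [Finite G] : Group.IsNilpotent (Cfsg.fittingSubgroup G) := by
  rw [fittingSubgroup_eq_iSup_pCore]
  exact iSup_pCore_isNilpotent

end Cfsg.Agent.Lib.Helper22
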