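import Mathlib
import Cfsg.Prelude.Def_Local
import Cfsg.Agent.Lib.Helper21.Components
import Cfsg.Agent.Lib.Helper22.Fitting

set_option autoImplicit false
set_option linter.style.haveILetI false

namespace Cfsg.Agent.Lib.Helper22

open Subgroup
open scoped commutatorElement

universe u v

section transport

variable {G : Type u} [Group G] {H : Type v} [Group H]

/-- Components are preserved by isomorphisms. -/
theorem isComponent_map_equiv (e : G ≃* H) {K : Subgroup G} (hK : Cfsg.IsComponent K) :
    Cfsg.IsComponent (K.map e.toMonoidHom) := by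
  refine ⟨hK.1.map e.surjective, ?_⟩
  exact Cfsg.Agent.Lib.Helper21.quasisimple_of_mulEquiv
    (K.equivMapOfInjective e.toMonoidHom e.injective) hK.2

theorem layer_map_equiv_le (e : G ≃* H) : (Cfsg.layer G).map e.toMonoidHom ≤ Cfsg.layer H := by
  rw [Subgroup.map_le_iff_le_comap]
  apply sSup_le
  intro K hK
  rw [← Subgroup.map_le_iff_le_comap]
  exact le_sSup (isComponent_map_equiv e hK)

theorem map_equiv_symm_map (e : G ≃* H) (K : Subgroup H) :
    (K.map e.symm.toMonoidHom).map e.toMonoidHom = K := by
  ext x
  constructor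
  · rintro ⟨_, ⟨y, hy, rfl⟩, rfl⟩
    simpa using hy
  · intro hx
    exact ⟨e.symm x, ⟨x, hx, rfl⟩, by simp⟩

/-- The layer is preserved by isomorphisms. -/
theorem layer_map_equiv (e : G ≃* H) : (Cfsg.layer G).map e.toMonoidHom = Cfsg.layer H := by
  apply le_antisymm (layer_map_equiv_le e)
  have h := layer_map_equiv_le e.symm
  have h2 := Subgroup.map_mono (f := e.toMonoidHom) h
  rwa [map_equiv_symm_map] at h2

theorem fittingSubgroup_map_equiv_le (e : G ≃* H) :
    (Cfsg.fittingSubgroup G).map e.toMonoidHom ≤ Cfsg.fittingSubgroup H := by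
  rw [Subgroup.map_le_iff_le_comap]
  apply sSup_le
  rintro N ⟨hNn, hNnil⟩
  rw [← Subgroup.map_le_iff_le_comap]
  apply le_sSup
  refine ⟨hNn.map _ e.surjective, ?_⟩
  exact Group.nilpotent_of_mulEquiv (N.equivMapOfInjective e.toMonoidHom e.injective)

/-- The Fitting subgroup is preserved by isomorphisms. -/
theorem fittingSubgroup_map_equiv (e : G ≃* H) :
    (Cfsg.fittingSubgroup G).map e.toMonoidHom = Cfsg.fittingSubgroup H := by
  apply le_antisymm (fittingSubgroup_map_equiv_le e)
  have h := fittingSubgroup_map_equiv_le e.symm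
  have h2 := Subgroup.map_mono (f := e.toMonoidHom) h
  rwa [map_equiv_symm_map] at h2

/-- The generalized Fitting subgroup is preserved by isomorphisms. -/
theorem generalizedFittingSubgroup_map_equiv (e : G ≃* H) :
    (Cfsg.generalizedFittingSubgroup G).map e.toMonoidHom = Cfsg.generalizedFittingSubgroup H := by
  unfold Cfsg.generalizedFittingSubgroup
  rw [Subgroup.map_sup, layer_map_equiv, fittingSubgroup_map_equiv]

end transport

section basics

variable {G : Type u} [Group G]

instance layer_characteristic : (Cfsg.layer G).Characteristic :=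
  Subgroup.characteristic_iff_map_eq.mpr fun ϕ => layer_map_equiv ϕ

instance fittingSubgroup_characteristic : (Cfsg.fittingSubgroup G).Characteristic :=
  Subgroup.characteristic_iff_map_eq.mpr fun ϕ => fittingSubgroup_map_equiv ϕ

instance generalizedFittingSubgroup_characteristic :
    (Cfsg.generalizedFittingSubgroup G).Characteristic :=
  Subgroup.characteristic_iff_map_eq.mpr fun ϕ => generalizedFittingSubgroup_map_equiv ϕ

theorem layer_normal (G : Type u) [Group G] : (Cfsg.layer G).Normal := inferInstance

theorem generalizedFittingSubgroup_normal (G : Type u) [Group G] :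
    (Cfsg.generalizedFittingSubgroup G).Normal := inferInstance

theorem layer_le_generalizedFitting (G : Type u) [Group G] :
    Cfsg.layer G ≤ Cfsg.generalizedFittingSubgroup G := le_sup_left

theorem fitting_le_generalizedFitting (G : Type u) [Group G] :
    Cfsg.fittingSubgroup G ≤ Cfsg.generalizedFittingSubgroup G := le_sup_right

/-- A component is perfect. -/
theorem component_perfect {L : Subgroup G} (hL : Cfsg.IsComponent L) : ⁅L, L⁆ = L := by
  have := hL.2.1
  exact Subgroup.commutator_eq_self

theorem component_le_layer {L : Subgroup G} (hL : Cfsg.IsComponent L) : L ≤ Cfsg.layer G :=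
  le_sSup hL

/-- The layer is perfect. -/
theorem layer_perfect (G : Type u) [Group G] : ⁅Cfsg.layer G, Cfsg.layer G⁆ = Cfsg.layer G := by
  apply le_antisymm (Subgroup.commutator_le_self _)
  apply sSup_le
  intro L hL
  calc L = ⁅L, L⁆ := (component_perfect hL).symm
    _ ≤ ⁅Cfsg.layer G, Cfsg.layer G⁆ :=
      Subgroup.commutator_mono (component_le_layer hL) (component_le_layer hL)

/-- A component centralizes the Fitting subgroup. -/
theorem component_le_centralizer_fitting {L : Subgroup G} (hL : Cfsg.IsComponent L) :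
    L ≤ Subgroup.centralizer (Cfsg.fittingSubgroup G : Set G) := by
  rw [Subgroup.le_centralizer_iff]
  apply sSup_le
  rintro N ⟨hNn, hNnil⟩
  rw [← Subgroup.le_centralizer_iff, ← Subgroup.commutator_eq_bot_iff_le_centralizer]
  apply Cfsg.Agent.Lib.Helper21.component_commutes_solvable hL
  · infer_instance
  · rw [Subgroup.normalizer_eq_top_iff.mpr hNn]
    exact le_top

/-- The layer centralizes the Fitting subgroup. -/
theorem layer_le_centralizer_fitting (G : Type u) [Group G] :
    Cfsg.layer G ≤ Subgroup.centralizer (Cfsg.fittingSubgroup G : Set G) := by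
  apply sSup_le
  intro L hL
  exact component_le_centralizer_fitting hL

theorem commutator_layer_fitting (G : Type u) [Group G] :
    ⁅Cfsg.layer G, Cfsg.fittingSubgroup G⁆ = ⊥ :=
  Subgroup.commutator_eq_bot_iff_le_centralizer.mpr (layer_le_centralizer_fitting G)

end basics


section subnormal

variable {G : Type u} [Group G]

/-- A component of a subnormal subgroup is a component of the whole group. -/
theorem isComponent_map_subtype {H : Subgroup G} (hH : H.IsSubnormal) {K : Subgroup H}
    (hK : Cfsg.IsComponent K) : Cfsg.IsComponent (K.map H.subtype) := by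
  refine ⟨hK.1.trans' hH, ?_⟩
  exact Cfsg.Agent.Lib.Helper21.quasisimple_of_mulEquiv
    (K.equivMapOfInjective H.subtype H.subtype_injective) hK.2

/-- `E(H) ≤ E(G)` for `H` subnormal. -/
theorem layer_map_subtype_le {H : Subgroup G} (hH : H.IsSubnormal) :
    (Cfsg.layer ↥H).map H.subtype ≤ Cfsg.layer G := by
  rw [Subgroup.map_le_iff_le_comap]
  apply sSup_le
  intro K hK
  rw [← Subgroup.map_le_iff_le_comap]
  exact le_sSup (isComponent_map_subtype hH hK)

/-- `F(N) ≤ F(G)` for `N` normal in a finite group. -/
theorem fitting_map_subtype_le_of_normal [Finite G] (N : Subgroup G) [N.Normal] :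
    (Cfsg.fittingSubgroup ↥N).map N.subtype ≤ Cfsg.fittingSubgroup G := by
  have i1 : ((Cfsg.fittingSubgroup ↥N).map N.subtype).Normal :=
    ConjAct.normal_of_characteristic_of_normal
  apply le_fittingSubgroup i1
  have hn : Group.IsNilpotent ↥(Cfsg.fittingSubgroup ↥N) := fittingSubgroup_isNilpotent
  exact Group.nilpotent_of_mulEquiv
    ((Cfsg.fittingSubgroup ↥N).equivMapOfInjective N.subtype N.subtype_injective)

theorem subnormal_nilpotent_le_fitting_aux : ∀ (n : ℕ) (X : Type u) [Group X] [Finite X],
    Nat.card X = n → ∀ Y : Subgroup X, Y.IsSubnormal → Group.IsNilpotent ↥Y →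
      Y ≤ Cfsg.fittingSubgroup X := by
  intro n
  induction n using Nat.strong_induction_on with
  | _ n ih =>
    intro X _ _ hn Y hY hc
    by_cases htop : Y = ⊤
    · subst htop
      exact le_fittingSubgroup inferInstance hc
    · obtain ⟨N, hNn, hYN, hNtop⟩ := hY.exists_normal_and_le_and_lt_top_of_ne htop
      have hlt : Nat.card ↥N < n := by
        rw [← hn]
        have h1 := Subgroup.card_le_card_group N
        rcases lt_or_eq_of_le h1 with h | h
        · exact h
        · exact absurd (Subgroup.card_eq_iff_eq_top N |>.mp h) hNtop.ne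
      have hsub : (Y.subgroupOf N).IsSubnormal := hY.subgroupOf
      have hnil : Group.IsNilpotent ↥(Y.subgroupOf N) :=
        Group.nilpotent_of_mulEquiv (Subgroup.subgroupOfEquivOfLe hYN).symm
      have h2 := ih (Nat.card ↥N) hlt ↥N rfl (Y.subgroupOf N) hsub hnil
      have h3 : Y = (Y.subgroupOf N).map N.subtype := (Subgroup.map_subgroupOf_eq_of_le hYN).symm
      rw [h3]
      exact (Subgroup.map_mono h2).trans (fitting_map_subtype_le_of_normal N)

/-- A subnormal nilpotent subgroup of a finite group lies in the Fitting subgroup. -/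
theorem subnormal_nilpotent_le_fitting {X : Type u} [Group X] [Finite X] (Y : Subgroup X)
    (hY : Y.IsSubnormal) (hc : Group.IsNilpotent ↥Y) : Y ≤ Cfsg.fittingSubgroup X :=
  subnormal_nilpotent_le_fitting_aux _ X rfl Y hY hc

/-- `F(H) ≤ F(G)` for `H` subnormal in a finite group. -/
theorem fitting_map_subtype_le [Finite G] {H : Subgroup G} (hH : H.IsSubnormal) :
    (Cfsg.fittingSubgroup ↥H).map H.subtype ≤ Cfsg.fittingSubgroup G := by
  apply subnormal_nilpotent_le_fitting
  · exact (fittingSubgroup_normal ↥H).isSubnormal.trans' hH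
  · have hn : Group.IsNilpotent ↥(Cfsg.fittingSubgroup ↥H) := fittingSubgroup_isNilpotent
    exact Group.nilpotent_of_mulEquiv
      ((Cfsg.fittingSubgroup ↥H).equivMapOfInjective H.subtype H.subtype_injective)

/-- `F*(H) ≤ F*(G)` for `H` subnormal in a finite group. -/
theorem generalizedFitting_map_subtype_le [Finite G] {H : Subgroup G} (hH : H.IsSubnormal) :
    (Cfsg.generalizedFittingSubgroup ↥H).map H.subtype ≤ Cfsg.generalizedFittingSubgroup G := by
  unfold Cfsg.generalizedFittingSubgroup
  rw [Subgroup.map_sup]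
  exact sup_le_sup (layer_map_subtype_le hH) (fitting_map_subtype_le hH)

end subnormal


section selfcentralizing

/-- A group whose derived subgroup is central is nilpotent. -/
theorem isNilpotent_of_commutator_le_center {S : Type u} [Group S]
    (h : commutator S ≤ Subgroup.center S) : Group.IsNilpotent S := by
  refine ⟨⟨2, ?_⟩⟩
  rw [eq_top_iff]
  intro x _
  rw [show (2 : ℕ) = 1 + 1 from rfl, Subgroup.mem_upperCentralSeries_succ_iff]
  intro y
  rw [Subgroup.upperCentralSeries_one]
  apply h
  rw [commutator_def]
  exact Subgroup.commutator_mem_commutator (Subgroup.mem_top x) (Subgroup.mem_top y)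

/-- If every proper normal subgroup of `S` lies in a central subgroup `Z`, then `S` is nilpotent or
quasisimple. -/
theorem isNilpotent_or_isQuasisimple {S : Type u} [Group S] (Z : Subgroup S)
    (hZ : Z ≤ Subgroup.center S) (h : ∀ N : Subgroup S, N.Normal → N ≠ ⊤ → N ≤ Z) :
    Group.IsNilpotent S ∨ Cfsg.IsQuasisimple S := by
  by_cases hc : commutator S ≤ Subgroup.center S
  · exact Or.inl (isNilpotent_of_commutator_le_center hc)
  · right
    have hperf : commutator S = ⊤ := by
      by_contra hne
      exact hc ((h _ inferInstance hne).trans hZ)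
    have hcen : Subgroup.center S ≠ ⊤ := by
      intro htop
      apply hc
      rw [htop]
      exact le_top
    refine ⟨⟨hperf⟩, ?_⟩
    haveI : Nontrivial (S ⧸ Subgroup.center S) := QuotientGroup.nontrivial_iff.mpr hcen
    refine ⟨fun Nbar hNbar => ?_⟩
    have hsurj : Function.Surjective (QuotientGroup.mk' (Subgroup.center S)) :=
      QuotientGroup.mk'_surjective _
    have hmap : (Nbar.comap (QuotientGroup.mk' (Subgroup.center S))).map
        (QuotientGroup.mk' (Subgroup.center S)) = Nbar :=
      Subgroup.map_comap_eq_self_of_surjective hsurj Nbar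
    by_cases htop : Nbar.comap (QuotientGroup.mk' (Subgroup.center S)) = ⊤
    · right
      rw [← hmap, htop]
      exact Subgroup.map_top_of_surjective _ hsurj
    · left
      have hle := (h _ (hNbar.comap _) htop).trans hZ
      rw [← hmap, eq_bot_iff]
      calc (Nbar.comap (QuotientGroup.mk' (Subgroup.center S))).map
            (QuotientGroup.mk' (Subgroup.center S))
          ≤ (Subgroup.center S).map (QuotientGroup.mk' (Subgroup.center S)) :=
            Subgroup.map_mono hle
        _ = ⊥ := by
            rw [Subgroup.map_eq_bot_iff, QuotientGroup.ker_mk']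

variable {G : Type u} [Group G]

theorem le_generalizedFitting_of_le_centralizer_aux [Finite G] : ∀ (n : ℕ) (S : Subgroup G),
    Nat.card ↥S = n → S.IsSubnormal →
    S ≤ Subgroup.centralizer (Cfsg.generalizedFittingSubgroup G : Set G) →
    S ≤ Cfsg.generalizedFittingSubgroup G := by
  intro n
  induction n using Nat.strong_induction_on with
  | _ n ih =>
    intro S hn hS hSc
    set Z : Subgroup ↥S := (Cfsg.generalizedFittingSubgroup G).subgroupOf S with hZdef
    have hZ : Z ≤ Subgroup.center ↥S := by
      intro z hz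
      rw [Subgroup.mem_center_iff]
      intro s
      apply Subtype.ext
      have h1 := hSc s.2
      rw [Subgroup.mem_centralizer_iff] at h1
      have hz' : (z : G) ∈ Cfsg.generalizedFittingSubgroup G := hz
      simpa using (h1 (z : G) hz').symm
    have hprop : ∀ N : Subgroup ↥S, N.Normal → N ≠ ⊤ → N ≤ Z := by
      intro N hN hNtop
      have hsn : (N.map S.subtype).IsSubnormal := hN.isSubnormal.trans' hS
      have hle : N.map S.subtype ≤ S := Subgroup.map_subtype_le N
      have hcard : Nat.card ↥(N.map S.subtype) = Nat.card ↥N :=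
        Nat.card_congr (N.equivMapOfInjective S.subtype S.subtype_injective).symm.toEquiv
      have hlt : Nat.card ↥(N.map S.subtype) < n := by
        rw [hcard, ← hn]
        have h1 := Subgroup.card_le_card_group N
        rcases lt_or_eq_of_le h1 with h | h
        · exact h
        · exact absurd (Subgroup.card_eq_iff_eq_top N |>.mp h) hNtop
      have := ih _ hlt (N.map S.subtype) rfl hsn (hle.trans hSc)
      intro x hx
      rw [hZdef, Subgroup.mem_subgroupOf]
      exact this ⟨x, hx, rfl⟩
    rcases isNilpotent_or_isQuasisimple Z hZ hprop with hnil | hqs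
    · exact (subnormal_nilpotent_le_fitting S hS hnil).trans (fitting_le_generalizedFitting G)
    · have : Cfsg.IsComponent S := ⟨hS, hqs⟩
      exact (component_le_layer this).trans (layer_le_generalizedFitting G)

/-- A subnormal subgroup centralizing `F*(G)` lies in `F*(G)`. -/
theorem le_generalizedFitting_of_le_centralizer [Finite G] {S : Subgroup G} (hS : S.IsSubnormal)
    (hSc : S ≤ Subgroup.centralizer (Cfsg.generalizedFittingSubgroup G : Set G)) :
    S ≤ Cfsg.generalizedFittingSubgroup G :=
  le_generalizedFitting_of_le_centralizer_aux _ S rfl hS hSc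

/-- `C_G(F*(G)) ≤ F*(G)` for a finite group `G`. -/
theorem centralizer_generalizedFitting_le (G : Type u) [Group G] [Finite G] :
    Subgroup.centralizer (Cfsg.generalizedFittingSubgroup G : Set G) ≤
      Cfsg.generalizedFittingSubgroup G := by
  apply le_generalizedFitting_of_le_centralizer _ le_rfl
  have : (Subgroup.centralizer (Cfsg.generalizedFittingSubgroup G : Set G)).Normal :=
    inferInstance
  exact this.isSubnormal

end selfcentralizing


section center

variable {G : Type u} [Group G]

/-- A commutative group is nilpotent (unbundled commutativity). -/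
theorem isNilpotent_of_isMulCommutative (S : Type u) [Group S] [IsMulCommutative S] :
    Group.IsNilpotent S :=
  ⟨⟨1, Subgroup.upperCentralSeries_one_eq_top_iff.mpr inferInstance⟩⟩

/-- `Z(E(G)) ≤ F(G)`. -/
theorem center_layer_le_fitting (G : Type u) [Group G] :
    (Subgroup.center ↥(Cfsg.layer G)).map (Cfsg.layer G).subtype ≤ Cfsg.fittingSubgroup G := by
  have i1 : ((Subgroup.center ↥(Cfsg.layer G)).map (Cfsg.layer G).subtype).Normal :=
    ConjAct.normal_of_characteristic_of_normal
  apply le_fittingSubgroup i1
  have := isNilpotent_of_isMulCommutative ↥(Subgroup.center ↥(Cfsg.layer G))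
  exact Group.nilpotent_of_mulEquiv
    ((Subgroup.center ↥(Cfsg.layer G)).equivMapOfInjective (Cfsg.layer G).subtype
      (Cfsg.layer G).subtype_injective)

/-- `Z(E(G)) = F(G) ∩ E(G)`. -/
theorem center_layer_eq (G : Type u) [Group G] :
    (Subgroup.center ↥(Cfsg.layer G)).map (Cfsg.layer G).subtype =
      Cfsg.fittingSubgroup G ⊓ Cfsg.layer G := by
  apply le_antisymm
  · exact le_inf (center_layer_le_fitting G) (Subgroup.map_subtype_le _)
  · rintro x ⟨hxF, hxE⟩
    refine ⟨⟨x, hxE⟩, ?_, rfl⟩
    rw [SetLike.mem_coe, Subgroup.mem_center_iff]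
    intro e
    apply Subtype.ext
    have h1 := layer_le_centralizer_fitting G e.2
    rw [Subgroup.mem_centralizer_iff] at h1
    exact (h1 x hxF).symm

end center


section structureThm

variable {G : Type u} [Group G]

/-- A group embedding into a nilpotent group is nilpotent. -/
theorem isNilpotent_of_injective' {A : Type u} {B : Type v} [Group A] [Group B] (f : A →* B)
    (hf : Function.Injective f) (hB : Group.IsNilpotent B) : Group.IsNilpotent A := by
  refine Subgroup.isNilpotent_of_ker_le_center f ?_
  rw [(MonoidHom.ker_eq_bot_iff f).mpr hf]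
  exact bot_le

/-- Elements of a join of two elementwise commuting subgroups are products. -/
theorem exists_mul_of_mem_sup_of_commute {A B : Subgroup G}
    (hc : ∀ a ∈ A, ∀ b ∈ B, a * b = b * a) {x : G} (hx : x ∈ A ⊔ B) :
    ∃ a ∈ A, ∃ b ∈ B, x = a * b := by
  have hle : A ≤ Subgroup.normalizer (B : Set G) := by
    refine le_trans ?_ (Subgroup.centralizer_le_normalizer _)
    intro a ha
    rw [Subgroup.mem_centralizer_iff]
    intro b hb
    exact (hc a ha b hb).symm
  have h := Subgroup.coe_mul_of_left_le_normalizer_right A B hle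
  have hx' : x ∈ ((A ⊔ B : Subgroup G) : Set G) := hx
  rw [h] at hx'
  obtain ⟨a, ha, b, hb, rfl⟩ := Set.mem_mul.mp hx'
  exact ⟨a, ha, b, hb, rfl⟩

/-- `F(S) = F(G) ∩ S` for `S` subnormal in a finite group. -/
theorem fitting_subnormal_eq [Finite G] {S : Subgroup G} (hS : S.IsSubnormal) :
    (Cfsg.fittingSubgroup ↥S).map S.subtype = Cfsg.fittingSubgroup G ⊓ S := by
  apply le_antisymm
  · exact le_inf (fitting_map_subtype_le hS) (Subgroup.map_subtype_le _)
  · have i0 : (Cfsg.fittingSubgroup G).Normal := fittingSubgroup_normal G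
    have i1 : ((Cfsg.fittingSubgroup G).subgroupOf S).Normal := inferInstance
    have hnF : Group.IsNilpotent ↥(Cfsg.fittingSubgroup G) := fittingSubgroup_isNilpotent
    have i2 : Group.IsNilpotent ↥((Cfsg.fittingSubgroup G).subgroupOf S) := by
      let f : ↥((Cfsg.fittingSubgroup G).subgroupOf S) →* ↥(Cfsg.fittingSubgroup G) :=
        { toFun := fun x => ⟨((x : ↥S) : G), x.2⟩
          map_one' := rfl
          map_mul' := fun _ _ => rfl }
      have hf : Function.Injective f := by
        intro x y hxy
        apply Subtype.ext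
        apply Subtype.ext
        exact congrArg (fun z : ↥(Cfsg.fittingSubgroup G) => (z : G)) hxy
      exact isNilpotent_of_injective' f hf hnF
    have h3 := le_fittingSubgroup i1 i2
    rintro x ⟨hxF, hxS⟩
    exact ⟨⟨x, hxS⟩, h3 hxF, rfl⟩

/-- A subnormal subgroup of a finite group contained in `F*(G)` is generated by its layer and its
Fitting subgroup. -/
theorem le_layer_sup_fitting_of_subnormal [Finite G] {S : Subgroup G} (hS : S.IsSubnormal)
    (hle : S ≤ Cfsg.generalizedFittingSubgroup G) :
    S ≤ (Cfsg.layer ↥S).map S.subtype ⊔ (Cfsg.fittingSubgroup ↥S).map S.subtype := by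
  set E₁ : Subgroup G := sSup {L | Cfsg.IsComponent L ∧ L ≤ S} with hE₁
  set E₂ : Subgroup G := sSup {L | Cfsg.IsComponent L ∧ ⁅L, S⁆ = ⊥} with hE₂
  have hF : (Cfsg.fittingSubgroup G).Normal := fittingSubgroup_normal G
  have hlayer : Cfsg.layer G ≤ E₁ ⊔ E₂ := by
    apply sSup_le
    intro L hL
    rcases Cfsg.Agent.Lib.Helper21.component_le_or_commutes hL hS with h | h
    · exact (le_sSup (show L ∈ {L | Cfsg.IsComponent L ∧ L ≤ S} from ⟨hL, h⟩)).trans le_sup_left
    · exact (le_sSup (show L ∈ {L | Cfsg.IsComponent L ∧ ⁅L, S⁆ = ⊥} from ⟨hL, h⟩)).trans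
        le_sup_right
  have hE₁S : E₁ ≤ S := sSup_le fun L hL => hL.2
  have hE₁layer : E₁ ≤ (Cfsg.layer ↥S).map S.subtype := by
    apply sSup_le
    rintro L ⟨hL, hLS⟩
    have hc := Cfsg.Agent.Lib.Helper21.component_subgroupOf hL hLS
    have := Subgroup.map_mono (f := S.subtype) (component_le_layer hc)
    rwa [Subgroup.map_subgroupOf_eq_of_le hLS] at this
  have hE₂c : E₂ ≤ Subgroup.centralizer (S : Set G) := by
    apply sSup_le
    rintro L ⟨_, hLS⟩
    exact Subgroup.commutator_eq_bot_iff_le_centralizer.mp hLS
  have hE₂layer : E₂ ≤ Cfsg.layer G := sSup_le fun L hL => component_le_layer hL.1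
  have hE₁layer' : E₁ ≤ Cfsg.layer G := sSup_le fun L hL => component_le_layer hL.1
  have hcomm : ∀ a ∈ E₁, ∀ b ∈ E₂, a * b = b * a := by
    intro a ha b hb
    have := hE₂c hb
    rw [Subgroup.mem_centralizer_iff] at this
    exact this a (hE₁S ha)
  intro s hs
  have hs' : s ∈ (E₁ ⊔ E₂) ⊔ Cfsg.fittingSubgroup G := by
    have h1 := hle hs
    unfold Cfsg.generalizedFittingSubgroup at h1
    exact (sup_le_sup_right hlayer _) h1
  obtain ⟨e, he, f, hf, rfl⟩ := Subgroup.mem_sup_of_normal_right.mp hs'
  obtain ⟨e₁, he₁, e₂, he₂, rfl⟩ := exists_mul_of_mem_sup_of_commute hcomm he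
  -- y = e₂ * f lies in S
  have hy : e₂ * f ∈ S := by
    have : e₂ * f = e₁⁻¹ * (e₁ * e₂ * f) := by group
    rw [this]
    exact S.mul_mem (S.inv_mem (hE₁S he₁)) hs
  -- e₂ is central in the layer
  have hcF : ∀ g ∈ Cfsg.layer G, g * f = f * g := by
    intro g hg
    have := layer_le_centralizer_fitting G hg
    rw [Subgroup.mem_centralizer_iff] at this
    exact (this f hf).symm
  have he₂c : ∀ g ∈ Cfsg.layer G, g * e₂ = e₂ * g := by
    have hsub : Cfsg.layer G ≤ Subgroup.centralizer ({e₂} : Set G) := by
      refine hlayer.trans (sup_le ?_ ?_)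
      · intro a ha
        rw [Subgroup.mem_centralizer_singleton_iff]
        exact hcomm a ha e₂ he₂
      · intro g hg
        rw [Subgroup.mem_centralizer_singleton_iff]
        have h1 : (e₂ * f) * g = g * (e₂ * f) := by
          have := hE₂c hg
          rw [Subgroup.mem_centralizer_iff] at this
          exact this _ hy
        have h2 := hcF g (hE₂layer hg)
        calc g * e₂ = g * (e₂ * f) * f⁻¹ := by group
          _ = (e₂ * f) * g * f⁻¹ := by rw [h1]
          _ = e₂ * (f * g) * f⁻¹ := by group
          _ = e₂ * (g * f) * f⁻¹ := by rw [h2]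
          _ = e₂ * g := by group
    intro g hg
    exact Subgroup.mem_centralizer_singleton_iff.mp (hsub hg)
  have he₂F : e₂ ∈ Cfsg.fittingSubgroup G := by
    apply center_layer_le_fitting G
    refine ⟨⟨e₂, hE₂layer he₂⟩, ?_, rfl⟩
    rw [SetLike.mem_coe, Subgroup.mem_center_iff]
    intro g
    apply Subtype.ext
    exact he₂c g g.2
  have hyF : e₂ * f ∈ (Cfsg.fittingSubgroup ↥S).map S.subtype := by
    rw [fitting_subnormal_eq hS]
    exact ⟨(Cfsg.fittingSubgroup G).mul_mem he₂F hf, hy⟩
  have : e₁ * e₂ * f = e₁ * (e₂ * f) := by group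
  rw [this]
  exact Subgroup.mul_mem_sup (hE₁layer he₁) hyF

/-- For `S` subnormal in a finite group with `S ≤ F*(G)`: `S = F(S)E(S)`. -/
theorem fitting_sup_layer_eq_top_of_subnormal [Finite G] {S : Subgroup G} (hS : S.IsSubnormal)
    (hle : S ≤ Cfsg.generalizedFittingSubgroup G) :
    Cfsg.fittingSubgroup ↥S ⊔ Cfsg.layer ↥S = ⊤ := by
  rw [eq_top_iff]
  intro s _
  have h1 := le_layer_sup_fitting_of_subnormal hS hle s.2
  rw [← Subgroup.map_sup, sup_comm] at h1
  exact (Subgroup.mem_map_iff_mem S.subtype_injective).mp h1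

/-- `F*(S) = S` for `S` subnormal in a finite group with `S ≤ F*(G)`. -/
theorem generalizedFitting_eq_top_of_subnormal [Finite G] {S : Subgroup G} (hS : S.IsSubnormal)
    (hle : S ≤ Cfsg.generalizedFittingSubgroup G) :
    Cfsg.generalizedFittingSubgroup ↥S = ⊤ := by
  unfold Cfsg.generalizedFittingSubgroup
  rw [sup_comm]
  exact fitting_sup_layer_eq_top_of_subnormal hS hle

/-- `F*(G) ∩ B = F*(B)` for `B` normal in the finite group `G`. -/
theorem generalizedFitting_inf_normal [Finite G] (B : Subgroup G) [B.Normal] :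
    Cfsg.generalizedFittingSubgroup G ⊓ B =
      (Cfsg.generalizedFittingSubgroup ↥B).map B.subtype := by
  have hB : B.IsSubnormal := Subgroup.Normal.isSubnormal inferInstance
  apply le_antisymm
  · set S := Cfsg.generalizedFittingSubgroup G ⊓ B with hSdef
    have hSn : S.Normal := by
      have := generalizedFittingSubgroup_normal G
      exact Subgroup.normal_inf_normal _ _
    have hS : S.IsSubnormal := hSn.isSubnormal
    have htop := generalizedFitting_eq_top_of_subnormal hS inf_le_left
    -- S is subnormal in B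
    have hSB : (S.subgroupOf B).IsSubnormal := hS.subgroupOf
    have h1 := generalizedFitting_map_subtype_le hSB
    -- transport F*(S) to F*(S.subgroupOf B)
    have e : ↥(S.subgroupOf B) ≃* ↥S := Subgroup.subgroupOfEquivOfLe (inf_le_right : S ≤ B)
    have h2 : Cfsg.generalizedFittingSubgroup ↥(S.subgroupOf B) = ⊤ := by
      have := generalizedFittingSubgroup_map_equiv e.symm
      rw [htop] at this
      rw [← this]
      exact Subgroup.map_top_of_surjective _ e.symm.surjective
    rw [h2, ← MonoidHom.range_eq_map, Subgroup.range_subtype] at h1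
    intro x hx
    exact ⟨⟨x, hx.2⟩, h1 (Subgroup.mem_subgroupOf.mpr hx), rfl⟩
  · exact le_inf (generalizedFitting_map_subtype_le hB) (Subgroup.map_subtype_le _)

end structureThm


section commute

variable {G : Type u} [Group G]

/-- A component is not the trivial subgroup. -/
theorem component_ne_bot {L : Subgroup G} (hL : Cfsg.IsComponent L) : L ≠ ⊥ := by
  intro h
  have := Cfsg.Agent.Lib.Helper21.quasisimple_nontrivial hL.2
  rw [h] at this
  exact not_nontrivial _ this

/-- Distinct components commute. -/
theorem components_commute {L K : Subgroup G} (hL : Cfsg.IsComponent L) (hK : Cfsg.IsComponent K)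
    (hne : L ≠ K) : ⁅L, K⁆ = ⊥ := by
  rcases Cfsg.Agent.Lib.Helper21.component_le_or_commutes hL hK.1 with h | h
  · exfalso
    have hsn : (L.subgroupOf K).IsSubnormal := hL.1.subgroupOf
    rcases Cfsg.Agent.Lib.Helper21.quasisimple_subnormal hK.2 hsn with h1 | h1
    · rw [Subgroup.subgroupOf_eq_top] at h1
      exact hne (le_antisymm h h1)
    · have hab : ⁅L, L⁆ = ⊥ := by
        rw [Subgroup.commutator_eq_bot_iff_le_centralizer]
        intro a ha
        rw [Subgroup.mem_centralizer_iff]
        intro b hb
        have ha' : (⟨a, h ha⟩ : ↥K) ∈ L.subgroupOf K := Subgroup.mem_subgroupOf.mpr ha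
        have hc := h1 ha'
        rw [Subgroup.mem_center_iff] at hc
        exact congrArg Subtype.val (hc ⟨b, h hb⟩)
      rw [component_perfect hL] at hab
      exact component_ne_bot hL hab
  · exact h

/-- Conjugation transports `subgroupOf`-components. -/
theorem isComponent_subgroupOf_map_conj {K H : Subgroup G} (g : G)
    (h : Cfsg.IsComponent (K.subgroupOf H)) :
    Cfsg.IsComponent ((K.map (MulAut.conj g).toMonoidHom).subgroupOf
      (H.map (MulAut.conj g).toMonoidHom)) := by
  let e : ↥H ≃* ↥(H.map (MulAut.conj g).toMonoidHom) :=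
    H.equivMapOfInjective (MulAut.conj g).toMonoidHom (MulAut.conj g).injective
  have h1 := isComponent_map_equiv e h
  have h2 : (K.subgroupOf H).map e.toMonoidHom =
      (K.map (MulAut.conj g).toMonoidHom).subgroupOf (H.map (MulAut.conj g).toMonoidHom) := by
    ext ⟨z, hz⟩
    constructor
    · rintro ⟨⟨y, hy⟩, hyK, hyz⟩
      rw [Subgroup.mem_subgroupOf]
      have : (MulAut.conj g) y = z := congrArg Subtype.val hyz
      exact ⟨y, Subgroup.mem_subgroupOf.mp hyK, this⟩
    · intro hzK
      rw [Subgroup.mem_subgroupOf] at hzK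
      obtain ⟨y, hyK, hyz⟩ := hzK
      obtain ⟨y', hy'H, hy'z⟩ := hz
      have hyy' : y = y' := (MulAut.conj g).injective (hyz.trans hy'z.symm)
      subst hyy'
      exact ⟨⟨y, hy'H⟩, Subgroup.mem_subgroupOf.mpr hyK, Subtype.ext hyz⟩
  rwa [h2] at h1

/-- Conjugation of a centralizer. -/
theorem map_conj_centralizer (g : G) (S : Subgroup G) :
    (Subgroup.centralizer (S : Set G)).map (MulAut.conj g).toMonoidHom =
      Subgroup.centralizer ((S.map (MulAut.conj g).toMonoidHom : Subgroup G) : Set G) := by
  ext z
  constructor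
  · rintro ⟨c, hc, rfl⟩
    rw [Subgroup.mem_centralizer_iff]
    rintro _ ⟨s, hs, rfl⟩
    have := (Subgroup.mem_centralizer_iff.mp hc) s hs
    show (MulAut.conj g) s * (MulAut.conj g) c = (MulAut.conj g) c * (MulAut.conj g) s
    rw [← map_mul, ← map_mul, this]
  · intro hz
    refine ⟨g⁻¹ * z * g, ?_, ?_⟩
    · rw [SetLike.mem_coe, Subgroup.mem_centralizer_iff]
      intro s hs
      have h1 := (Subgroup.mem_centralizer_iff.mp hz) (g * s * g⁻¹) ⟨s, hs, rfl⟩
      calc s * (g⁻¹ * z * g) = g⁻¹ * ((g * s * g⁻¹) * z) * g := by group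
        _ = g⁻¹ * (z * (g * s * g⁻¹)) * g := by rw [h1]
        _ = g⁻¹ * z * g * s := by group
    · show g * (g⁻¹ * z * g) * g⁻¹ = z
      group

/-- Conjugation of the centralizer of an element. -/
theorem map_conj_centralizer_singleton (g y : G) :
    (Subgroup.centralizer ({y} : Set G)).map (MulAut.conj g).toMonoidHom =
      Subgroup.centralizer ({g * y * g⁻¹} : Set G) := by
  ext z
  constructor
  · rintro ⟨c, hc, rfl⟩
    replace hc : c ∈ Subgroup.centralizer {y} := hc
    rw [Subgroup.mem_centralizer_singleton_iff] at hc ⊢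
    show (g * c * g⁻¹) * (g * y * g⁻¹) = (g * y * g⁻¹) * (g * c * g⁻¹)
    calc (g * c * g⁻¹) * (g * y * g⁻¹) = g * (c * y) * g⁻¹ := by group
      _ = g * (y * c) * g⁻¹ := by rw [hc]
      _ = (g * y * g⁻¹) * (g * c * g⁻¹) := by group
  · intro hz
    rw [Subgroup.mem_centralizer_singleton_iff] at hz
    refine ⟨g⁻¹ * z * g, ?_, ?_⟩
    · rw [SetLike.mem_coe, Subgroup.mem_centralizer_singleton_iff]
      calc g⁻¹ * z * g * y = g⁻¹ * (z * (g * y * g⁻¹)) * g := by group
        _ = g⁻¹ * ((g * y * g⁻¹) * z) * g := by rw [hz]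
        _ = y * (g⁻¹ * z * g) := by group
    · show g * (g⁻¹ * z * g) * g⁻¹ = z
      group

end commute

end Cfsg.Agent.Lib.Helper22
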