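import Cfsg.Agent.Lib.Helper22.CharP
import Cfsg.Agent.Lib.Helper21.SupNormalizer
import Cfsg.Agent.Lib.Helper64.TI

set_option autoImplicit false

/-!
# More on groups with `F*(X)` a `p`-group
-/

namespace Cfsg.Agent.Lib.Helper22

universe u v

section charp2

/-- `F*(X)` is a `p`-group iff `F*(X) = O_p(X)`. -/
theorem isPGroup_generalizedFitting_iff {X : Type u} [Group X] [Finite X] (p : ℕ) [Fact p.Prime] :
    IsPGroup p ↥(Cfsg.generalizedFittingSubgroup X) ↔
      Cfsg.generalizedFittingSubgroup X = Cfsg.pCore p X := by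
  constructor
  · intro h
    apply le_antisymm
    · exact le_pCore' (generalizedFittingSubgroup_normal X) h
    · exact (pCore_le_fitting p).trans (fitting_le_generalizedFitting X)
  · intro h
    rw [h]
    exact pCore_isPGroup' p X

/-- Being a `p`-group for `F*` is invariant under isomorphism. -/
theorem isPGroup_generalizedFitting_of_equiv {A : Type u} {B : Type v} [Group A] [Group B]
    (p : ℕ) (e : A ≃* B) (h : IsPGroup p ↥(Cfsg.generalizedFittingSubgroup A)) :
    IsPGroup p ↥(Cfsg.generalizedFittingSubgroup B) := by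
  rw [← generalizedFittingSubgroup_map_equiv e]
  exact h.map _

/-- If `C ⊴ X` has `p`-power index and `F*(C)` is a `p`-group, then `F*(X)` is a `p`-group. -/
theorem isPGroup_generalizedFitting_of_normal {X : Type u} [Group X] [Finite X] (p : ℕ)
    [Fact p.Prime] (C : Subgroup X) [C.Normal] (hidx : ∃ k : ℕ, C.index = p ^ k)
    (hC : IsPGroup p ↥(Cfsg.generalizedFittingSubgroup ↥C)) :
    IsPGroup p ↥(Cfsg.generalizedFittingSubgroup X) := by
  set Fs := Cfsg.generalizedFittingSubgroup X with hFs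
  have h1 : Fs ⊓ C = (Cfsg.generalizedFittingSubgroup ↥C).map C.subtype :=
    generalizedFitting_inf_normal C
  have h2 : IsPGroup p ↥(Fs ⊓ C) := by
    rw [h1]; exact hC.map _
  obtain ⟨a, ha⟩ := IsPGroup.iff_card.mp h2
  obtain ⟨k, hk⟩ := hidx
  -- |Fs| = |Fs ⊓ C| * [Fs : Fs ⊓ C], and the relative index divides the index of C
  have h3 : C.relIndex Fs ∣ C.index := Subgroup.relIndex_dvd_index_of_normal C Fs
  rw [hk] at h3
  obtain ⟨b, -, hb⟩ := (Nat.dvd_prime_pow (Fact.out : p.Prime)).mp h3
  have h4 : Nat.card ↥(Fs ⊓ C) * (Fs ⊓ C).relIndex Fs = Nat.card ↥Fs :=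
    Cfsg.Agent.Lib.Helper55.card_mul_relIndex_eq inf_le_left
  have h5 : (Fs ⊓ C).relIndex Fs = C.relIndex Fs := by
    rw [inf_comm, Subgroup.inf_relIndex_right]
  apply IsPGroup.of_card (n := a + b)
  rw [← h4, ha, h5, hb, pow_add]

/-- If `F*(X)` is a `p`-group and `U` is a `p`-subgroup, then `F*(C_X(U))` is a `p`-group. -/
theorem isPGroup_generalizedFitting_centralizer {X : Type u} [Group X] [Finite X] (p : ℕ)
    [Fact p.Prime] (h : IsPGroup p ↥(Cfsg.generalizedFittingSubgroup X)) (U : Subgroup X)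
    (hU : IsPGroup p ↥U) :
    IsPGroup p ↥(Cfsg.generalizedFittingSubgroup ↥(Subgroup.centralizer (U : Set X))) := by
  set N := Subgroup.normalizer (U : Set X) with hN
  set C := Subgroup.centralizer (U : Set X) with hC
  have hCN : C ≤ N := Subgroup.centralizer_le_normalizer _
  have h1 : Cfsg.generalizedFittingSubgroup ↥N = Cfsg.pCore p ↥N :=
    generalizedFitting_normalizer_eq_pCore p ((isPGroup_generalizedFitting_iff p).mp h) U hU
  have hn : (C.subgroupOf N).Normal := by
    apply Subgroup.normal_subgroupOf_of_le_normalizer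
    intro x hx
    rw [Subgroup.mem_normalizer_iff]
    intro c
    have key : ∀ y ∈ N, ∀ w ∈ C, y * w * y⁻¹ ∈ C := by
      intro y hy w hw
      rw [hC, Subgroup.mem_centralizer_iff]
      intro u hu
      have hu' : y⁻¹ * u * y ∈ U := by
        have := (Subgroup.mem_normalizer_iff.mp (N.inv_mem hy) u).mp hu
        simpa using this
      have hc := Subgroup.mem_centralizer_iff.mp hw _ hu'
      calc u * (y * w * y⁻¹) = y * ((y⁻¹ * u * y) * w) * y⁻¹ := by group
        _ = y * (w * (y⁻¹ * u * y)) * y⁻¹ := by rw [hc]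
        _ = y * w * y⁻¹ * u := by group
    constructor
    · exact key x hx c
    · intro h'
      have := key x⁻¹ (N.inv_mem hx) _ h'
      have e : x⁻¹ * (x * c * x⁻¹) * x⁻¹⁻¹ = c := by group
      rwa [e] at this
  have h2 := generalizedFitting_inf_normal (G := ↥N) (C.subgroupOf N)
  have h3 : IsPGroup p ↥(Cfsg.generalizedFittingSubgroup ↥N ⊓ C.subgroupOf N) := by
    rw [h1]
    exact (pCore_isPGroup' p ↥N).to_le inf_le_left
  rw [h2] at h3
  have h4 : IsPGroup p ↥(Cfsg.generalizedFittingSubgroup ↥(C.subgroupOf N)) := by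
    have hinj : Function.Injective ((C.subgroupOf N).subtype) := Subgroup.subtype_injective _
    let e := Subgroup.equivMapOfInjective
      (Cfsg.generalizedFittingSubgroup ↥(C.subgroupOf N)) (C.subgroupOf N).subtype hinj
    exact h3.of_injective e.toMonoidHom e.injective
  exact isPGroup_generalizedFitting_of_equiv p (Subgroup.subgroupOfEquivOfLe hCN) h4

/-- The normalizer of `V` normalizes the centralizer of `V`. -/
theorem normalizer_le_normalizer_centralizer' {G : Type u} [Group G] (V : Subgroup G) :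
    Subgroup.normalizer (V : Set G) ≤
      Subgroup.normalizer ((Subgroup.centralizer (V : Set G) : Subgroup G) : Set G) := by
  intro x hx
  have key : ∀ y ∈ Subgroup.normalizer (V : Set G), ∀ w ∈ Subgroup.centralizer (V : Set G),
      y * w * y⁻¹ ∈ Subgroup.centralizer (V : Set G) := by
    intro y hy w hw
    rw [Subgroup.mem_centralizer_iff]
    intro u hu
    have hu' : y⁻¹ * u * y ∈ V := by
      have := (Subgroup.mem_normalizer_iff.mp (Subgroup.inv_mem _ hy) u).mp hu
      simpa using this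
    have hc := Subgroup.mem_centralizer_iff.mp hw _ hu'
    calc u * (y * w * y⁻¹) = y * ((y⁻¹ * u * y) * w) * y⁻¹ := by group
      _ = y * (w * (y⁻¹ * u * y)) * y⁻¹ := by rw [hc]
      _ = y * w * y⁻¹ * u := by group
  rw [Subgroup.mem_normalizer_iff]
  intro c
  constructor
  · exact key x hx c
  · intro h'
    have := key x⁻¹ (Subgroup.inv_mem _ hx) _ h'
    have e : x⁻¹ * (x * c * x⁻¹) * x⁻¹⁻¹ = c := by group
    rwa [e] at this

/-- Normal case: `V ≤ U ≤ N_G(V)` `p`-subgroups, `F*(C_G(V))` a `p`-group. Then so is `F*(C_G(U))`. -/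
theorem isPGroup_generalizedFitting_centralizer_of_normal {G : Type u} [Group G] [Finite G] (p : ℕ)
    [Fact p.Prime] (U V : Subgroup G) (hVU : V ≤ U) (hUN : U ≤ Subgroup.normalizer (V : Set G))
    (hU : IsPGroup p ↥U)
    (hV : IsPGroup p ↥(Cfsg.generalizedFittingSubgroup ↥(Subgroup.centralizer (V : Set G)))) :
    IsPGroup p ↥(Cfsg.generalizedFittingSubgroup ↥(Subgroup.centralizer (U : Set G))) := by
  set C := Subgroup.centralizer (V : Set G) with hC
  have hUC : U ≤ Subgroup.normalizer (C : Set G) :=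
    hUN.trans (normalizer_le_normalizer_centralizer' V)
  set H := C ⊔ U with hH
  have hCH : C ≤ H := le_sup_left
  have hUH : U ≤ H := le_sup_right
  have hn : (C.subgroupOf H).Normal := Cfsg.Agent.Lib.Helper21.normal_subgroupOf_sup hUC
  -- index of C in H is a power of p
  have hidx : ∃ k : ℕ, (C.subgroupOf H).index = p ^ k := by
    have h1 : Nat.card ↥H ∣ Nat.card ↥C * Nat.card ↥U := Cfsg.Agent.Lib.Helper21.card_sup_dvd hUC
    have h2 : Nat.card ↥C * C.relIndex H = Nat.card ↥H :=
      Cfsg.Agent.Lib.Helper55.card_mul_relIndex_eq hCH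
    have h3 : C.relIndex H ∣ Nat.card ↥U := by
      rw [← h2] at h1
      exact Nat.dvd_of_mul_dvd_mul_left Nat.card_pos h1
    obtain ⟨a, ha⟩ := IsPGroup.iff_card.mp hU
    rw [ha] at h3
    obtain ⟨k, -, hk⟩ := (Nat.dvd_prime_pow (Fact.out : p.Prime)).mp h3
    exact ⟨k, hk⟩
  have h1 : IsPGroup p ↥(Cfsg.generalizedFittingSubgroup ↥(C.subgroupOf H)) :=
    isPGroup_generalizedFitting_of_equiv p (Subgroup.subgroupOfEquivOfLe hCH).symm hV
  have h2 : IsPGroup p ↥(Cfsg.generalizedFittingSubgroup ↥H) :=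
    isPGroup_generalizedFitting_of_normal p (C.subgroupOf H) hidx h1
  have h3 := isPGroup_generalizedFitting_centralizer p h2 (U.subgroupOf H) hU.comap_subtype
  -- identify the centralizer
  have hCU : Subgroup.centralizer (U : Set G) ≤ H :=
    (Subgroup.centralizer_le hVU).trans hCH
  have h4 : Subgroup.centralizer ((U.subgroupOf H : Subgroup ↥H) : Set ↥H) =
      (Subgroup.centralizer (U : Set G)).subgroupOf H := by
    ext x
    rw [Subgroup.mem_subgroupOf, Subgroup.mem_centralizer_iff, Subgroup.mem_centralizer_iff]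
    constructor
    · intro hx u hu
      have := hx ⟨u, hUH hu⟩ (Subgroup.mem_subgroupOf.mpr hu)
      exact congrArg Subtype.val this
    · intro hx u hu
      apply Subtype.ext
      exact hx (u : G) (Subgroup.mem_subgroupOf.mp hu)
  exact isPGroup_generalizedFitting_of_equiv p
    ((MulEquiv.subgroupCongr h4).trans (Subgroup.subgroupOfEquivOfLe hCU)) h3

/-- **Monotonicity.** Let `V ≤ U` be `p`-subgroups of the finite group `G`. If `F*(C_G(V))` is a
`p`-group, then so is `F*(C_G(U))`. -/
theorem isPGroup_generalizedFitting_centralizer_mono {G : Type u} [Group G] [Finite G] (p : ℕ)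
    [Fact p.Prime] (U : Subgroup G) (hU : IsPGroup p ↥U) :
    ∀ (n : ℕ) (V : Subgroup G), V ≤ U → Nat.card ↥U - Nat.card ↥V = n →
      IsPGroup p ↥(Cfsg.generalizedFittingSubgroup ↥(Subgroup.centralizer (V : Set G))) →
      IsPGroup p ↥(Cfsg.generalizedFittingSubgroup ↥(Subgroup.centralizer (U : Set G))) := by
  intro n
  induction n using Nat.strong_induction_on with
  | _ n ih =>
    intro V hVU hn hV
    by_cases hEq : V = U
    · rw [← hEq]; exact hV
    · have hlt : V < U := lt_of_le_of_ne hVU hEq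
      obtain ⟨x, hxU, hxV, hxN⟩ := Cfsg.Agent.Lib.Helper64.exists_normalizing_not_mem hU hlt
      set V₁ := Subgroup.normalizer (V : Set G) ⊓ U with hV₁
      have hVV₁ : V ≤ V₁ := le_inf Subgroup.le_normalizer hVU
      have hV₁U : V₁ ≤ U := inf_le_right
      have hV₁N : V₁ ≤ Subgroup.normalizer (V : Set G) := inf_le_left
      have hxV₁ : x ∈ V₁ := ⟨hxN, hxU⟩
      have hlt₁ : V < V₁ := lt_of_le_of_ne hVV₁ (fun h => hxV (h ▸ hxV₁))
      have hV₁p : IsPGroup p ↥V₁ := hU.to_le hV₁U
      have h1 := isPGroup_generalizedFitting_centralizer_of_normal p V₁ V hVV₁ hV₁N hV₁p hV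
      have hcard : Nat.card ↥V < Nat.card ↥V₁ := by
        apply lt_of_le_of_ne (Subgroup.card_le_of_le hVV₁)
        intro h
        exact hlt₁.ne (Subgroup.eq_of_le_of_card_ge hVV₁ h.ge)
      have hcard₂ : Nat.card ↥V₁ ≤ Nat.card ↥U := Subgroup.card_le_of_le hV₁U
      exact ih (Nat.card ↥U - Nat.card ↥V₁) (by omega) V₁ hV₁U rfl h1

end charp2

end Cfsg.Agent.Lib.Helper22
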