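import Mathlib
import Cfsg.Prelude.Def_Local
import Cfsg.Agent.Lib.Helper22.FStar
import Cfsg.Agent.Lib.Helper24.PxQ

set_option autoImplicit false
set_option linter.style.haveILetI false

namespace Cfsg.Agent.Lib.Helper22

open Subgroup

universe u v

section charp

/-- a finite group all of whose `p'`-elements are trivial is a `p`-group -/
theorem isPGroup_of_coprime_trivial' {p : ℕ} [Fact p.Prime] {H : Type*} [Group H] [Finite H]
    (h : ∀ g : H, (orderOf g).Coprime p → g = 1) : IsPGroup p H := by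
  intro g
  refine ⟨(orderOf g).factorization p, ?_⟩
  apply h
  have hpos : 0 < orderOf g := orderOf_pos g
  rw [orderOf_pow' g (pow_ne_zero _ (Fact.out : p.Prime).ne_zero)]
  have h1 : Nat.gcd (orderOf g) (p ^ (orderOf g).factorization p) = p ^ (orderOf g).factorization p :=
    Nat.gcd_eq_right (Nat.ordProj_dvd _ _)
  rw [h1]
  exact (Nat.coprime_ordCompl (Fact.out : p.Prime) hpos.ne').symm

/-- an element of a `p`-group whose order is coprime to `p` is trivial -/
theorem eq_one_of_coprime_of_isPGroup' {p : ℕ} {H : Type*} [Group H]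
    (hH : IsPGroup p H) (g : H) (hg : (orderOf g).Coprime p) : g = 1 := by
  obtain ⟨k, hk⟩ := hH g
  have h1 : orderOf g ∣ p ^ k := orderOf_dvd_of_pow_eq_one hk
  have h2 : (orderOf g).Coprime (p ^ k) := Nat.Coprime.pow_right k hg
  have : orderOf g = 1 := Nat.Coprime.eq_one_of_dvd h2 h1
  exact orderOf_eq_one_iff.mp this

variable {X : Type u} [Group X]

/-- `O_p` is preserved by isomorphisms. -/
theorem pCore_map_equiv_le {A : Type u} {B : Type v} [Group A] [Group B] (p : ℕ) (e : A ≃* B) :
    (Cfsg.pCore p A).map e.toMonoidHom ≤ Cfsg.pCore p B := by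
  rw [Subgroup.map_le_iff_le_comap]
  apply sSup_le
  rintro N ⟨hNn, hNp⟩
  rw [← Subgroup.map_le_iff_le_comap]
  apply le_sSup
  exact ⟨hNn.map _ e.surjective, hNp.map _⟩

theorem pCore_map_equiv {A : Type u} {B : Type v} [Group A] [Group B] (p : ℕ) (e : A ≃* B) :
    (Cfsg.pCore p A).map e.toMonoidHom = Cfsg.pCore p B := by
  apply le_antisymm (pCore_map_equiv_le p e)
  have h := pCore_map_equiv_le p e.symm
  have h2 := Subgroup.map_mono (f := e.toMonoidHom) h
  rwa [map_equiv_symm_map] at h2

/-- The property `F* = O_p` is invariant under isomorphism. -/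
theorem generalizedFitting_eq_pCore_of_equiv {A : Type u} {B : Type v} [Group A] [Group B] (p : ℕ)
    (e : A ≃* B) (h : Cfsg.generalizedFittingSubgroup A = Cfsg.pCore p A) :
    Cfsg.generalizedFittingSubgroup B = Cfsg.pCore p B := by
  rw [← generalizedFittingSubgroup_map_equiv e, ← pCore_map_equiv p e, h]

/-- `O_p(X) ≤ F(X)`. -/
theorem pCore_le_fitting [Finite X] (p : ℕ) [Fact p.Prime] :
    Cfsg.pCore p X ≤ Cfsg.fittingSubgroup X :=
  le_fittingSubgroup (pCore_normal' p X) (pCore_isPGroup' p X).isNilpotent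

/-- If the layer is trivial and `O_q(X) = 1` for all primes `q ≠ p` then `F*(X) = O_p(X)`. -/
theorem generalizedFitting_eq_pCore_of [Finite X] (p : ℕ) [Fact p.Prime]
    (hE : Cfsg.layer X = ⊥) (hq : ∀ q : ℕ, q.Prime → q ≠ p → Cfsg.pCore q X = ⊥) :
    Cfsg.generalizedFittingSubgroup X = Cfsg.pCore p X := by
  unfold Cfsg.generalizedFittingSubgroup
  rw [hE, bot_sup_eq, fittingSubgroup_eq_iSup_pCore]
  apply le_antisymm
  · apply iSup_le
    intro q
    by_cases hqp : (q : ℕ) = p
    · rw [hqp]
    · rw [hq q q.2 hqp]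
      exact bot_le
  · exact le_iSup (fun q : Nat.Primes => Cfsg.pCore (q : ℕ) X) ⟨p, Fact.out⟩

/-- `F*(X) = O_p(X)` iff `C_X(O_p(X)) ≤ O_p(X)`. -/
theorem generalizedFitting_eq_pCore_iff [Finite X] (p : ℕ) [Fact p.Prime] :
    Cfsg.generalizedFittingSubgroup X = Cfsg.pCore p X ↔
      Subgroup.centralizer (Cfsg.pCore p X : Set X) ≤ Cfsg.pCore p X := by
  constructor
  · intro h
    have := centralizer_generalizedFitting_le X
    rwa [h] at this
  · intro h
    have hQp : IsPGroup p (Cfsg.pCore p X) := pCore_isPGroup' p X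
    have hQn : (Cfsg.pCore p X).Normal := pCore_normal' p X
    apply generalizedFitting_eq_pCore_of p
    · unfold Cfsg.layer
      rw [eq_bot_iff]
      apply sSup_le
      intro L hL
      exfalso
      have h1 : L ≤ Subgroup.centralizer (Cfsg.pCore p X : Set X) :=
        (component_le_centralizer_fitting hL).trans
          (Subgroup.centralizer_le (pCore_le_fitting p))
      have h2 : L ≤ Cfsg.pCore p X := h1.trans h
      have hnil : Group.IsNilpotent ↥(Cfsg.pCore p X) := hQp.isNilpotent
      have hsolv : Group.IsSolvable ↥(Cfsg.pCore p X) := inferInstance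
      have : Group.IsSolvable ↥L :=
        Group.isSolvable_of_isSolvable_injective (Subgroup.inclusion_injective h2)
      exact Cfsg.Agent.Lib.Helper21.quasisimple_not_solvable hL.2 this
    · intro q hqprime hqp
      haveI : Fact q.Prime := ⟨hqprime⟩
      have hRp : IsPGroup q (Cfsg.pCore q X) := pCore_isPGroup' q X
      have hRn : (Cfsg.pCore q X).Normal := pCore_normal' q X
      have hdis : Disjoint (Cfsg.pCore q X) (Cfsg.pCore p X) :=
        IsPGroup.disjoint_of_ne q p hqp _ _ hRp hQp
      have h1 : Cfsg.pCore q X ≤ Subgroup.centralizer (Cfsg.pCore p X : Set X) := by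
        intro y hy
        rw [Subgroup.mem_centralizer_iff]
        intro z hz
        exact ((Subgroup.commute_of_normal_of_disjoint _ _ hRn hQn hdis y z hy hz).eq).symm
      rw [eq_bot_iff]
      intro y hy
      exact hdis.le_bot ⟨hy, h (h1 hy)⟩

/-- A normal `p`-subgroup of a subgroup `N`, viewed inside `O_p(N)`. -/
theorem subgroupOf_le_pCore {G : Type u} [Group G] {p : ℕ} (N K : Subgroup G)
    (hK : IsPGroup p K) (hn : N ≤ Subgroup.normalizer (K : Set G)) :
    K.subgroupOf N ≤ Cfsg.pCore p ↥N := by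
  apply le_pCore'
  · exact Subgroup.normal_subgroupOf_of_le_normalizer hn
  · exact hK.comap_subtype

/-- If `F*(G) = O_p(G)` and `P` is a `p`-subgroup, then `F*(N) = O_p(N)` for every subgroup `N`
with `P C_{O_p(G)}(P) ≤ N ≤ N_G(P)`. -/
theorem generalizedFitting_eq_pCore_of_le_normalizer {G : Type u} [Group G] [Finite G] (p : ℕ)
    [Fact p.Prime] (h : Cfsg.generalizedFittingSubgroup G = Cfsg.pCore p G) (P : Subgroup G)
    (hP : IsPGroup p P) (N : Subgroup G) (hPN : P ≤ N)
    (hNP : N ≤ Subgroup.normalizer (P : Set G))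
    (hCN : Cfsg.pCore p G ⊓ Subgroup.centralizer (P : Set G) ≤ N) :
    Cfsg.generalizedFittingSubgroup ↥N = Cfsg.pCore p ↥N := by
  rw [generalizedFitting_eq_pCore_iff]
  have hRn : (Cfsg.pCore p ↥N).Normal := pCore_normal' p ↥N
  have hCn : (Subgroup.centralizer (Cfsg.pCore p ↥N : Set ↥N)).Normal := inferInstance
  apply le_pCore' hCn
  apply isPGroup_of_coprime_trivial'
  intro y hy
  -- the underlying element of G
  set y₀ : G := ((y : ↥N) : G) with hy₀
  have hQ₀p : IsPGroup p (Cfsg.pCore p G) := pCore_isPGroup' p G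
  have hQ₀n : (Cfsg.pCore p G).Normal := pCore_normal' p G
  have hPR : P.subgroupOf N ≤ Cfsg.pCore p ↥N := subgroupOf_le_pCore N P hP hNP
  have hQR : (Cfsg.pCore p G).subgroupOf N ≤ Cfsg.pCore p ↥N := by
    apply subgroupOf_le_pCore N _ hQ₀p
    rw [Subgroup.normalizer_eq_top_iff.mpr hQ₀n]
    exact le_top
  -- y commutes with every element of O_p(N)
  have hycomm : ∀ r : ↥N, r ∈ Cfsg.pCore p ↥N → (r : G) * y₀ = y₀ * (r : G) := by
    intro r hr
    have := (Subgroup.mem_centralizer_iff.mp y.2) r hr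
    exact congrArg Subtype.val this
  have hzp : ∀ u : G, u * y₀ = y₀ * u → u ∈ Subgroup.centralizer
      ((Subgroup.zpowers y₀ : Subgroup G) : Set G) := by
    intro u hu
    rw [Subgroup.mem_centralizer_iff]
    intro z hz
    obtain ⟨k, rfl⟩ := Subgroup.mem_zpowers_iff.mp hz
    have hc : Commute u y₀ := hu
    exact ((hc.zpow_right k).eq).symm
  have horder : orderOf y₀ = orderOf y := by
    rw [hy₀, Subgroup.orderOf_coe, Subgroup.orderOf_coe]
  have key := Cfsg.Agent.Lib.Helper24.thompson_PxQ P (Subgroup.zpowers y₀) (Cfsg.pCore p G) hP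
    (by rw [Nat.card_zpowers, horder]; exact hy) hQ₀p
    (by
      intro x hx
      apply hzp
      exact hycomm ⟨x, hPN hx⟩ (hPR (Subgroup.mem_subgroupOf.mpr hx)))
    (by rw [Subgroup.normalizer_eq_top_iff.mpr hQ₀n]; exact le_top)
    (by rw [Subgroup.normalizer_eq_top_iff.mpr hQ₀n]; exact le_top)
    (by
      rintro u ⟨huQ, huP⟩
      apply hzp
      have huN : u ∈ N := hCN ⟨huQ, huP⟩
      exact hycomm ⟨u, huN⟩ (hQR (Subgroup.mem_subgroupOf.mpr huQ)))
  have h1 : y₀ ∈ Subgroup.centralizer (Cfsg.pCore p G : Set G) :=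
    key (Subgroup.mem_zpowers y₀)
  have h2 : y₀ ∈ Cfsg.pCore p G := by
    have := centralizer_generalizedFitting_le G
    rw [h] at this
    exact this h1
  have h3 : (⟨y₀, h2⟩ : ↥(Cfsg.pCore p G)) = 1 := by
    apply eq_one_of_coprime_of_isPGroup' hQ₀p
    have : orderOf (⟨y₀, h2⟩ : ↥(Cfsg.pCore p G)) = orderOf y₀ := by
      rw [← Subgroup.orderOf_coe]
    rw [this, horder]
    exact hy
  have h4 : y₀ = 1 := congrArg Subtype.val h3
  apply Subtype.ext
  apply Subtype.ext
  exact h4

/-- If `F*(G) = O_p(G)` then the same holds in the normalizer of every `p`-subgroup. -/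
theorem generalizedFitting_normalizer_eq_pCore {G : Type u} [Group G] [Finite G] (p : ℕ)
    [Fact p.Prime] (h : Cfsg.generalizedFittingSubgroup G = Cfsg.pCore p G) (P : Subgroup G)
    (hP : IsPGroup p P) :
    Cfsg.generalizedFittingSubgroup ↥(Subgroup.normalizer (P : Set G)) =
      Cfsg.pCore p ↥(Subgroup.normalizer (P : Set G)) :=
  generalizedFitting_eq_pCore_of_le_normalizer p h P hP _ Subgroup.le_normalizer le_rfl
    (inf_le_right.trans (Subgroup.centralizer_le_normalizer _))

/-- If `x ∈ O_p(X)` and `F*(C_X(x)) = O_p(C_X(x))`, then `F*(X) = O_p(X)`. -/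
theorem generalizedFitting_eq_pCore_of_centralizer {X : Type u} [Group X] [Finite X] (p : ℕ)
    [Fact p.Prime] (x : X) (hx : x ∈ Cfsg.pCore p X)
    (h : Cfsg.generalizedFittingSubgroup ↥(Subgroup.centralizer ({x} : Set X)) =
      Cfsg.pCore p ↥(Subgroup.centralizer ({x} : Set X))) :
    Cfsg.generalizedFittingSubgroup X = Cfsg.pCore p X := by
  set C := Subgroup.centralizer ({x} : Set X) with hC
  have hQp : IsPGroup p (Cfsg.pCore p X) := pCore_isPGroup' p X
  have hQn : (Cfsg.pCore p X).Normal := pCore_normal' p X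
  have hCQ : Subgroup.centralizer (Cfsg.pCore p X : Set X) ≤ C := by
    apply Subgroup.centralizer_le
    intro y hy
    rw [Set.mem_singleton_iff] at hy
    rw [hy]
    exact hx
  have hCp : IsPGroup p (Cfsg.pCore p ↥C) := pCore_isPGroup' p ↥C
  apply generalizedFitting_eq_pCore_of p
  · unfold Cfsg.layer
    rw [eq_bot_iff]
    apply sSup_le
    intro L hL
    exfalso
    have h1 : L ≤ C :=
      ((component_le_centralizer_fitting hL).trans
        (Subgroup.centralizer_le (pCore_le_fitting p))).trans hCQ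
    have h2 := Cfsg.Agent.Lib.Helper21.component_subgroupOf hL h1
    have h3 : L.subgroupOf C ≤ Cfsg.pCore p ↥C := by
      rw [← h]
      exact (component_le_layer h2).trans (layer_le_generalizedFitting ↥C)
    have hnil : Group.IsNilpotent ↥(Cfsg.pCore p ↥C) := hCp.isNilpotent
    have hsolv : Group.IsSolvable ↥(Cfsg.pCore p ↥C) := inferInstance
    have : Group.IsSolvable ↥(L.subgroupOf C) :=
      Group.isSolvable_of_isSolvable_injective (Subgroup.inclusion_injective h3)
    exact Cfsg.Agent.Lib.Helper21.quasisimple_not_solvable h2.2 this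
  · intro q hqprime hqp
    haveI : Fact q.Prime := ⟨hqprime⟩
    have hRp : IsPGroup q (Cfsg.pCore q X) := pCore_isPGroup' q X
    have hRn : (Cfsg.pCore q X).Normal := pCore_normal' q X
    have hdis : Disjoint (Cfsg.pCore q X) (Cfsg.pCore p X) :=
      IsPGroup.disjoint_of_ne q p hqp _ _ hRp hQp
    have h1 : Cfsg.pCore q X ≤ C := by
      refine le_trans ?_ hCQ
      intro y hy
      rw [Subgroup.mem_centralizer_iff]
      intro z hz
      exact ((Subgroup.commute_of_normal_of_disjoint _ _ hRn hQn hdis y z hy hz).eq).symm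
    have hsn : ((Cfsg.pCore q X).subgroupOf C).Normal := inferInstance
    have hsq : IsPGroup q ((Cfsg.pCore q X).subgroupOf C) := hRp.comap_subtype
    have hsnil : Group.IsNilpotent ↥((Cfsg.pCore q X).subgroupOf C) := hsq.isNilpotent
    have h2 : (Cfsg.pCore q X).subgroupOf C ≤ Cfsg.pCore p ↥C := by
      rw [← h]
      exact (le_fittingSubgroup hsn hsnil).trans (fitting_le_generalizedFitting ↥C)
    have hdis2 : Disjoint ((Cfsg.pCore q X).subgroupOf C) (Cfsg.pCore p ↥C) :=
      IsPGroup.disjoint_of_ne q p hqp _ _ hsq hCp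
    rw [eq_bot_iff]
    intro y hy
    have hy' : (⟨y, h1 hy⟩ : ↥C) ∈ (Cfsg.pCore q X).subgroupOf C :=
      Subgroup.mem_subgroupOf.mpr hy
    have := hdis2.le_bot ⟨hy', h2 hy'⟩
    rw [Subgroup.mem_bot] at this ⊢
    exact congrArg Subtype.val this

/-- The groups `A ∩ B` viewed inside `B` and inside `A` are isomorphic. -/
noncomputable def subgroupOfSwapEquiv {G : Type u} [Group G] (A B : Subgroup G) :
    ↥(A.subgroupOf B) ≃* ↥(B.subgroupOf A) :=
  ((MulEquiv.subgroupCongr (Subgroup.inf_subgroupOf_right A B).symm).trans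
    (Subgroup.subgroupOfEquivOfLe (inf_le_right : A ⊓ B ≤ B))).trans
  ((MulEquiv.subgroupCongr (inf_comm A B)).trans
    ((Subgroup.subgroupOfEquivOfLe (inf_le_right : B ⊓ A ≤ A)).symm.trans
      (MulEquiv.subgroupCongr (Subgroup.inf_subgroupOf_right B A))))

/-- If `F*(C_G(x)) = O_p(C_G(x))` for all `x` of order `p`, then `F*(N_G(T)) = O_p(N_G(T))` for all
nontrivial `p`-subgroups `T`. -/
theorem generalizedFitting_local_eq_pCore {G : Type u} [Group G] [Finite G] (p : ℕ) [Fact p.Prime]
    (h : ∀ t : G, orderOf t = p →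
      Cfsg.generalizedFittingSubgroup ↥(Subgroup.centralizer ({t} : Set G)) =
        Cfsg.pCore p ↥(Subgroup.centralizer ({t} : Set G)))
    (T : Subgroup G) (hT : IsPGroup p ↥T) (hT1 : T ≠ ⊥) :
    Cfsg.generalizedFittingSubgroup ↥(Subgroup.normalizer (T : Set G)) =
      Cfsg.pCore p ↥(Subgroup.normalizer (T : Set G)) := by
  -- a central element of order p in T
  haveI : Nontrivial ↥T := (Subgroup.nontrivial_iff_ne_bot T).mpr hT1
  have hcn : Nontrivial ↥(Subgroup.center ↥T) := hT.center_nontrivial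
  have hcp : IsPGroup p ↥(Subgroup.center ↥T) := hT.to_subgroup _
  have hdvd : p ∣ Nat.card ↥(Subgroup.center ↥T) := by
    rcases hcp.card_eq_or_dvd with h1 | h1
    · exfalso
      have := Finite.one_lt_card_iff_nontrivial.mpr hcn
      omega
    · exact h1
  obtain ⟨z, hz⟩ := exists_prime_orderOf_dvd_card' p hdvd
  set x : G := ((z : ↥T) : G) with hx
  have hxo : orderOf x = p := by
    rw [hx, Subgroup.orderOf_coe, Subgroup.orderOf_coe]
    exact hz
  have hxT : x ∈ T := (z : ↥T).2
  set C := Subgroup.centralizer ({x} : Set G) with hC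
  set H := Subgroup.normalizer (T : Set G) with hH
  have hTC : T ≤ C := by
    intro t ht
    rw [hC, Subgroup.mem_centralizer_singleton_iff]
    have := Subgroup.mem_center_iff.mp z.2 ⟨t, ht⟩
    exact congrArg Subtype.val this
  have hTH : T ≤ H := Subgroup.le_normalizer
  -- claim A inside C
  have h1 := generalizedFitting_normalizer_eq_pCore p (h x hxo) (T.subgroupOf C) hT.comap_subtype
  rw [← Subgroup.subgroupOf_normalizer_eq hTC] at h1
  -- transport to the centralizer of x inside H
  have h2 := generalizedFitting_eq_pCore_of_equiv p (subgroupOfSwapEquiv H C) h1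
  have h3 : C.subgroupOf H = Subgroup.centralizer ({(⟨x, hTH hxT⟩ : ↥H)} : Set ↥H) := by
    ext y
    rw [Subgroup.mem_subgroupOf, Subgroup.mem_centralizer_singleton_iff,
      Subgroup.mem_centralizer_singleton_iff]
    constructor
    · intro hy
      exact Subtype.ext hy
    · intro hy
      exact congrArg Subtype.val hy
  rw [h3] at h2
  apply generalizedFitting_eq_pCore_of_centralizer p (⟨x, hTH hxT⟩ : ↥H) _ h2
  exact subgroupOf_le_pCore H T hT le_rfl (Subgroup.mem_subgroupOf.mpr hxT)

end charp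

end Cfsg.Agent.Lib.Helper22
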