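import Mathlib
import Cfsg.Prelude.Def_Local
import Cfsg.Agent.Lib.Helper24.Coprime
import Cfsg.Agent.Lib.Helper91.Components
import Cfsg.Agent.Lib.Helper22.FStar
import Cfsg.Agent.Lib.Helper55.Cores

set_option autoImplicit false
set_option linter.style.haveILetI false

/-!
# Commuting systems of quasisimple subgroups acted on by a `p`-group

Abstract form of: if `L = F₀ E₀` with `F₀` a `p'`-group and `E₀` a central product of quasisimple
groups permuted by a `p`-group `Y`, then `[L, Y] = [L, Y, Y]` and `L = [L, Y] C_L(Y)`.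
-/

namespace Cfsg.Agent.Lib.Helper22

open Subgroup
open Cfsg.Agent.Lib.Helper33
open scoped commutatorElement

universe u

section compsys

variable {G : Type u} [Group G]

/-- A family `𝒦` of pairwise commuting quasisimple subgroups, permuted by `Y` under conjugation,
all commuting with the `Y`-invariant subgroup `F₀`. -/
structure CompSystem (Y F₀ : Subgroup G) (𝒦 : Set (Subgroup G)) : Prop where
  quasi : ∀ K ∈ 𝒦, Cfsg.IsQuasisimple ↥K
  comm : ∀ K ∈ 𝒦, ∀ K' ∈ 𝒦, K ≠ K' → K' ≤ centralizer (K : Set G)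
  conj : ∀ K ∈ 𝒦, ∀ y ∈ Y, K.map (MulAut.conj y).toMonoidHom ∈ 𝒦
  commF : ∀ K ∈ 𝒦, K ≤ centralizer (F₀ : Set G)
  normF : Y ≤ normalizer (F₀ : Set G)

/-- A quasisimple subgroup is perfect. -/
theorem quasisimple_commutator_self {K : Subgroup G} (hK : Cfsg.IsQuasisimple ↥K) : ⁅K, K⁆ = K := by
  have := hK.1
  exact Subgroup.commutator_eq_self

/-- A subgroup of a quasisimple subgroup `K` normalized by `K` is all of `K` or central in `K`. -/
theorem quasisimple_normal_eq_or_commutator_eq_bot {K N : Subgroup G}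
    (hK : Cfsg.IsQuasisimple ↥K) (hNK : N ≤ K) (hnorm : K ≤ normalizer (N : Set G)) :
    N = K ∨ ⁅N, K⁆ = ⊥ := by
  have hn : (N.subgroupOf K).Normal := (normal_subgroupOf_iff_le_normalizer hNK).mpr hnorm
  rcases Cfsg.Agent.Lib.Helper91.normal_eq_top_or_le_center_of_isQuasisimple hK (N.subgroupOf K)
    with h | h
  · left
    rw [subgroupOf_eq_top] at h
    exact le_antisymm hNK h
  · right
    rw [commutator_eq_bot_iff_le_centralizer]
    intro n hn
    rw [mem_centralizer_iff]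
    intro k hk
    have h1 : (⟨n, hNK hn⟩ : ↥K) ∈ center ↥K := h (mem_subgroupOf.mpr hn)
    have h2 := (mem_center_iff.mp h1) ⟨k, hk⟩
    exact congrArg Subtype.val h2

/-- Key lemma: a member `K` of the system which is not centralized by `Y` lies in `[[K, Y], K]`. -/
theorem CompSystem.le_commutator_commutator {Y F₀ : Subgroup G} {𝒦 : Set (Subgroup G)}
    (h : CompSystem Y F₀ 𝒦) {K : Subgroup G} (hK : K ∈ 𝒦)
    (hKY : ¬ Y ≤ centralizer (K : Set G)) : K ≤ ⁅⁅K, Y⁆, K⁆ := by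
  have hperf : ⁅K, K⁆ = K := quasisimple_commutator_self (h.quasi K hK)
  by_cases hn : ∀ y ∈ Y, K.map (MulAut.conj y).toMonoidHom = K
  · have hYK : Y ≤ normalizer (K : Set G) := fun y hy => cj_eq_self_iff.mp (hn y hy)
    have hNK : ⁅K, Y⁆ ≤ K := Cfsg.Agent.Lib.Helper24.commutator_le_of_le_normalizer K Y hYK
    have hnorm : K ≤ normalizer ((⁅K, Y⁆ : Subgroup G) : Set G) :=
      Cfsg.Agent.Lib.Helper24.le_normalizer_commutator_left K Y
    rcases quasisimple_normal_eq_or_commutator_eq_bot (h.quasi K hK) hNK hnorm with h1 | h1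
    · rw [h1, hperf]
    · exfalso
      apply hKY
      have h2 : ⁅⁅Y, K⁆, K⁆ = ⊥ := by rw [commutator_comm Y K]; exact h1
      have h3 : ⁅⁅K, K⁆, Y⁆ = ⊥ := commutator_commutator_eq_bot_of_rotate h1 h2
      rw [hperf, commutator_comm] at h3
      exact commutator_eq_bot_iff_le_centralizer.mp h3
  · push Not at hn
    obtain ⟨y, hy, hne⟩ := hn
    have hK' := h.conj K hK y hy
    have hc := h.comm K hK _ hK' (Ne.symm hne)
    conv_lhs => rw [← hperf]
    rw [commutator_le]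
    intro k hk k' hk'
    have hc1 : y * k⁻¹ * y⁻¹ ∈ K.map (MulAut.conj y).toMonoidHom := ⟨k⁻¹, K.inv_mem hk, rfl⟩
    have hcomm : k' * (y * k⁻¹ * y⁻¹) = (y * k⁻¹ * y⁻¹) * k' :=
      mem_centralizer_iff.mp (hc hc1) k' hk'
    have e : ⁅k, k'⁆ = ⁅⁅k, y⁆, k'⁆ := by
      have e1 : (y * k⁻¹ * y⁻¹) * k' * (y * k⁻¹ * y⁻¹)⁻¹ = k' := by
        rw [← hcomm]; group
      calc ⁅k, k'⁆ = k * k' * k⁻¹ * k'⁻¹ := commutatorElement_def _ _
        _ = k * ((y * k⁻¹ * y⁻¹) * k' * (y * k⁻¹ * y⁻¹)⁻¹) * k⁻¹ * k'⁻¹ := by rw [e1]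
        _ = ⁅⁅k, y⁆, k'⁆ := by simp only [commutatorElement_def]; group
    rw [e]
    exact commutator_mem_commutator (commutator_mem_commutator hk hy) hk'

/-- Main theorem on component systems: `L = [L, Y] C_L(Y)` and `[L, Y] = [L, Y, Y]`. -/
theorem CompSystem.main [Finite G] {p : ℕ} [Fact p.Prime] {Y F₀ : Subgroup G}
    {𝒦 : Set (Subgroup G)} (h : CompSystem Y F₀ 𝒦) (hY : IsPGroup p ↥Y)
    (hF₀ : (Nat.card ↥F₀).Coprime p) {L : Subgroup G} (hL : L = F₀ ⊔ sSup 𝒦)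
    (hYL : Y ≤ normalizer (L : Set G)) :
    ⁅L, Y⁆ ⊔ (L ⊓ centralizer (Y : Set G)) = L ∧ ⁅L, Y⁆ = ⁅⁅L, Y⁆, Y⁆ := by
  have hML : ⁅L, Y⁆ ≤ L := Cfsg.Agent.Lib.Helper24.commutator_le_of_le_normalizer L Y hYL
  have hYM : Y ≤ normalizer ((⁅L, Y⁆ : Subgroup G) : Set G) :=
    Cfsg.Agent.Lib.Helper24.le_normalizer_commutator_right L Y hYL
  have hLM : L ≤ normalizer ((⁅L, Y⁆ : Subgroup G) : Set G) :=
    Cfsg.Agent.Lib.Helper24.le_normalizer_commutator_left L Y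
  have hNM : ⁅⁅L, Y⁆, Y⁆ ≤ ⁅L, Y⁆ :=
    Cfsg.Agent.Lib.Helper24.commutator_le_of_le_normalizer _ Y hYM
  have hYN : Y ≤ normalizer ((⁅⁅L, Y⁆, Y⁆ : Subgroup G) : Set G) :=
    Cfsg.Agent.Lib.Helper24.le_normalizer_commutator_right _ Y hYM
  have hMN : ⁅L, Y⁆ ≤ normalizer ((⁅⁅L, Y⁆, Y⁆ : Subgroup G) : Set G) :=
    Cfsg.Agent.Lib.Helper24.le_normalizer_commutator_left _ Y
  have hKL : ∀ K ∈ 𝒦, K ≤ L := fun K hK => by
    rw [hL]; exact le_sup_of_le_right (le_sSup hK)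
  have hF₀L : F₀ ≤ L := by rw [hL]; exact le_sup_left
  have step1 : ∀ K ∈ 𝒦, ¬ Y ≤ centralizer (K : Set G) → K ≤ ⁅⁅L, Y⁆, Y⁆ := by
    intro K hK hKY
    have h0 := h.le_commutator_commutator hK hKY
    have hKM : K ≤ ⁅L, Y⁆ := by
      calc K ≤ ⁅⁅K, Y⁆, K⁆ := h0
        _ ≤ ⁅⁅L, Y⁆, K⁆ := commutator_mono (commutator_mono (hKL K hK) le_rfl) le_rfl
        _ ≤ ⁅L, Y⁆ := Cfsg.Agent.Lib.Helper24.commutator_le_of_le_normalizer _ K
            ((hKL K hK).trans hLM)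
    calc K ≤ ⁅⁅K, Y⁆, K⁆ := h0
      _ ≤ ⁅⁅⁅L, Y⁆, Y⁆, K⁆ := commutator_mono (commutator_mono hKM le_rfl) le_rfl
      _ ≤ ⁅⁅L, Y⁆, Y⁆ := Cfsg.Agent.Lib.Helper24.commutator_le_of_le_normalizer _ K
          (hKM.trans hMN)
  -- the coprime part
  have hcop : (Nat.card ↥Y).Coprime (Nat.card ↥F₀) := by
    obtain ⟨n, hn⟩ := hY.exists_card_eq
    rw [hn]
    exact (Nat.Coprime.pow_right n hF₀).symm
  have hsolv : Group.IsSolvable ↥Y := by
    have := hY.isNilpotent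
    infer_instance
  have hF1 : ⁅F₀, Y⁆ ⊔ (F₀ ⊓ centralizer (Y : Set G)) = F₀ :=
    Cfsg.Agent.Lib.Helper24.commutator_sup_centralizer_eq Y F₀ h.normF hcop (Or.inl hsolv)
  have hF2 : ⁅⁅F₀, Y⁆, Y⁆ = ⁅F₀, Y⁆ :=
    Cfsg.Agent.Lib.Helper24.commutator_commutator_eq Y F₀ h.normF hcop (Or.inl hsolv)
  have hF3 : ⁅F₀, Y⁆ ≤ ⁅⁅L, Y⁆, Y⁆ := by
    rw [← hF2]; exact commutator_mono (commutator_mono hF₀L le_rfl) le_rfl
  -- the factorization
  have key : ∀ x ∈ L, ∃ n ∈ ⁅⁅L, Y⁆, Y⁆, ∃ c ∈ L ⊓ centralizer (Y : Set G), x = n * c := by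
    intro x hx
    rw [hL] at hx
    have hcommFE : ∀ a ∈ F₀, ∀ b ∈ sSup 𝒦, a * b = b * a := by
      have : sSup 𝒦 ≤ centralizer (F₀ : Set G) := sSup_le fun K hK => h.commF K hK
      intro a ha b hb
      exact mem_centralizer_iff.mp (this hb) a ha
    obtain ⟨f, hf, e, he, rfl⟩ := exists_mul_of_mem_sup_of_commute hcommFE hx
    set E₁ : Subgroup G := sSup {K | K ∈ 𝒦 ∧ ¬ Y ≤ centralizer (K : Set G)} with hE₁
    set E₂ : Subgroup G := sSup {K | K ∈ 𝒦 ∧ Y ≤ centralizer (K : Set G)} with hE₂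
    have hE : sSup 𝒦 ≤ E₁ ⊔ E₂ := by
      apply sSup_le
      intro K hK
      by_cases hKY : Y ≤ centralizer (K : Set G)
      · exact le_sup_of_le_right (le_sSup ⟨hK, hKY⟩)
      · exact le_sup_of_le_left (le_sSup ⟨hK, hKY⟩)
    have hE₁N : E₁ ≤ ⁅⁅L, Y⁆, Y⁆ := sSup_le fun K hK => step1 K hK.1 hK.2
    have hE₁𝒦 : E₁ ≤ sSup 𝒦 := sSup_le fun K hK => le_sSup hK.1
    have hE₂𝒦 : E₂ ≤ sSup 𝒦 := sSup_le fun K hK => le_sSup hK.1
    have hE₂c : E₂ ≤ centralizer (Y : Set G) :=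
      sSup_le fun K hK => le_centralizer_iff.mp hK.2
    have hcomm12 : ∀ a ∈ E₁, ∀ b ∈ E₂, a * b = b * a := by
      have : E₂ ≤ centralizer (E₁ : Set G) := by
        apply sSup_le
        rintro K₂ ⟨hK₂, hK₂Y⟩
        rw [le_centralizer_iff]
        apply sSup_le
        rintro K₁ ⟨hK₁, hK₁Y⟩
        have hne : K₂ ≠ K₁ := by
          rintro rfl
          exact hK₁Y hK₂Y
        exact h.comm K₂ hK₂ K₁ hK₁ hne
      intro a ha b hb
      exact mem_centralizer_iff.mp (this hb) a ha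
    obtain ⟨e₁, he₁, e₂, he₂, rfl⟩ := exists_mul_of_mem_sup_of_commute hcomm12 (hE he)
    have hnormF : (F₀ ⊓ centralizer (Y : Set G)) ≤ normalizer ((⁅F₀, Y⁆ : Subgroup G) : Set G) :=
      inf_le_left.trans (Cfsg.Agent.Lib.Helper24.le_normalizer_commutator_left F₀ Y)
    have hf' : f ∈ ((⁅F₀, Y⁆ ⊔ (F₀ ⊓ centralizer (Y : Set G)) : Subgroup G) : Set G) := by
      rw [hF1]; exact hf
    rw [coe_mul_of_right_le_normalizer_left _ _ hnormF] at hf'
    obtain ⟨f₁, hf₁, c₁, hc₁, rfl⟩ := hf'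
    have hc₁' : c₁ ∈ F₀ ⊓ centralizer (Y : Set G) := hc₁
    refine ⟨f₁ * e₁, mul_mem (hF3 hf₁) (hE₁N he₁), c₁ * e₂,
      ⟨mul_mem (hF₀L hc₁'.1) ?_, mul_mem hc₁'.2 (hE₂c he₂)⟩, ?_⟩
    · rw [hL]; exact le_sup_of_le_right hE₂𝒦 he₂
    · have hc := hcommFE c₁ hc₁'.1 e₁ (hE₁𝒦 he₁)
      calc f₁ * c₁ * (e₁ * e₂) = f₁ * (c₁ * e₁) * e₂ := by group
        _ = f₁ * (e₁ * c₁) * e₂ := by rw [hc]
        _ = f₁ * e₁ * (c₁ * e₂) := by group
  have hMN' : ⁅L, Y⁆ ≤ ⁅⁅L, Y⁆, Y⁆ := by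
    rw [commutator_le]
    intro x hx y hy
    obtain ⟨n, hn, c, hc, rfl⟩ := key x hx
    have hcy : y * c = c * y := mem_centralizer_iff.mp hc.2 y hy
    have e : ⁅n * c, y⁆ = n * (y * n⁻¹ * y⁻¹) := by
      have e1 : c * y * c⁻¹ = y := by rw [← hcy]; group
      calc ⁅n * c, y⁆ = n * (c * y * c⁻¹) * n⁻¹ * y⁻¹ := by
            simp only [commutatorElement_def]; group
        _ = n * (y * n⁻¹ * y⁻¹) := by rw [e1]; group
    rw [e]
    exact mul_mem hn ((mem_normalizer_iff.mp (hYN hy) n⁻¹).mp (inv_mem hn))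
  refine ⟨?_, le_antisymm hMN' hNM⟩
  apply le_antisymm (sup_le hML inf_le_left)
  intro x hx
  obtain ⟨n, hn, c, hc, rfl⟩ := key x hx
  exact mul_mem_sup (hNM hn) hc

end compsys

section instantiate

variable {G : Type u} [Group G]

/-- If `O_p(X) = 1` then `F(X)` is a `p'`-group. -/
theorem fitting_card_coprime_of_pCore_eq_bot {X : Type u} [Group X] [Finite X] (p : ℕ)
    [Fact p.Prime] (h : Cfsg.pCore p X = ⊥) : (Nat.card ↥(Cfsg.fittingSubgroup X)).Coprime p := by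
  have hle : Cfsg.fittingSubgroup X ≤ Cfsg.pPrimeCore p X := by
    rw [fittingSubgroup_eq_iSup_pCore]
    apply iSup_le
    intro q
    haveI : Fact (q : ℕ).Prime := ⟨q.2⟩
    by_cases hq : (q : ℕ) = p
    · rw [hq, h]; exact bot_le
    · exact pCore_le_pPrimeCore hq
  exact Nat.Coprime.coprime_dvd_left (Subgroup.card_dvd_of_le hle)
    (Cfsg.Agent.Lib.Helper55.pPrimeCore_card_coprime p)

theorem subtype_comp_conjNormalizer (L : Subgroup G) (y : G)
    (hy : y ∈ normalizer (L : Set G)) :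
    L.subtype.comp (Cfsg.Agent.Lib.Helper24.conjNormalizer L y hy).toMonoidHom =
      (MulAut.conj y).toMonoidHom.comp L.subtype := by
  ext x
  rfl

/-- The component system of a subgroup `L` normalized by `Y`: `F(L)` and the components of `L`. -/
theorem compSystem_of_le_normalizer (Y L : Subgroup G) (hYL : Y ≤ normalizer (L : Set G)) :
    CompSystem Y ((Cfsg.fittingSubgroup ↥L).map L.subtype)
      {K | ∃ C : Subgroup ↥L, Cfsg.IsComponent C ∧ C.map L.subtype = K} := by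
  refine ⟨?_, ?_, ?_, ?_, ?_⟩
  · rintro K ⟨C, hC, rfl⟩
    exact Cfsg.Agent.Lib.Helper21.quasisimple_of_mulEquiv
      (C.equivMapOfInjective L.subtype L.subtype_injective) hC.2
  · rintro K ⟨C, hC, rfl⟩ K' ⟨C', hC', rfl⟩ hne
    have hne' : C' ≠ C := by
      rintro rfl
      exact hne rfl
    have h1 := components_commute hC' hC hne'
    rw [← commutator_eq_bot_iff_le_centralizer, ← map_commutator, h1, Subgroup.map_bot]
  · rintro K ⟨C, hC, rfl⟩ y hy
    refine ⟨C.map (Cfsg.Agent.Lib.Helper24.conjNormalizer L y (hYL hy)).toMonoidHom,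
      isComponent_map_equiv _ hC, ?_⟩
    rw [Subgroup.map_map, Subgroup.map_map, subtype_comp_conjNormalizer]
  · rintro K ⟨C, hC, rfl⟩
    have h1 := component_le_centralizer_fitting hC
    rintro _ ⟨c, hc, rfl⟩
    rw [mem_centralizer_iff]
    rintro _ ⟨f, hf, rfl⟩
    have h2 := mem_centralizer_iff.mp (h1 hc) f hf
    exact congrArg Subtype.val h2
  · intro y hy
    rw [← cj_eq_self_iff, cj_def, Subgroup.map_map, ← subtype_comp_conjNormalizer L y (hYL hy),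
      ← Subgroup.map_map, fittingSubgroup_map_equiv]

/-- `L = F(L) E(L)` with `F(L)` a `p'`-group, `Y` a `p`-group normalizing `L`:
`L = [L, Y] C_L(Y)` and `[L, Y] = [L, Y, Y]`. -/
theorem commutator_eq_of_fitting_sup_layer [Finite G] {p : ℕ} [Fact p.Prime]
    (Y : Subgroup G) (hY : IsPGroup p ↥Y) (L : Subgroup G) (hYL : Y ≤ normalizer (L : Set G))
    (hFE : Cfsg.fittingSubgroup ↥L ⊔ Cfsg.layer ↥L = ⊤)
    (hcop : (Nat.card ↥(Cfsg.fittingSubgroup ↥L)).Coprime p) :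
    ⁅L, Y⁆ ⊔ (L ⊓ centralizer (Y : Set G)) = L ∧ ⁅L, Y⁆ = ⁅⁅L, Y⁆, Y⁆ := by
  have hsys := compSystem_of_le_normalizer Y L hYL
  have hcard : (Nat.card ↥((Cfsg.fittingSubgroup ↥L).map L.subtype)).Coprime p := by
    rw [Subgroup.card_map_of_injective L.subtype_injective]
    exact hcop
  apply hsys.main hY hcard _ hYL
  have h1 : L = (⊤ : Subgroup ↥L).map L.subtype := by
    rw [← MonoidHom.range_eq_map, Subgroup.range_subtype]
  conv_lhs => rw [h1, ← hFE, Subgroup.map_sup]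
  congr 1
  apply le_antisymm
  · rw [Subgroup.map_le_iff_le_comap]
    apply sSup_le
    intro C hC
    rw [← Subgroup.map_le_iff_le_comap]
    exact le_sSup ⟨C, hC, rfl⟩
  · apply sSup_le
    rintro K ⟨C, hC, rfl⟩
    exact Subgroup.map_mono (component_le_layer hC)

/-- Version for a subnormal subgroup `L` of `H ≤ G` inside `F*(H)`, with `O_p(H) = 1`. -/
theorem commutator_eq_of_subnormal_le_generalizedFitting [Finite G] {p : ℕ} [Fact p.Prime]
    (H : Subgroup G) (hO : Cfsg.pCore p ↥H = ⊥) (Y : Subgroup G) (hY : IsPGroup p ↥Y)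
    (L : Subgroup G) (hLF : L ≤ (Cfsg.generalizedFittingSubgroup ↥H).map H.subtype)
    (hLsn : (L.subgroupOf H).IsSubnormal) (hYL : Y ≤ normalizer (L : Set G)) :
    ⁅L, Y⁆ ⊔ (L ⊓ centralizer (Y : Set G)) = L ∧ ⁅L, Y⁆ = ⁅⁅L, Y⁆, Y⁆ := by
  have hLH : L ≤ H := hLF.trans (Subgroup.map_subtype_le _)
  have hle' : L.subgroupOf H ≤ Cfsg.generalizedFittingSubgroup ↥H := by
    intro x hx
    obtain ⟨z, hz, hzx⟩ := hLF (mem_subgroupOf.mp hx)
    have : z = x := Subtype.ext hzx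
    rwa [← this]
  have htop := fitting_sup_layer_eq_top_of_subnormal hLsn hle'
  let e : ↥(L.subgroupOf H) ≃* ↥L := Subgroup.subgroupOfEquivOfLe hLH
  have hFE : Cfsg.fittingSubgroup ↥L ⊔ Cfsg.layer ↥L = ⊤ := by
    rw [← fittingSubgroup_map_equiv e, ← layer_map_equiv e, ← Subgroup.map_sup, htop]
    exact Subgroup.map_top_of_surjective _ e.surjective
  have hcop : (Nat.card ↥(Cfsg.fittingSubgroup ↥L)).Coprime p := by
    rw [← fittingSubgroup_map_equiv e, Subgroup.card_map_of_injective e.injective]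
    have h1 := fitting_map_subtype_le hLsn
    have h2 : Nat.card ↥(Cfsg.fittingSubgroup ↥(L.subgroupOf H)) ∣
        Nat.card ↥(Cfsg.fittingSubgroup ↥H) := by
      rw [← Subgroup.card_map_of_injective (L.subgroupOf H).subtype_injective]
      exact Subgroup.card_dvd_of_le h1
    exact Nat.Coprime.coprime_dvd_left h2 (fitting_card_coprime_of_pCore_eq_bot p hO)
  exact commutator_eq_of_fitting_sup_layer Y hY L hYL hFE hcop

end instantiate

end Cfsg.Agent.Lib.Helper22
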