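import Mathlib
import Cfsg.Prelude.Def_Local
import Cfsg.Agent.Lib.Helper22.CompSystem
import Cfsg.Agent.Lib.Helper22.CharP

set_option autoImplicit false
set_option linter.style.haveILetI false

/-!
# `F*(H)` when `O_p(H) = 1`, acted on by `p`-subgroups
-/

namespace Cfsg.Agent.Lib.Helper22

open Subgroup
open Cfsg.Agent.Lib.Helper33
open scoped commutatorElement

universe u

section fstarp

variable {X : Type u} [Group X]

/-- `F*(X) ∩ B = F*(B)` for `B` subnormal in the finite group `X`. -/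
theorem generalizedFitting_inf_subnormal [Finite X] {B : Subgroup X} (hB : B.IsSubnormal) :
    Cfsg.generalizedFittingSubgroup X ⊓ B =
      (Cfsg.generalizedFittingSubgroup ↥B).map B.subtype := by
  apply le_antisymm
  · set S := Cfsg.generalizedFittingSubgroup X ⊓ B with hSdef
    have hS : S.IsSubnormal :=
      ((generalizedFittingSubgroup_normal X).isSubnormal).inf hB
    have htop := generalizedFitting_eq_top_of_subnormal hS inf_le_left
    have hSB : (S.subgroupOf B).IsSubnormal := hS.subgroupOf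
    have h1 := generalizedFitting_map_subtype_le hSB
    have e : ↥(S.subgroupOf B) ≃* ↥S := Subgroup.subgroupOfEquivOfLe (inf_le_right : S ≤ B)
    have h2 : Cfsg.generalizedFittingSubgroup ↥(S.subgroupOf B) = ⊤ := by
      have := generalizedFittingSubgroup_map_equiv e.symm
      rw [htop] at this
      rw [← this]
      exact Subgroup.map_top_of_surjective _ e.symm.surjective
    rw [h2, ← MonoidHom.range_eq_map, Subgroup.range_subtype] at h1
    intro x hx
    exact ⟨⟨x, hx.2⟩, h1 (Subgroup.mem_subgroupOf.mpr hx), rfl⟩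
  · exact le_inf (generalizedFitting_map_subtype_le hB) (Subgroup.map_subtype_le _)

/-- `O_p(X) = 1`, `Y` a `p`-subgroup normalizing the subnormal subgroup `L ≤ F*(X)`:
`L = [L, Y] C_L(Y)` and `[L, Y] = [L, Y, Y]`. -/
theorem commutator_eq_of_subnormal_le_generalizedFitting' [Finite X] {p : ℕ} [Fact p.Prime]
    (hO : Cfsg.pCore p X = ⊥) (Y : Subgroup X) (hY : IsPGroup p ↥Y) (L : Subgroup X)
    (hLF : L ≤ Cfsg.generalizedFittingSubgroup X) (hLsn : L.IsSubnormal)
    (hYL : Y ≤ normalizer (L : Set X)) :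
    ⁅L, Y⁆ ⊔ (L ⊓ centralizer (Y : Set X)) = L ∧ ⁅L, Y⁆ = ⁅⁅L, Y⁆, Y⁆ := by
  have hFE := fitting_sup_layer_eq_top_of_subnormal hLsn hLF
  have hcop : (Nat.card ↥(Cfsg.fittingSubgroup ↥L)).Coprime p := by
    have h1 := fitting_map_subtype_le hLsn
    have h2 : Nat.card ↥(Cfsg.fittingSubgroup ↥L) ∣ Nat.card ↥(Cfsg.fittingSubgroup X) := by
      rw [← Subgroup.card_map_of_injective L.subtype_injective]
      exact Subgroup.card_dvd_of_le h1
    exact Nat.Coprime.coprime_dvd_left h2 (fitting_card_coprime_of_pCore_eq_bot p hO)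
  exact commutator_eq_of_fitting_sup_layer Y hY L hYL hFE hcop

/-- If `M = [M, Y]` and `Y` lies in the subnormal subgroup `K`, then `M ≤ K`. -/
theorem le_of_eq_commutator_of_subnormal {M Y K : Subgroup X} (hM : M = ⁅M, Y⁆)
    (hK : K.IsSubnormal) (hYK : Y ≤ K) : M ≤ K := by
  induction hK with
  | top => exact le_top
  | step A B hAB hB hN ih =>
    have h1 : M ≤ B := ih (hYK.trans hAB)
    have hBA : B ≤ normalizer (A : Set X) := (normal_subgroupOf_iff_le_normalizer hAB).mp hN
    rw [hM]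
    calc ⁅M, Y⁆ ≤ ⁅B, A⁆ := commutator_mono h1 hYK
      _ = ⁅A, B⁆ := commutator_comm B A
      _ ≤ A := Cfsg.Agent.Lib.Helper24.commutator_le_of_le_normalizer A B hBA

/-- `Z(F*(X)) ≤ F(X)`. -/
theorem generalizedFitting_inf_centralizer_le_fitting :
    Cfsg.generalizedFittingSubgroup X ⊓
      centralizer (Cfsg.generalizedFittingSubgroup X : Set X) ≤ Cfsg.fittingSubgroup X := by
  have hn : (Cfsg.generalizedFittingSubgroup X).Normal := generalizedFittingSubgroup_normal X
  have hn2 : (centralizer (Cfsg.generalizedFittingSubgroup X : Set X)).Normal :=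
    Subgroup.normal_centralizer
  have hZn : (Cfsg.generalizedFittingSubgroup X ⊓
      centralizer (Cfsg.generalizedFittingSubgroup X : Set X)).Normal :=
    Subgroup.normal_inf_normal _ _
  apply le_fittingSubgroup hZn
  have : IsMulCommutative ↥(Cfsg.generalizedFittingSubgroup X ⊓
      centralizer (Cfsg.generalizedFittingSubgroup X : Set X)) := by
    refine ⟨⟨fun a b => ?_⟩⟩
    apply Subtype.ext
    exact (mem_centralizer_iff.mp b.2.2 a a.2.1)
  exact isNilpotent_of_isMulCommutative _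

/-- With `O_p(X) = 1`, a `p`-subgroup centralizing `F*(X)` is trivial. -/
theorem eq_bot_of_isPGroup_of_le_centralizer_generalizedFitting [Finite X] {p : ℕ} [Fact p.Prime]
    (hO : Cfsg.pCore p X = ⊥) {Y : Subgroup X} (hY : IsPGroup p ↥Y)
    (hYc : Y ≤ centralizer (Cfsg.generalizedFittingSubgroup X : Set X)) : Y = ⊥ := by
  have h1 : Y ≤ Cfsg.generalizedFittingSubgroup X :=
    hYc.trans (centralizer_generalizedFitting_le X)
  have h2 : Y ≤ Cfsg.fittingSubgroup X :=
    (le_inf h1 hYc).trans generalizedFitting_inf_centralizer_le_fitting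
  have hcop := fitting_card_coprime_of_pCore_eq_bot p hO
  rw [eq_bot_iff]
  intro y hy
  rw [mem_bot]
  have h3 : orderOf y ∣ Nat.card ↥(Cfsg.fittingSubgroup X) :=
    Subgroup.orderOf_dvd_natCard _ (h2 hy)
  have h4 : (orderOf (⟨y, hy⟩ : ↥Y)).Coprime p := by
    rw [Subgroup.orderOf_mk]
    exact Nat.Coprime.coprime_dvd_left h3 hcop
  have := eq_one_of_coprime_of_isPGroup' hY ⟨y, hy⟩ h4
  exact congrArg Subtype.val this

/-- With `O_p(X) = 1` and `Y` a `p`-subgroup: `[F*(X), Y] = [F*(X), Y, Y]`. -/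
theorem commutator_generalizedFitting_eq [Finite X] {p : ℕ} [Fact p.Prime]
    (hO : Cfsg.pCore p X = ⊥) (Y : Subgroup X) (hY : IsPGroup p ↥Y) :
    ⁅Cfsg.generalizedFittingSubgroup X, Y⁆ = ⁅⁅Cfsg.generalizedFittingSubgroup X, Y⁆, Y⁆ := by
  have hn : (Cfsg.generalizedFittingSubgroup X).Normal := generalizedFittingSubgroup_normal X
  refine (commutator_eq_of_subnormal_le_generalizedFitting' hO Y hY _ le_rfl hn.isSubnormal ?_).2
  rw [normalizer_eq_top]
  exact le_top

/-- With `O_p(X) = 1`: a `p`-subgroup `Y₀` with `[F*(X), Y₀, Y₀] = 1` is trivial. -/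
theorem eq_bot_of_commutator_commutator_generalizedFitting_eq_bot [Finite X] {p : ℕ}
    [Fact p.Prime] (hO : Cfsg.pCore p X = ⊥) {Y₀ : Subgroup X} (hY₀ : IsPGroup p ↥Y₀)
    (h : ⁅⁅Cfsg.generalizedFittingSubgroup X, Y₀⁆, Y₀⁆ = ⊥) : Y₀ = ⊥ := by
  have h1 := commutator_generalizedFitting_eq hO Y₀ hY₀
  rw [h, commutator_comm] at h1
  exact eq_bot_of_isPGroup_of_le_centralizer_generalizedFitting hO hY₀
    (commutator_eq_bot_iff_le_centralizer.mp h1)

end fstarp

end Cfsg.Agent.Lib.Helper22
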