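import Mathlib
import Cfsg.Prelude.Def_Local
import Cfsg.Agent.Lib.Helper22.FStarP
import Cfsg.Agent.Lib.Helper22.CharP2
import Cfsg.Agent.Lib.Helper24.AbelianQuot
import Cfsg.Agent.Lib.Helper21.Quasisimple

set_option autoImplicit false
set_option linter.style.haveILetI false

/-!
# `L = [F*(H), Q]` for a `p`-subgroup `Q` when `O_p(H) = 1`
-/

namespace Cfsg.Agent.Lib.Helper22

open Subgroup
open Cfsg.Agent.Lib.Helper33
open scoped commutatorElement

universe u

section general

/-- `[X, X] ∩ Z(X) ≤ Φ(X)`. -/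
theorem commutator_inf_center_le_frattini (X : Type u) [Group X] :
    commutator X ⊓ center X ≤ frattini X := by
  unfold frattini Order.radical
  apply le_iInf₂
  intro M hM
  replace hM : IsCoatom M := hM
  intro z hz
  by_contra hzM
  have hlt : M < M ⊔ zpowers z := by
    apply lt_of_le_of_ne le_sup_left
    intro h
    apply hzM
    rw [h]
    exact (le_sup_right : zpowers z ≤ M ⊔ zpowers z) (mem_zpowers z)
  have htop := hM.2 _ hlt
  have hzc : zpowers z ≤ center X := (zpowers_le).mpr hz.2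
  have h1 : commutator X ≤ M := by
    rw [_root_.commutator_def]
    calc ⁅(⊤ : Subgroup X), ⊤⁆ = ⁅M ⊔ zpowers z, M ⊔ zpowers z⁆ := by rw [htop]
      _ ≤ ⁅M ⊔ center X, M ⊔ center X⁆ :=
        commutator_mono (sup_le_sup_left hzc _) (sup_le_sup_left hzc _)
      _ ≤ ⁅M, M⁆ := Cfsg.Agent.Lib.Helper21.commutator_sup_center_le M
      _ ≤ M := commutator_le_self M
  exact hzM (h1 hz.1)

variable {G : Type u} [Group G]

/-- If `L = F(L)E(L)` with `F(L)` a `p'`-group, `Q` a `p`-group normalizing `L` and `[L, Q] = L`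
then `C_L(Q) ≤ [L, L]`. -/
theorem inf_centralizer_le_commutator [Finite G] {p : ℕ} [Fact p.Prime] (Q : Subgroup G)
    (hQ : IsPGroup p ↥Q) (L : Subgroup G) (hQL : Q ≤ normalizer (L : Set G))
    (hFE : Cfsg.fittingSubgroup ↥L ⊔ Cfsg.layer ↥L = ⊤)
    (hcop : (Nat.card ↥(Cfsg.fittingSubgroup ↥L)).Coprime p) (hLQ : ⁅L, Q⁆ = L) :
    L ⊓ centralizer (Q : Set G) ≤ ⁅L, L⁆ := by
  set F₁ : Subgroup G := (Cfsg.fittingSubgroup ↥L).map L.subtype with hF₁
  set E₁ : Subgroup G := (Cfsg.layer ↥L).map L.subtype with hE₁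
  have hF₁L : F₁ ≤ L := Subgroup.map_subtype_le _
  have hLL : ⁅L, L⁆ ≤ L := commutator_le_self L
  have hE₁ : E₁ ≤ ⁅L, L⁆ := by
    have h1 := layer_perfect ↥L
    have h2 : E₁ = ⁅E₁, E₁⁆ := by
      rw [hE₁, ← map_commutator, h1]
    rw [h2]
    exact commutator_mono (Subgroup.map_subtype_le _) (Subgroup.map_subtype_le _)
  have hLsup : L = F₁ ⊔ E₁ := by
    have h1 : L = (⊤ : Subgroup ↥L).map L.subtype := by
      rw [← MonoidHom.range_eq_map, Subgroup.range_subtype]
    conv_lhs => rw [h1, ← hFE, Subgroup.map_sup]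
  have hLn : L ≤ normalizer ((⁅L, L⁆ : Subgroup G) : Set G) :=
    Cfsg.Agent.Lib.Helper24.le_normalizer_commutator_left L L
  have hQn : Q ≤ normalizer ((⁅L, L⁆ : Subgroup G) : Set G) := by
    intro q hq
    have h1 : cj q L = L := cj_eq_self_iff.mpr (hQL hq)
    rw [← cj_eq_self_iff, cj_def, map_commutator, ← cj_def, h1]
  have hQF₁ : Q ≤ normalizer (F₁ : Set G) := (compSystem_of_le_normalizer Q L hQL).normF
  have hcop' : (Nat.card ↥Q).Coprime (Nat.card ↥F₁) := by
    rw [hF₁, Subgroup.card_map_of_injective L.subtype_injective]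
    obtain ⟨n, hn⟩ := hQ.exists_card_eq
    rw [hn]
    exact (Nat.Coprime.pow_right n hcop).symm
  have key := Cfsg.Agent.Lib.Helper24.comm_inf_cent_le_of_abelian_quotient F₁ Q ⁅L, L⁆
    (hF₁L.trans hLn) hQn hQF₁ hcop' (commutator_mono hF₁L hF₁L)
  have hLle : L ≤ ⁅F₁, Q⁆ ⊔ ⁅L, L⁆ := by
    conv_lhs => rw [← hLQ]
    rw [commutator_le]
    intro l hl y hy
    have hl' : l ∈ ((F₁ ⊔ ⁅L, L⁆ : Subgroup G) : Set G) := by
      have : L ≤ F₁ ⊔ ⁅L, L⁆ := by
        conv_lhs => rw [hLsup]
        exact sup_le_sup_left hE₁ _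
      exact this hl
    rw [coe_mul_of_left_le_normalizer_right _ _ (hF₁L.trans hLn)] at hl'
    obtain ⟨f, hf, m, hm, rfl⟩ := hl'
    have hf' : f ∈ F₁ := hf
    have hm' : m ∈ ⁅L, L⁆ := hm
    have e : ⁅f * m, y⁆ = (f * (m * (y * m⁻¹ * y⁻¹)) * f⁻¹) * ⁅f, y⁆ := by
      simp only [commutatorElement_def]; group
    rw [e]
    have h1 : y * m⁻¹ * y⁻¹ ∈ ⁅L, L⁆ :=
      (mem_normalizer_iff.mp (hQn hy) m⁻¹).mp (inv_mem hm')
    have h2 : f * (m * (y * m⁻¹ * y⁻¹)) * f⁻¹ ∈ ⁅L, L⁆ :=
      (mem_normalizer_iff.mp (hLn (hF₁L hf')) _).mp (mul_mem hm' h1)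
    exact mul_mem (le_sup_right (a := ⁅F₁, Q⁆) h2)
      (le_sup_left (b := ⁅L, L⁆) (commutator_mem_commutator hf' hy))
  intro z hz
  exact key ⟨hLle hz.1, hz.2⟩

end general

section fstarq

variable {H : Type u} [Group H]

/-- A subgroup of `F*(H)` normalized by `F*(H)` is subnormal in `H`. -/
theorem isSubnormal_of_le_generalizedFitting {L : Subgroup H}
    (hL : L ≤ Cfsg.generalizedFittingSubgroup H)
    (hn : Cfsg.generalizedFittingSubgroup H ≤ normalizer (L : Set H)) : L.IsSubnormal :=
  IsSubnormal.step L _ hL (generalizedFittingSubgroup_normal H).isSubnormal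
    ((normal_subgroupOf_iff_le_normalizer hL).mpr hn)

/-- `Q` normalizes `[F*(H), Q]`. -/
theorem le_normalizer_commutator_generalizedFitting (Q : Subgroup H) :
    Q ≤ normalizer ((⁅Cfsg.generalizedFittingSubgroup H, Q⁆ : Subgroup H) : Set H) := by
  have hn : (Cfsg.generalizedFittingSubgroup H).Normal := generalizedFittingSubgroup_normal H
  apply Cfsg.Agent.Lib.Helper24.le_normalizer_commutator_right
  rw [normalizer_eq_top]
  exact le_top

/-- `[F*(H), Q]` is subnormal in `H`. -/
theorem isSubnormal_commutator_generalizedFitting (Q : Subgroup H) :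
    (⁅Cfsg.generalizedFittingSubgroup H, Q⁆ : Subgroup H).IsSubnormal := by
  have hn : (Cfsg.generalizedFittingSubgroup H).Normal := generalizedFittingSubgroup_normal H
  exact isSubnormal_of_le_generalizedFitting (commutator_le_left _ _)
    (Cfsg.Agent.Lib.Helper24.le_normalizer_commutator_left _ Q)

/-- A subgroup `F ≤ F*(H)` normalized by `F*(H)` and centralized by `Q` centralizes
`[F*(H), Q]`. -/
theorem le_centralizer_commutator_of_le_centralizer (Q : Subgroup H) {F : Subgroup H}
    (hF2 : Cfsg.generalizedFittingSubgroup H ≤ normalizer (F : Set H))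
    (hF3 : Q ≤ centralizer (F : Set H)) :
    F ≤ centralizer ((⁅Cfsg.generalizedFittingSubgroup H, Q⁆ : Subgroup H) : Set H) := by
  have h1 : ⁅⁅Q, F⁆, Cfsg.generalizedFittingSubgroup H⁆ = ⊥ := by
    rw [commutator_eq_bot_iff_le_centralizer.mpr hF3, commutator_bot_left]
  have h2 : ⁅⁅F, Cfsg.generalizedFittingSubgroup H⁆, Q⁆ = ⊥ := by
    rw [eq_bot_iff]
    calc ⁅⁅F, Cfsg.generalizedFittingSubgroup H⁆, Q⁆ ≤ ⁅F, Q⁆ :=
          commutator_mono (Cfsg.Agent.Lib.Helper24.commutator_le_of_le_normalizer F _ hF2) le_rfl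
      _ = ⊥ := by
          rw [commutator_comm]; exact commutator_eq_bot_iff_le_centralizer.mpr hF3
  have h3 := commutator_commutator_eq_bot_of_rotate h1 h2
  rw [commutator_comm] at h3
  exact commutator_eq_bot_iff_le_centralizer.mp h3

variable [Finite H] {p : ℕ} [Fact p.Prime]

/-- `F(L)` is a `p'`-group for `L` subnormal in `H` with `O_p(H) = 1`. -/
theorem fitting_card_coprime_of_subnormal (hO : Cfsg.pCore p H = ⊥) {L : Subgroup H}
    (hLsn : L.IsSubnormal) : (Nat.card ↥(Cfsg.fittingSubgroup ↥L)).Coprime p := by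
  have h1 := fitting_map_subtype_le hLsn
  have h2 : Nat.card ↥(Cfsg.fittingSubgroup ↥L) ∣ Nat.card ↥(Cfsg.fittingSubgroup H) := by
    rw [← Subgroup.card_map_of_injective L.subtype_injective]
    exact Subgroup.card_dvd_of_le h1
  exact Nat.Coprime.coprime_dvd_left h2 (fitting_card_coprime_of_pCore_eq_bot p hO)

variable (hO : Cfsg.pCore p H = ⊥) (Q : Subgroup H) (hQ : IsPGroup p ↥Q)

include hO hQ in
/-- `F*(H) = [F*(H), Q] C_{F*(H)}(Q)`. -/
theorem commutator_sup_inf_centralizer_generalizedFitting :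
    ⁅Cfsg.generalizedFittingSubgroup H, Q⁆ ⊔
      (Cfsg.generalizedFittingSubgroup H ⊓ centralizer (Q : Set H)) =
      Cfsg.generalizedFittingSubgroup H := by
  have hn : (Cfsg.generalizedFittingSubgroup H).Normal := generalizedFittingSubgroup_normal H
  refine (commutator_eq_of_subnormal_le_generalizedFitting' hO Q hQ _ le_rfl hn.isSubnormal ?_).1
  rw [normalizer_eq_top]
  exact le_top

include hO hQ in
/-- Part (a): the largest `F*(H)`-invariant subgroup of `F*(H)` centralized by `Q` is
`C_{F*(H)}([F*(H), Q] Q)`. -/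
theorem eq_inf_centralizer_of_largest {F : Subgroup H}
    (hF1 : F ≤ Cfsg.generalizedFittingSubgroup H)
    (hF2 : Cfsg.generalizedFittingSubgroup H ≤ normalizer (F : Set H))
    (hF3 : Q ≤ centralizer (F : Set H))
    (hF4 : ∀ N : Subgroup H, N ≤ Cfsg.generalizedFittingSubgroup H →
      Cfsg.generalizedFittingSubgroup H ≤ normalizer (N : Set H) →
      Q ≤ centralizer (N : Set H) → N ≤ F) :
    F = Cfsg.generalizedFittingSubgroup H ⊓
      centralizer ((⁅Cfsg.generalizedFittingSubgroup H, Q⁆ ⊔ Q : Subgroup H) : Set H) := by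
  have hn : (Cfsg.generalizedFittingSubgroup H).Normal := generalizedFittingSubgroup_normal H
  have hFL := le_centralizer_commutator_of_le_centralizer Q hF2 hF3
  apply le_antisymm
  · refine le_inf hF1 ?_
    rw [le_centralizer_iff]
    exact sup_le (le_centralizer_iff.mp hFL) hF3
  · set L := ⁅Cfsg.generalizedFittingSubgroup H, Q⁆ with hL
    set D := Cfsg.generalizedFittingSubgroup H ⊓ centralizer ((L ⊔ Q : Subgroup H) : Set H)
      with hD
    have hDL : D ≤ centralizer (L : Set H) :=
      inf_le_right.trans (centralizer_le (by exact_mod_cast (le_sup_left : L ≤ L ⊔ Q)))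
    have hDQ : D ≤ centralizer (Q : Set H) :=
      inf_le_right.trans (centralizer_le (by exact_mod_cast (le_sup_right : Q ≤ L ⊔ Q)))
    apply hF4 D inf_le_left
    · calc Cfsg.generalizedFittingSubgroup H
          = L ⊔ (Cfsg.generalizedFittingSubgroup H ⊓ centralizer (Q : Set H)) :=
            (commutator_sup_inf_centralizer_generalizedFitting hO Q hQ).symm
        _ ≤ normalizer (D : Set H) := by
          apply sup_le
          · exact (le_centralizer_iff.mp hDL).trans (centralizer_le_normalizer _)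
          · rintro c ⟨hc1, hc2⟩
            have hcL : cj c L = L := cj_eq_self_iff.mpr
              (Cfsg.Agent.Lib.Helper24.le_normalizer_commutator_left _ Q hc1)
            have hcQ : cj c Q = Q :=
              cj_eq_self_iff.mpr (centralizer_le_normalizer _ hc2)
            have hcF : cj c (Cfsg.generalizedFittingSubgroup H) =
                Cfsg.generalizedFittingSubgroup H := by
              rw [cj_eq_self_iff, normalizer_eq_top]; exact mem_top c
            rw [← cj_eq_self_iff, hD, cj_inf, hcF, ← centralizer_cj, cj_sup, hcL, hcQ]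
    · exact le_centralizer_iff.mp hDQ

include hO hQ in
/-- Part (c): `[F*(H), Q] ∩ C_{F*(H)}(Q)`-type subgroups lie in the Frattini subgroup. -/
theorem inf_le_frattini_commutator_generalizedFitting {F : Subgroup H}
    (hF2 : Cfsg.generalizedFittingSubgroup H ≤ normalizer (F : Set H))
    (hF3 : Q ≤ centralizer (F : Set H)) :
    ⁅Cfsg.generalizedFittingSubgroup H, Q⁆ ⊓ F ≤
      (frattini ↥(⁅Cfsg.generalizedFittingSubgroup H, Q⁆ : Subgroup H)).map
        (⁅Cfsg.generalizedFittingSubgroup H, Q⁆ : Subgroup H).subtype := by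
  have hn : (Cfsg.generalizedFittingSubgroup H).Normal := generalizedFittingSubgroup_normal H
  set L := ⁅Cfsg.generalizedFittingSubgroup H, Q⁆ with hL
  have hLF : L ≤ Cfsg.generalizedFittingSubgroup H := commutator_le_left _ _
  have hLsn : L.IsSubnormal := isSubnormal_commutator_generalizedFitting Q
  have hQL : Q ≤ normalizer (L : Set H) := le_normalizer_commutator_generalizedFitting Q
  have hFE := fitting_sup_layer_eq_top_of_subnormal hLsn hLF
  have hcop := fitting_card_coprime_of_subnormal hO hLsn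
  have hLQ : ⁅L, Q⁆ = L := (commutator_generalizedFitting_eq hO Q hQ).symm
  have hFL := le_centralizer_commutator_of_le_centralizer Q hF2 hF3
  have hkey := inf_centralizer_le_commutator Q hQ L hQL hFE hcop hLQ
  rintro z ⟨hzL, hzF⟩
  have hzQ : z ∈ centralizer (Q : Set H) := (le_centralizer_iff.mp hF3) hzF
  have hz1 : z ∈ ⁅L, L⁆ := hkey ⟨hzL, hzQ⟩
  have hzc : z ∈ centralizer (L : Set H) := hFL hzF
  refine ⟨⟨z, hzL⟩, ?_, rfl⟩
  apply commutator_inf_center_le_frattini ↥L
  constructor
  · have h2 : (commutator ↥L).map L.subtype = ⁅L, L⁆ := by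
      rw [_root_.commutator_def, map_commutator, ← MonoidHom.range_eq_map, Subgroup.range_subtype]
    rw [← h2] at hz1
    obtain ⟨w, hw, hwz⟩ := hz1
    have : w = ⟨z, hzL⟩ := Subtype.ext hwz
    rwa [← this]
  · show (⟨z, hzL⟩ : ↥L) ∈ center ↥L
    rw [mem_center_iff]
    intro g
    apply Subtype.ext
    exact mem_centralizer_iff.mp hzc g g.2

include hO hQ in
/-- Part (d). -/
theorem commutator_eq_bot_of_le {F : Subgroup H}
    (hF2 : Cfsg.generalizedFittingSubgroup H ≤ normalizer (F : Set H))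
    (hF3 : Q ≤ centralizer (F : Set H)) {B : Subgroup H} (hB : IsPGroup p ↥B)
    (hBQ : B ≤ normalizer (Q : Set H))
    (hLB : ⁅⁅Cfsg.generalizedFittingSubgroup H, Q⁆, B⁆ ≤ F) :
    ⁅⁅Cfsg.generalizedFittingSubgroup H, Q⁆, B⁆ = ⊥ := by
  have hn : (Cfsg.generalizedFittingSubgroup H).Normal := generalizedFittingSubgroup_normal H
  set L := ⁅Cfsg.generalizedFittingSubgroup H, Q⁆ with hL
  have hLF : L ≤ Cfsg.generalizedFittingSubgroup H := commutator_le_left _ _
  have hLsn : L.IsSubnormal := isSubnormal_commutator_generalizedFitting Q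
  have hBL : B ≤ normalizer (L : Set H) := by
    intro b hb
    have h1 : cj b (Cfsg.generalizedFittingSubgroup H) = Cfsg.generalizedFittingSubgroup H := by
      rw [cj_eq_self_iff, normalizer_eq_top]; exact mem_top b
    have h2 : cj b Q = Q := cj_eq_self_iff.mpr (hBQ hb)
    rw [← cj_eq_self_iff, hL, cj_def, map_commutator, ← cj_def, ← cj_def, h1, h2]
  have hmain := (commutator_eq_of_subnormal_le_generalizedFitting' hO B hB L hLF hLsn hBL).1
  have hLBL : ⁅L, B⁆ ≤ L := Cfsg.Agent.Lib.Helper24.commutator_le_of_le_normalizer L B hBL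
  have hfr : ⁅L, B⁆ ≤ (frattini ↥L).map L.subtype :=
    (le_inf hLBL hLB).trans (inf_le_frattini_commutator_generalizedFitting hO Q hQ hF2 hF3)
  set K : Subgroup ↥L := (L ⊓ centralizer (B : Set H)).subgroupOf L with hK
  have hKmap : K.map L.subtype = L ⊓ centralizer (B : Set H) :=
    map_subgroupOf_eq_of_le inf_le_left
  have hsup : K ⊔ frattini ↥L = ⊤ := by
    apply Subgroup.map_injective L.subtype_injective
    rw [Subgroup.map_sup, hKmap, ← MonoidHom.range_eq_map, Subgroup.range_subtype]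
    apply le_antisymm (sup_le inf_le_left (Subgroup.map_subtype_le _))
    conv_lhs => rw [← hmain]
    rw [sup_comm]
    exact sup_le_sup_left hfr _
  have hKtop : K = ⊤ := frattini_nongenerating hsup
  rw [hK, subgroupOf_eq_top] at hKtop
  have hLc : L ≤ centralizer (B : Set H) := hKtop.trans inf_le_right
  exact commutator_eq_bot_iff_le_centralizer.mpr hLc

include hO hQ in
/-- Part (e). -/
theorem card_centralizer_coprime {F : Subgroup H}
    (hF1 : F ≤ Cfsg.generalizedFittingSubgroup H)
    (hF2 : Cfsg.generalizedFittingSubgroup H ≤ normalizer (F : Set H))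
    (hF3 : Q ≤ centralizer (F : Set H))
    (hF4 : ∀ N : Subgroup H, N ≤ Cfsg.generalizedFittingSubgroup H →
      Cfsg.generalizedFittingSubgroup H ≤ normalizer (N : Set H) →
      Q ≤ centralizer (N : Set H) → N ≤ F) :
    (Nat.card ↥(centralizer ((F ⊔ ⁅Cfsg.generalizedFittingSubgroup H, Q⁆ : Subgroup H) :
      Set H))).Coprime p := by
  have hn : (Cfsg.generalizedFittingSubgroup H).Normal := generalizedFittingSubgroup_normal H
  set Fs := Cfsg.generalizedFittingSubgroup H with hFs
  set L := ⁅Fs, Q⁆ with hL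
  set C := centralizer ((F ⊔ L : Subgroup H) : Set H) with hC
  have hLF : L ≤ Fs := commutator_le_left _ _
  have hFsL : Fs ≤ normalizer (L : Set H) :=
    Cfsg.Agent.Lib.Helper24.le_normalizer_commutator_left _ Q
  have hQL : Q ≤ normalizer (L : Set H) := le_normalizer_commutator_generalizedFitting Q
  have hCF : C ≤ centralizer (F : Set H) :=
    centralizer_le (by exact_mod_cast (le_sup_left : F ≤ F ⊔ L))
  have hCL : C ≤ centralizer (L : Set H) :=
    centralizer_le (by exact_mod_cast (le_sup_right : L ≤ F ⊔ L))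
  set X := ⁅Fs, C⁆ with hX
  have hXF : X ≤ Fs := commutator_le_left _ _
  have hFsX : Fs ≤ normalizer (X : Set H) :=
    Cfsg.Agent.Lib.Helper24.le_normalizer_commutator_left _ C
  have hQC : Q ≤ normalizer (C : Set H) := by
    have h1 : Q ≤ normalizer ((F ⊔ L : Subgroup H) : Set H) := by
      intro q hq
      have h2 : cj q F = F := cj_eq_self_iff.mpr (centralizer_le_normalizer _ (hF3 hq))
      have h3 : cj q L = L := cj_eq_self_iff.mpr (hQL hq)
      rw [← cj_eq_self_iff, cj_sup, h2, h3]
    exact h1.trans (normalizer_le_normalizer_centralizer' _)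
  have hQX : Q ≤ normalizer (X : Set H) := by
    intro q hq
    have h1 : cj q Fs = Fs := by
      rw [cj_eq_self_iff, normalizer_eq_top]; exact mem_top q
    have h2 : cj q C = C := cj_eq_self_iff.mpr (hQC hq)
    rw [← cj_eq_self_iff, hX, cj_def, map_commutator, ← cj_def, ← cj_def, h1, h2]
  -- X centralizes W for W = L, F
  have hXW : ∀ W : Subgroup H, Fs ≤ normalizer (W : Set H) → C ≤ centralizer (W : Set H) →
      X ≤ centralizer (W : Set H) := by
    intro W hW1 hW2
    have h1 : ⁅⁅C, W⁆, Fs⁆ = ⊥ := by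
      rw [commutator_eq_bot_iff_le_centralizer.mpr hW2, commutator_bot_left]
    have h2 : ⁅⁅W, Fs⁆, C⁆ = ⊥ := by
      rw [eq_bot_iff]
      calc ⁅⁅W, Fs⁆, C⁆ ≤ ⁅W, C⁆ :=
            commutator_mono (Cfsg.Agent.Lib.Helper24.commutator_le_of_le_normalizer W _ hW1) le_rfl
        _ = ⊥ := by
            rw [commutator_comm]; exact commutator_eq_bot_iff_le_centralizer.mpr hW2
    have h3 := commutator_commutator_eq_bot_of_rotate h1 h2
    exact commutator_eq_bot_iff_le_centralizer.mp h3
  have hXL : X ≤ centralizer (L : Set H) := hXW L hFsL hCL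
  have hXsn : X.IsSubnormal := isSubnormal_of_le_generalizedFitting hXF hFsX
  have hmain := (commutator_eq_of_subnormal_le_generalizedFitting' hO Q hQ X hXF hXsn hQX).1
  have h1 : ⁅X, Q⁆ ≤ L := commutator_mono hXF le_rfl
  have h2 : X ⊓ centralizer (Q : Set H) ≤ F := by
    apply hF4 _ (inf_le_left.trans hXF)
    · calc Fs = L ⊔ (Fs ⊓ centralizer (Q : Set H)) :=
            (commutator_sup_inf_centralizer_generalizedFitting hO Q hQ).symm
        _ ≤ normalizer ((X ⊓ centralizer (Q : Set H) : Subgroup H) : Set H) := by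
          apply sup_le
          · have h3 : L ≤ centralizer (X : Set H) := le_centralizer_iff.mp hXL
            have h4 : centralizer (X : Set H) ≤
                centralizer ((X ⊓ centralizer (Q : Set H) : Subgroup H) : Set H) :=
              centralizer_le (by exact_mod_cast (inf_le_left : X ⊓ centralizer (Q : Set H) ≤ X))
            exact (h3.trans h4).trans (centralizer_le_normalizer _)
          · rintro c ⟨hc1, hc2⟩
            have hcX : cj c X = X := cj_eq_self_iff.mpr (hFsX hc1)
            have hcQ : cj c Q = Q := cj_eq_self_iff.mpr (centralizer_le_normalizer _ hc2)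
            rw [← cj_eq_self_iff, cj_inf, hcX, ← centralizer_cj, hcQ]
    · exact le_centralizer_iff.mp inf_le_right
  have hXle : X ≤ F ⊔ L := by
    rw [← hmain]
    exact sup_le (h1.trans le_sup_right) (h2.trans le_sup_left)
  have hCX : C ≤ centralizer (X : Set H) := centralizer_le (by exact_mod_cast hXle)
  -- every p-subgroup of C is trivial
  have hT : ∀ T : Subgroup H, T ≤ C → IsPGroup p ↥T → T = ⊥ := by
    intro T hTC hT
    apply eq_bot_of_isPGroup_of_le_centralizer_generalizedFitting hO hT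
    have h3 := commutator_generalizedFitting_eq hO T hT
    have h4 : ⁅⁅Fs, T⁆, T⁆ = ⊥ := by
      rw [eq_bot_iff]
      calc ⁅⁅Fs, T⁆, T⁆ ≤ ⁅X, C⁆ := commutator_mono (commutator_mono le_rfl hTC) hTC
        _ = ⊥ := commutator_eq_bot_iff_le_centralizer.mpr (le_centralizer_iff.mp hCX)
    rw [h4, commutator_comm] at h3
    exact commutator_eq_bot_iff_le_centralizer.mp h3
  have hp : p.Prime := Fact.out
  rw [Nat.coprime_comm, Nat.Prime.coprime_iff_not_dvd hp]
  intro hdvd
  obtain ⟨t, ht⟩ := exists_prime_orderOf_dvd_card' p hdvd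
  have hTp : IsPGroup p ↥(zpowers (t : H)) := by
    apply IsPGroup.of_card (n := 1)
    rw [Nat.card_zpowers, Subgroup.orderOf_coe, ht, pow_one]
  have hTC : zpowers (t : H) ≤ C := (zpowers_le).mpr t.2
  have h5 := hT _ hTC hTp
  rw [zpowers_eq_bot] at h5
  have h6 : t = 1 := Subtype.ext h5
  rw [h6, orderOf_one] at ht
  exact hp.one_lt.ne ht

end fstarq

end Cfsg.Agent.Lib.Helper22
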