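import Cfsg.Agent.Lib.Helper22.CharP
import Cfsg.Agent.Lib.Helper23.PComponent
import Cfsg.Agent.Lib.Helper24.Coprime
import Cfsg.Agent.Lib.Helper30.PPrimeCore

set_option autoImplicit false

/-!
# `p`-constraint and the `p`-layer
-/

namespace Cfsg.Agent.Lib.Helper22

universe u

section pconstrained

variable {X : Type u} [Group X]

/-- The `p`-layer is trivial iff `X / O_{p'}(X)` has trivial layer. -/
theorem pLayer_eq_bot_iff [Finite X] (p : ℕ) [Fact p.Prime] :
    Cfsg.pLayer p X = ⊥ ↔ Cfsg.layer (X ⧸ Cfsg.pPrimeCore p X) = ⊥ := by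
  constructor
  · intro h
    by_contra hne
    have : ∃ K : Subgroup (X ⧸ Cfsg.pPrimeCore p X), Cfsg.IsComponent K := by
      by_contra hno
      push_neg at hno
      apply hne
      unfold Cfsg.layer
      rw [eq_bot_iff]
      apply sSup_le
      intro K hK
      exact absurd hK (hno K)
    obtain ⟨K, hK⟩ := this
    obtain ⟨h1, h2⟩ := Cfsg.Agent.Lib.Helper23.isPComponent_pUp p hK
    have h3 : Cfsg.Agent.Lib.Helper23.pUp p (K.comap (QuotientGroup.mk' (Cfsg.pPrimeCore p X)))
        ≤ Cfsg.pLayer p X := le_sSup h1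
    rw [h, le_bot_iff] at h3
    rw [h3, Subgroup.map_bot] at h2
    exact component_ne_bot hK h2.symm
  · intro h
    unfold Cfsg.pLayer
    rw [eq_bot_iff]
    apply sSup_le
    intro K hK
    exfalso
    have h1 : K.map (QuotientGroup.mk' (Cfsg.pPrimeCore p X)) ≤
        Cfsg.layer (X ⧸ Cfsg.pPrimeCore p X) := component_le_layer hK.2.1
    rw [h, le_bot_iff] at h1
    exact component_ne_bot hK.2.1 h1

/-- Coprime lifting of centralizers: if `N` is normal and `P` has order coprime to `|N|` (one of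
them solvable), then `C_{X/N}(PN/N)` is the image of `C_X(P)`. -/
theorem map_centralizer_mk'_of_coprime [Finite X] (N P : Subgroup X) [N.Normal]
    (hcop : (Nat.card P).Coprime (Nat.card N))
    (hsolv : Group.IsSolvable N ∨ Group.IsSolvable P) :
    (Subgroup.centralizer (P : Set X)).map (QuotientGroup.mk' N) =
      Subgroup.centralizer ((P.map (QuotientGroup.mk' N) : Subgroup (X ⧸ N)) : Set (X ⧸ N)) := by
  apply le_antisymm
  · rintro _ ⟨c, hc, rfl⟩
    rw [Subgroup.mem_centralizer_iff]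
    rintro _ ⟨y, hy, rfl⟩
    rw [← map_mul, ← map_mul, Subgroup.mem_centralizer_iff.mp hc y hy]
  · intro kbar hk
    obtain ⟨k, rfl⟩ := QuotientGroup.mk'_surjective N kbar
    have hPN : P ≤ Subgroup.normalizer (N : Set X) := by
      rw [Subgroup.normalizer_eq_top]; exact le_top
    have hk' : ∀ a ∈ P, a * k * a⁻¹ * k⁻¹ ∈ N := by
      intro a ha
      rw [← QuotientGroup.eq_one_iff]
      have := Subgroup.mem_centralizer_iff.mp hk (QuotientGroup.mk' N a)
        (Subgroup.mem_map_of_mem _ ha)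
      simp only [QuotientGroup.mk'_apply] at this
      simp only [QuotientGroup.mk_mul, QuotientGroup.mk_inv]
      rw [this]
      group
    obtain ⟨n, hn, hc⟩ := Cfsg.Agent.Lib.Helper24.fixed_point_lemma N P hPN hcop hsolv k hk'
    refine ⟨n⁻¹ * k, hc, ?_⟩
    simp only [QuotientGroup.mk'_apply, QuotientGroup.mk_mul, QuotientGroup.mk_inv]
    rw [(QuotientGroup.eq_one_iff n).mpr hn]
    simp

/-- A Sylow `p`-subgroup of the preimage `W` of a `p`-subgroup `Q` of a quotient maps onto `Q`. -/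
theorem sylow_comap_map [Finite X] (p : ℕ) [Fact p.Prime] (N : Subgroup X) [N.Normal]
    (Q : Subgroup (X ⧸ N)) (hQp : IsPGroup p ↥Q) (W : Subgroup X)
    (hWdef : W = Q.comap (QuotientGroup.mk' N)) (P : Sylow p ↥W) :
    (((P : Subgroup ↥W).map W.subtype).map (QuotientGroup.mk' N)) = Q := by
  set π := QuotientGroup.mk' N with hπ
  have hsurj : Function.Surjective π := QuotientGroup.mk'_surjective N
  have hWmap : W.map π = Q := by
    rw [hWdef]; exact Subgroup.map_comap_eq_self_of_surjective hsurj Q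
  set P' := (P : Subgroup ↥W).map W.subtype with hP'
  have hP'W : P' ≤ W := Subgroup.map_subtype_le _
  set Y := P'.map π with hY
  have hYQ : Y ≤ Q := by
    rw [hY, Subgroup.map_le_iff_le_comap, ← hWdef]; exact hP'W
  apply le_antisymm hYQ
  -- index argument
  have h1 : (Y.comap π).relIndex W = Y.relIndex Q := by
    rw [Subgroup.relIndex_comap, hWmap]
  obtain ⟨k, hk⟩ := IsPGroup.iff_card.mp hQp
  have h2 : Y.relIndex Q ∣ p ^ k := hk ▸ Subgroup.relIndex_dvd_card Y Q
  have h3 : P' ≤ Y.comap π := Subgroup.le_comap_map _ _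
  have h4 : (Y.comap π).relIndex W ∣ P'.relIndex W := Subgroup.relIndex_dvd_of_le_left W h3
  have h5 : P'.relIndex W = (P : Subgroup ↥W).index := by
    unfold Subgroup.relIndex
    congr 1
    rw [hP']
    ext x
    rw [Subgroup.mem_subgroupOf]
    constructor
    · rintro ⟨y, hy, hxy⟩
      have : y = x := Subtype.ext hxy
      rwa [← this]
    · intro hx
      exact ⟨x, hx, rfl⟩
  have h6 : ¬ p ∣ (P : Subgroup ↥W).index := P.not_dvd_index
  have h7 : (Y.comap π).relIndex W = 1 := by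
    rw [h1] at h4 ⊢
    obtain ⟨j, -, hj⟩ := (Nat.dvd_prime_pow (Fact.out : p.Prime)).mp h2
    rcases Nat.eq_zero_or_pos j with h0 | h0
    · rw [hj, h0, pow_zero]
    · exfalso
      apply h6
      rw [← h5]
      refine dvd_trans ?_ h4
      rw [hj]
      exact dvd_pow_self p (by omega)
  rw [Subgroup.relIndex_eq_one] at h7
  calc Q = W.map π := hWmap.symm
    _ ≤ (Y.comap π).map π := Subgroup.map_mono h7
    _ ≤ Y := Subgroup.map_comap_le _ _

/-- A Sylow `p`-subgroup of `O_{p',p}(X)` maps onto `O_p(X / O_{p'}(X))`. -/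
theorem sylow_pPrimePCore_map [Finite X] (p : ℕ) [Fact p.Prime]
    (P : Sylow p ↥(Cfsg.pPrimePCore p X)) :
    (((P : Subgroup ↥(Cfsg.pPrimePCore p X)).map (Cfsg.pPrimePCore p X).subtype).map
      (QuotientGroup.mk' (Cfsg.pPrimeCore p X))) = Cfsg.pCore p (X ⧸ Cfsg.pPrimeCore p X) :=
  sylow_comap_map p (Cfsg.pPrimeCore p X) _ (pCore_isPGroup' p _) (Cfsg.pPrimePCore p X) rfl P

/-- `X` is `p`-constrained iff `C(O_p(X̄)) ≤ O_p(X̄)` in `X̄ = X / O_{p'}(X)`. -/
theorem isPConstrained_iff_centralizer_le [Finite X] (p : ℕ) [Fact p.Prime] :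
    Cfsg.IsPConstrained p X ↔
      Subgroup.centralizer (Cfsg.pCore p (X ⧸ Cfsg.pPrimeCore p X) : Set (X ⧸ Cfsg.pPrimeCore p X))
        ≤ Cfsg.pCore p (X ⧸ Cfsg.pPrimeCore p X) := by
  have key : ∀ P : Sylow p ↥(Cfsg.pPrimePCore p X),
      (Subgroup.centralizer
        (((P : Subgroup ↥(Cfsg.pPrimePCore p X)).map (Cfsg.pPrimePCore p X).subtype : Subgroup X) :
          Set X) ≤ Cfsg.pPrimePCore p X) ↔
      Subgroup.centralizer (Cfsg.pCore p (X ⧸ Cfsg.pPrimeCore p X) :
        Set (X ⧸ Cfsg.pPrimeCore p X)) ≤ Cfsg.pCore p (X ⧸ Cfsg.pPrimeCore p X) := by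
    intro P
    have hPp : IsPGroup p ↥((P : Subgroup ↥(Cfsg.pPrimePCore p X)).map
        (Cfsg.pPrimePCore p X).subtype) := P.2.map _
    have hcop : (Nat.card ↥((P : Subgroup ↥(Cfsg.pPrimePCore p X)).map
        (Cfsg.pPrimePCore p X).subtype)).Coprime (Nat.card ↥(Cfsg.pPrimeCore p X)) := by
      obtain ⟨k, hk⟩ := IsPGroup.iff_card.mp hPp
      rw [hk]
      exact Nat.Coprime.pow_left k
        (Cfsg.Agent.Lib.Helper30.pPrimeCore_card_coprime (G := X) p).symm
    have hsolv : Group.IsSolvable ↥(Cfsg.pPrimeCore p X) ∨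
        Group.IsSolvable ↥((P : Subgroup ↥(Cfsg.pPrimePCore p X)).map
          (Cfsg.pPrimePCore p X).subtype) := by
      right
      have : Group.IsNilpotent ↥((P : Subgroup ↥(Cfsg.pPrimePCore p X)).map
          (Cfsg.pPrimePCore p X).subtype) := hPp.isNilpotent
      infer_instance
    have h1 := map_centralizer_mk'_of_coprime (Cfsg.pPrimeCore p X) _ hcop hsolv
    rw [sylow_pPrimePCore_map p P] at h1
    rw [← h1]
    unfold Cfsg.pPrimePCore
    rw [Subgroup.map_le_iff_le_comap]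
  unfold Cfsg.IsPConstrained
  constructor
  · intro h
    obtain ⟨P⟩ : Nonempty (Sylow p ↥(Cfsg.pPrimePCore p X)) := inferInstance
    exact (key P).mp (h P)
  · intro h P
    exact (key P).mpr h

/-- In a finite group, `C(O_p) ≤ O_p` forces the layer to be trivial. -/
theorem layer_eq_bot_of_centralizer_pCore_le [Finite X] (p : ℕ) [Fact p.Prime]
    (h : Subgroup.centralizer (Cfsg.pCore p X : Set X) ≤ Cfsg.pCore p X) :
    Cfsg.layer X = ⊥ := by
  have hF := (generalizedFitting_eq_pCore_iff (X := X) p).mpr h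
  unfold Cfsg.layer
  rw [eq_bot_iff]
  apply sSup_le
  intro L hL
  exfalso
  have h1 : L ≤ Cfsg.pCore p X := by
    rw [← hF]
    exact (component_le_layer hL).trans (layer_le_generalizedFitting X)
  have hLp : IsPGroup p ↥L := (pCore_isPGroup' p X).to_le h1
  have : Group.IsNilpotent ↥L := hLp.isNilpotent
  have hs : Group.IsSolvable ↥L := inferInstance
  exact Cfsg.Agent.Lib.Helper21.quasisimple_not_solvable hL.2 hs

/-- If `O_{p'}(X) = 1` and `E(X) = 1` then `C(O_p(X)) ≤ O_p(X)`. -/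
theorem centralizer_pCore_le_of_layer_eq_bot [Finite X] (p : ℕ) [Fact p.Prime]
    (hO : Cfsg.pPrimeCore p X = ⊥) (hE : Cfsg.layer X = ⊥) :
    Subgroup.centralizer (Cfsg.pCore p X : Set X) ≤ Cfsg.pCore p X := by
  rw [← generalizedFitting_eq_pCore_iff]
  apply generalizedFitting_eq_pCore_of p hE
  intro q hq hqp
  have : Fact q.Prime := ⟨hq⟩
  rw [eq_bot_iff, ← hO]
  apply le_pPrimeCore' (pCore_normal' q X)
  obtain ⟨k, hk⟩ := IsPGroup.iff_card.mp (pCore_isPGroup' q X)
  rw [hk]
  apply Nat.Coprime.pow_left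
  exact (Nat.coprime_primes hq (Fact.out : p.Prime)).mpr hqp

/-- A finite group is `p`-constrained iff its `p`-layer is trivial. -/
theorem isPConstrained_iff_pLayer_eq_bot [Finite X] (p : ℕ) [Fact p.Prime] :
    Cfsg.IsPConstrained p X ↔ Cfsg.pLayer p X = ⊥ := by
  rw [isPConstrained_iff_centralizer_le, pLayer_eq_bot_iff]
  constructor
  · exact layer_eq_bot_of_centralizer_pCore_le p
  · exact centralizer_pCore_le_of_layer_eq_bot p
      (Cfsg.Agent.Lib.Helper30.pPrimeCore_quotient_eq_bot p)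

/-- If `C(O_p(Y)) ≤ O_p(Y)` then `O_{p'}(Y) = 1`. -/
theorem pPrimeCore_eq_bot_of_centralizer_pCore_le {Y : Type u} [Group Y] [Finite Y] (p : ℕ)
    [Fact p.Prime]
    (h : Subgroup.centralizer (Cfsg.pCore p Y : Set Y) ≤ Cfsg.pCore p Y) :
    Cfsg.pPrimeCore p Y = ⊥ := by
  have hQn : (Cfsg.pCore p Y).Normal := pCore_normal' p Y
  have hRn : (Cfsg.pPrimeCore p Y).Normal := pPrimeCore_normal' p Y
  have hQp : IsPGroup p ↥(Cfsg.pCore p Y) := pCore_isPGroup' p Y
  have hcop : (Nat.card ↥(Cfsg.pPrimeCore p Y)).Coprime (Nat.card ↥(Cfsg.pCore p Y)) := by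
    obtain ⟨k, hk⟩ := IsPGroup.iff_card.mp hQp
    rw [hk]
    exact Nat.Coprime.pow_right k (Cfsg.Agent.Lib.Helper30.pPrimeCore_card_coprime (G := Y) p)
  have hdis : Disjoint (Cfsg.pPrimeCore p Y) (Cfsg.pCore p Y) :=
    Subgroup.disjoint_of_coprime_natCard hcop
  have h1 : Cfsg.pPrimeCore p Y ≤ Subgroup.centralizer (Cfsg.pCore p Y : Set Y) := by
    intro y hy
    rw [Subgroup.mem_centralizer_iff]
    intro z hz
    exact ((Subgroup.commute_of_normal_of_disjoint _ _ hRn hQn hdis y z hy hz).eq).symm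
  rw [eq_bot_iff]
  intro y hy
  exact hdis.le_bot ⟨hy, h (h1 hy)⟩

/-- Let `φ : H → Y` be a surjection of finite groups whose kernel is a `p'`-group and such that
`C(O_p(Y)) ≤ O_p(Y)`. Then `O_{p'}(H) = ker φ` and the `p`-layer of `H` is trivial. -/
theorem pPrimeCore_eq_ker_and_pLayer_eq_bot {H Y : Type u} [Group H] [Group Y] [Finite H]
    [Finite Y] (p : ℕ) [Fact p.Prime] (φ : H →* Y) (hφ : Function.Surjective φ)
    (hker : (Nat.card ↥φ.ker).Coprime p)
    (h : Subgroup.centralizer (Cfsg.pCore p Y : Set Y) ≤ Cfsg.pCore p Y) :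
    Cfsg.pPrimeCore p H = φ.ker ∧ Cfsg.pLayer p H = ⊥ := by
  have hO : Cfsg.pPrimeCore p Y = ⊥ := pPrimeCore_eq_bot_of_centralizer_pCore_le p h
  have hE : Cfsg.layer Y = ⊥ := layer_eq_bot_of_centralizer_pCore_le p h
  have h1 : Cfsg.pPrimeCore p H = φ.ker := by
    apply le_antisymm
    · have hn : ((Cfsg.pPrimeCore p H).map φ).Normal :=
        (pPrimeCore_normal' p H).map φ hφ
      have hc : (Nat.card ↥((Cfsg.pPrimeCore p H).map φ)).Coprime p :=
        Nat.Coprime.coprime_dvd_left (Subgroup.card_map_dvd _ _)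
          (Cfsg.Agent.Lib.Helper30.pPrimeCore_card_coprime (G := H) p)
      have := le_pPrimeCore' hn hc
      rw [hO, le_bot_iff] at this
      exact (Subgroup.map_eq_bot_iff _).mp this
    · exact le_pPrimeCore' (MonoidHom.normal_ker φ) hker
  refine ⟨h1, ?_⟩
  rw [pLayer_eq_bot_iff]
  let e : (H ⧸ Cfsg.pPrimeCore p H) ≃* Y :=
    (QuotientGroup.quotientMulEquivOfEq h1).trans (QuotientGroup.quotientKerEquivOfSurjective φ hφ)
  have h2 := layer_map_equiv e
  rw [hE] at h2
  exact (Subgroup.map_eq_bot_iff_of_injective _ e.injective).mp h2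

/-- **`p`-local subgroups of `p`-constrained groups.** If `L_{p'}(G) = 1` and `P` is a `p`-subgroup,
then for `H = N_G(P)`: `L_{p'}(H) = 1` and `O_{p'}(H) ≤ O_{p'}(G)`. -/
theorem pLayer_normalizer_eq_bot {G : Type u} [Group G] [Finite G] (p : ℕ) [Fact p.Prime]
    (hL : Cfsg.pLayer p G = ⊥) (P : Subgroup G) (hP : IsPGroup p ↥P) :
    Cfsg.pLayer p ↥(Subgroup.normalizer (P : Set G)) = ⊥ ∧
      (Cfsg.pPrimeCore p ↥(Subgroup.normalizer (P : Set G))).map
        (Subgroup.normalizer (P : Set G)).subtype ≤ Cfsg.pPrimeCore p G := by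
  set N := Cfsg.pPrimeCore p G with hN
  set π := QuotientGroup.mk' N with hπ
  set H := Subgroup.normalizer (P : Set G) with hH
  have hNcop : (Nat.card ↥N).Coprime p := Cfsg.Agent.Lib.Helper30.pPrimeCore_card_coprime (G := G) p
  -- the quotient has F* = O_p
  have hEbar : Cfsg.layer (G ⧸ N) = ⊥ := (pLayer_eq_bot_iff p).mp hL
  have hObar : Cfsg.pPrimeCore p (G ⧸ N) = ⊥ := Cfsg.Agent.Lib.Helper30.pPrimeCore_quotient_eq_bot p
  have hFbar : Cfsg.generalizedFittingSubgroup (G ⧸ N) = Cfsg.pCore p (G ⧸ N) :=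
    (generalizedFitting_eq_pCore_iff p).mpr (centralizer_pCore_le_of_layer_eq_bot p hObar hEbar)
  -- the image of H
  have hPbar : IsPGroup p ↥(P.map π) := hP.map π
  have h1 : P.map π ≤ H.map π := Subgroup.map_mono Subgroup.le_normalizer
  have h2 : H.map π ≤ Subgroup.normalizer ((P.map π : Subgroup (G ⧸ N)) : Set (G ⧸ N)) :=
    Subgroup.le_normalizer_map π
  have hcop : (Nat.card ↥P).Coprime (Nat.card ↥N) := by
    obtain ⟨k, hk⟩ := IsPGroup.iff_card.mp hP
    rw [hk]
    exact Nat.Coprime.pow_left k hNcop.symm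
  have hsolv : Group.IsSolvable ↥N ∨ Group.IsSolvable ↥P := by
    right
    have : Group.IsNilpotent ↥P := hP.isNilpotent
    infer_instance
  have h3 : Subgroup.centralizer ((P.map π : Subgroup (G ⧸ N)) : Set (G ⧸ N)) ≤ H.map π := by
    rw [← map_centralizer_mk'_of_coprime N P hcop hsolv]
    exact Subgroup.map_mono (Subgroup.centralizer_le_normalizer _)
  have h4 := generalizedFitting_eq_pCore_of_le_normalizer p hFbar (P.map π) hPbar (H.map π) h1 h2
    (inf_le_right.trans h3)
  rw [generalizedFitting_eq_pCore_iff] at h4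
  -- apply the abstract lemma to φ : H → H.map π
  have hker : (π.subgroupMap H).ker = N.subgroupOf H := by
    ext x
    rw [MonoidHom.mem_ker, Subgroup.mem_subgroupOf, ← QuotientGroup.eq_one_iff (x : G)]
    constructor
    · intro hx
      exact congrArg Subtype.val hx
    · intro hx
      exact Subtype.ext hx
  have hkercop : (Nat.card ↥(π.subgroupMap H).ker).Coprime p := by
    rw [hker]
    refine Nat.Coprime.coprime_dvd_left ?_ hNcop
    have : Nat.card ↥(N.subgroupOf H) = Nat.card ↥(N ⊓ H) := by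
      rw [← Subgroup.inf_subgroupOf_right N H]
      exact Nat.card_congr (Subgroup.subgroupOfEquivOfLe (inf_le_right : N ⊓ H ≤ H)).toEquiv
    rw [this]
    exact Subgroup.card_dvd_of_le inf_le_left
  obtain ⟨h5, h6⟩ := pPrimeCore_eq_ker_and_pLayer_eq_bot p (π.subgroupMap H)
    (π.subgroupMap_surjective H) hkercop h4
  refine ⟨h6, ?_⟩
  rw [h5, hker, Subgroup.subgroupOf_map_subtype]
  exact inf_le_left

end pconstrained

end Cfsg.Agent.Lib.Helper22
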