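import Cfsg.Agent.Lib.Helper22.FStar
import Cfsg.Agent.Lib.Helper48.CoprimeGen
import Cfsg.Agent.Lib.Helper64.TI

set_option autoImplicit false

/-!
# Coprime action of elementary abelian groups: hyperplane fixed points
-/

namespace Cfsg.Agent.Lib.Helper22

universe u

section signalizer

variable {G : Type u} [Group G]

open Cfsg.Agent.Lib.Helper48 (genSet genSub coprime_gen genSub_transfer_subgroup)
open scoped Pointwise

theorem mem_centralizer_zpowers_of_commute {x c : G} (h : x * c = c * x) :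
    x ∈ Subgroup.centralizer ((Subgroup.zpowers c : Subgroup G) : Set G) := by
  rw [Subgroup.mem_centralizer_iff]
  intro z hz
  obtain ⟨k, rfl⟩ := Subgroup.mem_zpowers_iff.mp hz
  have hc : Commute x c := h
  exact ((hc.zpow_right k).eq).symm

/-- `|B ⊔ ⟨a⟩| ≤ |B| * p` when `a` commutes with `B` and `a ^ p = 1`. -/
theorem card_sup_zpowers_le [Finite G] {p : ℕ} (hp : 0 < p) (B : Subgroup G) (a : G) (ha : a ^ p = 1)
    (hc : ∀ x ∈ B, x * a = a * x) :
    Nat.card ↥(B ⊔ Subgroup.zpowers a) ≤ Nat.card ↥B * p := by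
  have hle : B ≤ Subgroup.normalizer ((Subgroup.zpowers a : Subgroup G) : Set G) := by
    refine le_trans ?_ (Subgroup.centralizer_le_normalizer _)
    intro x hx
    exact mem_centralizer_zpowers_of_commute (hc x hx)
  have h := Subgroup.coe_mul_of_left_le_normalizer_right B (Subgroup.zpowers a) hle
  have h1 : Nat.card ↥(B ⊔ Subgroup.zpowers a) =
      Nat.card ↥((B : Set G) * ((Subgroup.zpowers a : Subgroup G) : Set G)) := by
    rw [← h]; rfl
  rw [h1]
  refine le_trans Set.natCard_mul_le ?_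
  apply Nat.mul_le_mul le_rfl
  show Nat.card ↥(Subgroup.zpowers a) ≤ p
  rw [Nat.card_zpowers]
  exact Nat.le_of_dvd hp (orderOf_dvd_of_pow_eq_one ha)

/-- **Hyperplane fixed points.** Let `A` be an elementary abelian `p`-group normalizing a `p'`-group
`N`, and `D` any subgroup not containing `N`. Then there is `B ≤ A` of index at most `p` with
`C_N(B) ≰ D`. -/
theorem exists_hyperplane_centralizer_not_le [Finite G] (p : ℕ) [Fact p.Prime] (A : Subgroup G)
    (hA : Cfsg.IsElementaryAbelian p A) (N D : Subgroup G) (hN : ¬ p ∣ Nat.card ↥N)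
    (hAN : A ≤ Subgroup.normalizer (N : Set G)) (hND : ¬ N ≤ D) :
    ∃ B : Subgroup G, B ≤ A ∧ Nat.card ↥A ≤ Nat.card ↥B * p ∧
      ¬ (N ⊓ Subgroup.centralizer (B : Set G) ≤ D) := by
  have hp : p.Prime := Fact.out
  have hAc : ∀ x ∈ A, ∀ y ∈ A, x * y = y * x := by
    intro x hx y hy
    have h := hA.1.is_comm.comm (⟨x, hx⟩ : ↥A) ⟨y, hy⟩
    exact congrArg Subtype.val h
  set S : Set (Subgroup G) :=
    {B | B ≤ A ∧ ¬ (N ⊓ Subgroup.centralizer (B : Set G) ≤ D)} with hS
  have hne : S.Nonempty := by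
    refine ⟨⊥, bot_le, ?_⟩
    rw [Subgroup.coe_bot, Subgroup.centralizer_eq_top_iff_subset.mpr (by simp), inf_top_eq]
    exact hND
  obtain ⟨B, hB⟩ := (Set.toFinite S).exists_maximal hne
  have hBS : B ∈ S := hB.prop
  refine ⟨B, hBS.1, ?_, hBS.2⟩
  by_contra hlt
  rw [not_le] at hlt
  -- a ∈ A \ B
  have h1 : ¬ A ≤ B := by
    intro h
    have := Subgroup.card_le_of_le h
    have hB1 : 1 ≤ Nat.card ↥B := Nat.card_pos
    nlinarith [hp.two_le]
  obtain ⟨a, haA, haB⟩ := SetLike.not_le_iff_exists.mp h1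
  have hap : a ^ p = 1 := hA.2 a haA
  have hBa : ∀ x ∈ B, x * a = a * x := fun x hx => hAc x (hBS.1 hx) a haA
  have h2 : ¬ A ≤ B ⊔ Subgroup.zpowers a := by
    intro h
    have := Subgroup.card_le_of_le h
    have := card_sup_zpowers_le hp.pos B a hap hBa
    omega
  obtain ⟨b, hbA, hbB⟩ := SetLike.not_le_iff_exists.mp h2
  have hbp : b ^ p = 1 := hA.2 b hbA
  have hab : a * b = b * a := hAc a haA b hbA
  -- W = C_N(B)
  set W := N ⊓ Subgroup.centralizer (B : Set G) with hW
  have hAW : A ≤ Subgroup.normalizer (W : Set G) := by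
    intro x hx
    have key : ∀ y ∈ A, ∀ w ∈ W, y * w * y⁻¹ ∈ W := by
      intro y hy w hw
      refine ⟨(Subgroup.mem_normalizer_iff.mp (hAN hy) w).mp hw.1, ?_⟩
      show y * w * y⁻¹ ∈ Subgroup.centralizer (B : Set G)
      rw [Subgroup.mem_centralizer_iff]
      intro z hz
      have hzy : z * y = y * z := hAc z (hBS.1 hz) y hy
      have hzy' : z * y⁻¹ = y⁻¹ * z := by
        have : Commute z y := hzy
        exact this.inv_right.eq
      have hzw : z * w = w * z := Subgroup.mem_centralizer_iff.mp hw.2 z hz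
      calc z * (y * w * y⁻¹) = (z * y) * w * y⁻¹ := by group
        _ = y * (z * w) * y⁻¹ := by rw [hzy]; group
        _ = y * w * (z * y⁻¹) := by rw [hzw]; group
        _ = y * w * y⁻¹ * z := by rw [hzy']; group
    rw [Subgroup.mem_normalizer_iff]
    intro w
    constructor
    · exact key x hx w
    · intro h
      have := key x⁻¹ (A.inv_mem hx) _ h
      have e : x⁻¹ * (x * w * x⁻¹) * x⁻¹⁻¹ = w := by group
      rwa [e] at this
  have hWcard : ¬ p ∣ Nat.card ↥W := fun h =>
    hN (h.trans (Subgroup.card_dvd_of_le inf_le_left))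
  -- generation
  have hgen : W ≤ genSub W a b := by
    apply genSub_transfer_subgroup (Subgroup.normalizer (W : Set G)) W a b (hAW haA) (hAW hbA)
      Subgroup.le_normalizer
    have hn : (W.subgroupOf (Subgroup.normalizer (W : Set G))).Normal :=
      Subgroup.normal_in_normalizer
    apply coprime_gen (p := p)
    · apply Subtype.ext
      simpa using hap
    · apply Subtype.ext
      simpa using hbp
    · apply Subtype.ext
      simpa using hab
    · rw [Nat.card_congr (Subgroup.subgroupOfEquivOfLe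
        (Subgroup.le_normalizer : W ≤ Subgroup.normalizer (W : Set G))).toEquiv]
      exact hWcard
  have hex : ∃ c ∈ genSet a b, ¬ (W ⊓ Subgroup.centralizer {c} ≤ D) := by
    by_contra hno
    push Not at hno
    apply hBS.2
    refine hgen.trans ?_
    unfold Cfsg.Agent.Lib.Helper48.genSub
    exact iSup₂_le hno
  obtain ⟨c, hc, hcD⟩ := hex
  have hcA : c ∈ A := by
    rcases hc with rfl | ⟨n, rfl⟩
    · exact hbA
    · exact A.mul_mem haA (A.pow_mem hbA n)
  have hcB : c ∉ B := by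
    rcases hc with rfl | ⟨n, rfl⟩
    · exact fun h => hbB (le_sup_left (a := B) h)
    · intro h
      by_cases hpn : p ∣ n
      · obtain ⟨m, rfl⟩ := hpn
        rw [pow_mul, hbp, one_pow, mul_one] at h
        exact haB h
      · have hcop : Nat.Coprime n p := ((Nat.Prime.coprime_iff_not_dvd hp).mpr hpn).symm
        have hbn : b ^ n ∈ B ⊔ Subgroup.zpowers a := by
          have e : b ^ n = a⁻¹ * (a * b ^ n) := by group
          rw [e]
          exact Subgroup.mul_mem _
            (le_sup_right (a := B) (Subgroup.inv_mem _ (Subgroup.mem_zpowers a)))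
            (le_sup_left (a := B) h)
        apply hbB
        have hord : orderOf b ∣ p := orderOf_dvd_of_pow_eq_one hbp
        have hcop' : Nat.Coprime n (orderOf b) := Nat.Coprime.coprime_dvd_right hord hcop
        obtain ⟨m, hm⟩ := exists_pow_eq_self_of_coprime hcop'
        rw [← hm]
        exact Subgroup.pow_mem _ hbn m
  have hB' : B ⊔ Subgroup.zpowers c ∈ S := by
    refine ⟨sup_le hBS.1 (Subgroup.zpowers_le.mpr hcA), ?_⟩
    intro h
    apply hcD
    refine le_trans ?_ h
    rintro x ⟨⟨hxN, hxB⟩, hxc⟩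
    refine ⟨hxN, ?_⟩
    have h3 : B ⊔ Subgroup.zpowers c ≤ Subgroup.centralizer {x} := by
      apply sup_le
      · intro y hy
        rw [Subgroup.mem_centralizer_singleton_iff]
        exact Subgroup.mem_centralizer_iff.mp hxB y hy
      · rw [Subgroup.zpowers_le, Subgroup.mem_centralizer_singleton_iff]
        exact (Subgroup.mem_centralizer_singleton_iff.mp hxc).symm
    show x ∈ Subgroup.centralizer ((B ⊔ Subgroup.zpowers c : Subgroup G) : Set G)
    rw [Subgroup.mem_centralizer_iff]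
    intro y hy
    exact Subgroup.mem_centralizer_singleton_iff.mp (h3 hy)
  have := hB.le_of_ge hB' le_sup_left
  exact hcB (this (le_sup_right (a := B) (Subgroup.mem_zpowers c)))

/-- If `A` normalizes `Q`, then `A` normalizes `N_G(D) ⊓ Q` for every `A`-invariant `D`. -/
theorem le_normalizer_normalizer_inf (A D Q : Subgroup G)
    (hAD : A ≤ Subgroup.normalizer (D : Set G)) (hAQ : A ≤ Subgroup.normalizer (Q : Set G)) :
    A ≤ Subgroup.normalizer ((Subgroup.normalizer (D : Set G) ⊓ Q : Subgroup G) : Set G) := by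
  intro x hx
  have key : ∀ y ∈ A, ∀ w ∈ Subgroup.normalizer (D : Set G) ⊓ Q,
      y * w * y⁻¹ ∈ Subgroup.normalizer (D : Set G) ⊓ Q := by
    intro y hy w hw
    refine ⟨?_, (Subgroup.mem_normalizer_iff.mp (hAQ hy) w).mp hw.2⟩
    exact Subgroup.mul_mem _ (Subgroup.mul_mem _ (hAD hy) hw.1) (Subgroup.inv_mem _ (hAD hy))
  rw [Subgroup.mem_normalizer_iff]
  intro w
  constructor
  · exact key x hx w
  · intro h
    have := key x⁻¹ (A.inv_mem hx) _ h
    have e : x⁻¹ * (x * w * x⁻¹) * x⁻¹⁻¹ = w := by group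
    rwa [e] at this

/-- Two subgroups of index at most `p` in a group of order at least `p ^ 3` meet nontrivially. -/
theorem inf_ne_bot_of_card_le [Finite G] {p : ℕ} (hp : 2 ≤ p) (A B₁ B₂ : Subgroup G)
    (hA3 : p ^ 3 ≤ Nat.card ↥A) (h₁ : B₁ ≤ A) (h₂ : B₂ ≤ A)
    (hc₁ : Nat.card ↥A ≤ Nat.card ↥B₁ * p) (hc₂ : Nat.card ↥A ≤ Nat.card ↥B₂ * p) :
    B₁ ⊓ B₂ ≠ ⊥ := by
  intro hbot
  have hinj : Function.Injective (fun x : ↥B₁ × ↥B₂ => (⟨x.1.1 * x.2.1,
      A.mul_mem (h₁ x.1.2) (h₂ x.2.2)⟩ : ↥A)) := by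
    rintro ⟨⟨x, hx⟩, ⟨y, hy⟩⟩ ⟨⟨x', hx'⟩, ⟨y', hy'⟩⟩ h
    have h' : x * y = x' * y' := congrArg Subtype.val h
    have h1 : x'⁻¹ * x = y' * y⁻¹ := by
      have e : x'⁻¹ * x = x'⁻¹ * (x * y) * y⁻¹ := by group
      rw [e, h']; group
    have h2 : x'⁻¹ * x ∈ B₁ ⊓ B₂ :=
      ⟨B₁.mul_mem (B₁.inv_mem hx') hx, by rw [h1]; exact B₂.mul_mem hy' (B₂.inv_mem hy)⟩
    rw [hbot, Subgroup.mem_bot] at h2
    have hxx : x = x' := by
      have e : x = x' * (x'⁻¹ * x) := by group
      rw [e, h2, mul_one]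
    have hyy : y = y' := by
      rw [hxx] at h'
      exact mul_left_cancel h'
    subst hxx; subst hyy; rfl
  have hcard := Nat.card_le_card_of_injective _ hinj
  rw [Nat.card_prod] at hcard
  have hApos : 0 < Nat.card ↥A := Nat.card_pos
  have h3 : Nat.card ↥A * Nat.card ↥A ≤ (Nat.card ↥B₁ * p) * (Nat.card ↥B₂ * p) :=
    Nat.mul_le_mul hc₁ hc₂
  have h4 : Nat.card ↥A * Nat.card ↥A ≤ p * p * Nat.card ↥A := by
    calc Nat.card ↥A * Nat.card ↥A ≤ (Nat.card ↥B₁ * p) * (Nat.card ↥B₂ * p) := h3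
      _ = p * p * (Nat.card ↥B₁ * Nat.card ↥B₂) := by ring
      _ ≤ p * p * Nat.card ↥A := Nat.mul_le_mul le_rfl hcard
  have h5 : Nat.card ↥A ≤ p * p := Nat.le_of_mul_le_mul_right h4 hApos
  have h6 : p * p < p ^ 3 := by
    have : p ^ 3 = p * p * p := by ring
    rw [this]
    have hpp : 0 < p * p := Nat.mul_pos (by omega) (by omega)
    nlinarith
  omega

end signalizer

end Cfsg.Agent.Lib.Helper22
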