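import Mathlib
import Cfsg.Agent.Lib.Helper24.HHP
import Cfsg.Agent.Lib.Helper24.CoprimeAbelian
import Cfsg.Agent.Lib.Helper24.Glauberman
import Cfsg.Agent.Lib.Helper56.FrobApply
import Cfsg.Agent.Lib.Helper10.Nilpotent

set_option autoImplicit false

/-!
# Nonabelian half of "Lemma E" for Bender–Glauberman Theorem 3.6 (S1444)
-/

namespace Cfsg.Agent.Lib.Helper22.BGLemmaENA

open Subgroup
open scoped commutatorElement

variable {X : Type*} [Group X]

/-- A `p`-group `S` normalising a nontrivial `p`-group `U` has nontrivial fixed points on it. -/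
theorem inf_centralizer_ne_bot [Finite X] {p : ℕ} [Fact p.Prime] (U S : Subgroup X)
    (hU : IsPGroup p U) (hS : IsPGroup p S) (hSU : S ≤ normalizer (U : Set X)) (hU1 : U ≠ ⊥) :
    U ⊓ centralizer (S : Set X) ≠ ⊥ := by
  have hP : IsPGroup p ↥(U ⊔ S) := IsPGroup.to_sup_of_normal_left' hU hS hSU
  have hUP : U ≤ U ⊔ S := le_sup_left
  have hSP : S ≤ U ⊔ S := le_sup_right
  have hPN : U ⊔ S ≤ normalizer (U : Set X) := sup_le le_normalizer hSU
  haveI : (U.subgroupOf (U ⊔ S)).Normal :=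
    (Subgroup.normal_subgroupOf_iff_le_normalizer hUP).mpr hPN
  haveI : Group.IsNilpotent ↥(U ⊔ S) := hP.isNilpotent
  have hM : U.subgroupOf (U ⊔ S) ≠ ⊥ := by
    intro h
    apply hU1
    rw [Subgroup.subgroupOf_eq_bot] at h
    rw [eq_bot_iff]
    intro u hu
    have : u ∈ U ⊓ (U ⊔ S) := ⟨hu, hUP hu⟩
    rw [h.eq_bot] at this
    exact this
  have h1 := Cfsg.Agent.Lib.Helper10.normal_inf_center_ne_bot (U.subgroupOf (U ⊔ S)) hM
  obtain ⟨⟨⟨m, hmP⟩, ⟨hmU, hmZ⟩⟩, hm1⟩ := (Subgroup.ne_bot_iff_exists_ne_one).mp h1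
  intro hbot
  apply hm1
  have : m ∈ U ⊓ centralizer (S : Set X) := by
    refine ⟨hmU, ?_⟩
    show m ∈ centralizer (S : Set X)
    rw [mem_centralizer_iff]
    intro s hs
    have := Subgroup.mem_center_iff.mp hmZ ⟨s, hSP hs⟩
    exact congrArg Subtype.val this
  rw [hbot, mem_bot] at this
  exact Subtype.ext (Subtype.ext this)

/-- For `R0` of prime order, commuting with a nonidentity element of `R0` means commuting with
all of `R0`. -/
theorem mem_centralizer_of_commute_ne_one [Finite X] {r : ℕ} (hr : r.Prime) (R0 : Subgroup X)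
    (hR0 : Nat.card R0 = r) (e : X) (he : e ∈ R0) (he1 : e ≠ 1) (u : X) (hu : e * u = u * e) :
    u ∈ centralizer (R0 : Set X) := by
  haveI : Fact r.Prime := ⟨hr⟩
  have hz : zpowers (⟨e, he⟩ : R0) = ⊤ :=
    zpowers_eq_top_of_prime_card hR0 (fun h => he1 (congrArg Subtype.val h))
  rw [mem_centralizer_iff]
  intro y hy
  have hy' : (⟨y, hy⟩ : R0) ∈ zpowers (⟨e, he⟩ : R0) := by rw [hz]; trivial
  obtain ⟨k, hk⟩ := hy'
  have hyk : y = e ^ k := by
    have := congrArg Subtype.val hk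
    simpa using this.symm
  rw [hyk]
  exact ((Commute.zpow_left (show Commute e u from hu) k)).eq

/-- The Frobenius fixed point formula in the form we need: `Z2 ⋊ R0` Frobenius-like (`R0` of
prime order with `C_{Z2}(R0) = 1`), acting coprimely on a solvable group `H` with
`C_H(Z2) = 1`; then `|H| = |C_H(R0)| ^ r`. -/
theorem card_eq_pow_of_frob [Finite X] {r : ℕ} (hr : r.Prime) (Z2 R0 H : Subgroup X)
    (hR0 : Nat.card R0 = r) (hRZ : R0 ≤ normalizer (Z2 : Set X))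
    (hfpf : Z2 ⊓ centralizer (R0 : Set X) = ⊥)
    (hZH : Z2 ≤ normalizer (H : Set X)) (hRH : R0 ≤ normalizer (H : Set X))
    (hsolv : Group.IsSolvable H) (hcop : (Nat.card H).Coprime (Nat.card ↥(Z2 ⊔ R0)))
    (hHZ : H ⊓ centralizer (Z2 : Set X) = ⊥) :
    Nat.card H = Nat.card ↥(H ⊓ centralizer (R0 : Set X)) ^ r := by
  have hE1 : R0 ≠ ⊥ := by
    intro h
    rw [h, Subgroup.card_bot] at hR0
    exact hr.one_lt.ne' hR0.symm
  have hUn : ∀ e ∈ R0, ∀ u ∈ Z2, e * u * e⁻¹ ∈ Z2 := by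
    intro e he u hu
    exact (mem_normalizer_iff.mp (hRZ he) u).mp hu
  have hfp : ∀ e ∈ R0, e ≠ 1 → ∀ u ∈ Z2, e * u = u * e → u = 1 := by
    intro e he he1 u hu heu
    have h1 : u ∈ Z2 ⊓ centralizer (R0 : Set X) :=
      ⟨hu, mem_centralizer_of_commute_ne_one hr R0 hR0 e he he1 u heu⟩
    rw [hfpf, mem_bot] at h1
    exact h1
  have hHn : ∀ x ∈ Z2 ⊔ R0, ∀ h ∈ H, x * h * x⁻¹ ∈ H := by
    intro x hx h hh
    have hx' : x ∈ normalizer (H : Set X) := (sup_le hZH hRH) hx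
    exact (mem_normalizer_iff.mp hx' h).mp hh
  have key := Cfsg.Agent.Lib.Helper56.FrobApply.frobenius_formula Z2 R0 H hE1 hUn hfp hHn hsolv hcop
  have h2 : H ⊓ centralizer ((Z2 ⊔ R0 : Subgroup X) : Set X) = ⊥ := by
    rw [eq_bot_iff, ← hHZ]
    exact inf_le_inf_left _ (centralizer_le (by exact_mod_cast (le_sup_left : Z2 ≤ Z2 ⊔ R0)))
  rw [h2, hHZ, Subgroup.card_bot, one_pow, one_mul, mul_one, hR0] at key
  exact key

section util

theorem mem_normalizer_of_forall [Finite X] {K : Subgroup X} {g : X}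
    (h : ∀ k ∈ K, g * k * g⁻¹ ∈ K) : g ∈ normalizer (K : Set X) := by
  let φ : K → K := fun k => ⟨g * k * g⁻¹, h k k.2⟩
  have hinj : Function.Injective φ := by
    intro a b hab
    have h1 : g * (a : X) * g⁻¹ = g * (b : X) * g⁻¹ := congrArg Subtype.val hab
    apply Subtype.ext
    have h2 := mul_left_cancel (mul_right_cancel h1)
    exact h2
  have hsurj : Function.Surjective φ := Finite.surjective_of_injective hinj
  rw [mem_normalizer_iff]
  intro k
  constructor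
  · exact h k
  · intro hk
    obtain ⟨k', hk'⟩ := hsurj ⟨_, hk⟩
    have h1 : g * (k' : X) * g⁻¹ = g * k * g⁻¹ := congrArg Subtype.val hk'
    have h2 : (k' : X) = k := mul_left_cancel (mul_right_cancel h1)
    rw [← h2]; exact k'.2

theorem conj_mem_of_mem_normalizer {K : Subgroup X} {g k : X} (hg : g ∈ normalizer (K : Set X))
    (hk : k ∈ K) : g * k * g⁻¹ ∈ K := (mem_normalizer_iff.mp hg k).mp hk

theorem conj_inv_mem_of_mem_normalizer {K : Subgroup X} {g k : X}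
    (hg : g ∈ normalizer (K : Set X)) (hk : k ∈ K) : g⁻¹ * k * g ∈ K := by
  have := conj_mem_of_mem_normalizer (inv_mem hg) hk
  rwa [inv_inv] at this

theorem normalizer_centralizer [Finite X] {H : Subgroup X} {g : X}
    (hg : g ∈ normalizer (H : Set X)) :
    g ∈ normalizer ((centralizer (H : Set X) : Subgroup X) : Set X) := by
  apply mem_normalizer_of_forall
  intro c hc
  rw [mem_centralizer_iff] at hc ⊢
  intro h hh
  have h' : g⁻¹ * h * g ∈ H := conj_inv_mem_of_mem_normalizer hg hh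
  have h1 := hc _ h'
  calc h * (g * c * g⁻¹) = g * ((g⁻¹ * h * g) * c) * g⁻¹ := by group
    _ = g * (c * (g⁻¹ * h * g)) * g⁻¹ := by rw [h1]
    _ = g * c * g⁻¹ * h := by group

theorem normalizer_inf [Finite X] {H K : Subgroup X} {g : X}
    (hH : g ∈ normalizer (H : Set X)) (hK : g ∈ normalizer (K : Set X)) :
    g ∈ normalizer ((H ⊓ K : Subgroup X) : Set X) := by
  apply mem_normalizer_of_forall
  intro c hc
  exact ⟨conj_mem_of_mem_normalizer hH hc.1, conj_mem_of_mem_normalizer hK hc.2⟩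

theorem normalizer_commutator [Finite X] {H K : Subgroup X} {g : X}
    (hH : g ∈ normalizer (H : Set X)) (hK : g ∈ normalizer (K : Set X)) :
    g ∈ normalizer ((⁅H, K⁆ : Subgroup X) : Set X) := by
  apply mem_normalizer_of_forall
  have : ⁅H, K⁆ ≤ (⁅H, K⁆ : Subgroup X).comap (MulAut.conj g).toMonoidHom := by
    rw [commutator_le]
    intro h hh k hk
    rw [mem_comap]
    have e : (MulAut.conj g).toMonoidHom ⁅h, k⁆ = ⁅g * h * g⁻¹, g * k * g⁻¹⁆ := by
      simp only [MulEquiv.toMonoidHom_eq_coe, MonoidHom.coe_coe, MulAut.conj_apply,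
        commutatorElement_def]
      group
    rw [e]
    exact commutator_mem_commutator (conj_mem_of_mem_normalizer hH hh)
      (conj_mem_of_mem_normalizer hK hk)
  intro c hc
  have := this hc
  rw [mem_comap] at this
  simpa using this

theorem centralizer_le_normalizer' (H : Subgroup X) :
    centralizer (H : Set X) ≤ normalizer (H : Set X) := by
  intro g hg
  rw [mem_normalizer_iff]
  intro h
  rw [mem_centralizer_iff] at hg
  constructor
  · intro hh
    have := hg h hh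
    have e : g * h * g⁻¹ = h := by rw [← this]; group
    rw [e]; exact hh
  · intro hh
    have := hg _ hh
    have e : h = g * h * g⁻¹ := by
      have h2 : g * h * g⁻¹ * g = g * (g * h * g⁻¹) := this
      have : g * h = g * (g * h * g⁻¹) := by rw [← h2]; group
      exact mul_left_cancel this
    rw [e]; exact hh

/-- `|A ⊔ K| = |A| * |K|` when `A` normalises `K` and they meet trivially. -/
theorem card_sup_eq_mul (A K : Subgroup X) (h : A ≤ normalizer (K : Set X)) (h0 : A ⊓ K = ⊥) :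
    Nat.card ↥(A ⊔ K) = Nat.card A * Nat.card K := by
  have h1 := Cfsg.Agent.Lib.Helper24.relIndex_sup_eq_card A K h h0
  have h2 := Cfsg.Agent.Lib.Helper24.relIndex_mul_card' (le_sup_right : K ≤ A ⊔ K)
  rw [h1] at h2
  exact h2.symm

end util


section omega

variable (U : Subgroup X) (hU : ∀ a ∈ U, ∀ b ∈ U, a * b = b * a) (p : ℕ)

/-- `Ω₁` of an abelian subgroup: the elements of order dividing `p`. -/
def omega : Subgroup X where
  carrier := {u | u ∈ U ∧ u ^ p = 1}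
  one_mem' := ⟨U.one_mem, one_pow p⟩
  mul_mem' := by
    rintro a b ⟨ha, hap⟩ ⟨hb, hbp⟩
    refine ⟨U.mul_mem ha hb, ?_⟩
    rw [(show Commute a b from hU a ha b hb).mul_pow, hap, hbp, one_mul]
  inv_mem' := by
    rintro a ⟨ha, hap⟩
    exact ⟨U.inv_mem ha, by rw [inv_pow, hap, inv_one]⟩

theorem mem_omega {u : X} : u ∈ omega U hU p ↔ u ∈ U ∧ u ^ p = 1 := Iff.rfl

theorem omega_le : omega U hU p ≤ U := fun _ h => h.1

theorem omega_ne_bot [Finite X] [hp : Fact p.Prime] (hUp : IsPGroup p U) (hU1 : U ≠ ⊥) :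
    omega U hU p ≠ ⊥ := by
  have hnt : Nontrivial U := (Subgroup.nontrivial_iff_ne_bot U).mpr hU1
  obtain ⟨n, hn⟩ := IsPGroup.iff_card.mp hUp
  have hn0 : n ≠ 0 := by
    rintro rfl
    rw [pow_zero] at hn
    have := (Nat.card_eq_one_iff_unique.mp hn).1
    exact not_subsingleton U this
  have hdvd : p ∣ Nat.card U := by rw [hn]; exact dvd_pow_self p hn0
  obtain ⟨u, hu⟩ := exists_prime_orderOf_dvd_card' p hdvd
  intro hbot
  have h1 : (u : X) ∈ omega U hU p := by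
    refine ⟨u.2, ?_⟩
    have : u ^ p = 1 := by rw [← hu]; exact pow_orderOf_eq_one u
    exact_mod_cast congrArg Subtype.val this
  rw [hbot, mem_bot] at h1
  have hu1 : u = 1 := Subtype.ext h1
  rw [hu1, orderOf_one] at hu
  exact hp.out.one_lt.ne' hu.symm

theorem omega_normalizer (g : X) (hg : g ∈ normalizer (U : Set X)) :
    g ∈ normalizer ((omega U hU p : Subgroup X) : Set X) := by
  have key : ∀ g : X, g ∈ normalizer (U : Set X) → ∀ u ∈ omega U hU p,
      g * u * g⁻¹ ∈ omega U hU p := by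
    intro g hg u hu
    refine ⟨(mem_normalizer_iff.mp hg u).mp hu.1, ?_⟩
    rw [conj_pow, hu.2, mul_one, mul_inv_cancel]
  rw [mem_normalizer_iff]
  intro u
  constructor
  · exact key g hg u
  · intro h
    have := key g⁻¹ (inv_mem hg) _ h
    have e : g⁻¹ * (g * u * g⁻¹) * g⁻¹⁻¹ = u := by group
    rwa [e] at this

end omega


section stepOne

/-- A cyclic group all of whose elements satisfy `c ^ p = 1` has order dividing `p`. -/
theorem card_dvd_of_isCyclic_of_pow {C : Type*} [Group C] [Finite C] [hc : IsCyclic C] (p : ℕ)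
    (h : ∀ c : C, c ^ p = 1) : Nat.card C ∣ p := by
  obtain ⟨g, hg⟩ := hc.exists_generator
  have h1 : orderOf g = Nat.card C := orderOf_eq_card_of_forall_mem_zpowers hg
  rw [← h1]
  exact orderOf_dvd_of_pow_eq_one (h g)

/-- Step (i): `R0` centralises the centre `Z` of the minimal subgroup `B`. -/
theorem step_one [Finite X] {p q r : ℕ} (hp : p.Prime) (hq : q.Prime) (hr : r.Prime)
    (hpq : p ≠ q) (hpr : p ≠ r) (hqr : q ≠ r)
    (V B S R0 Z : Subgroup X)
    (hV : IsPGroup p V) (hVab : ∀ a ∈ V, ∀ b ∈ V, a * b = b * a)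
    (hB : IsPGroup q B) (hS : IsPGroup p S) (hR0 : Nat.card R0 = r)
    (hRS : R0 ≤ normalizer (S : Set X))
    (hRB : R0 ≤ normalizer (B : Set X))
    (hBV : B ≤ normalizer (V : Set X)) (hSV : S ≤ normalizer (V : Set X))
    (hRV : R0 ≤ normalizer (V : Set X))
    (hfaith : B ⊓ centralizer (V : Set X) = ⊥)
    (hCV : IsCyclic ↥(V ⊓ centralizer (R0 : Set X)))
    (hZ : Z = B ⊓ centralizer (B : Set X))
    (hZS : S ≤ centralizer (Z : Set X))
    (hBS : ⁅B, S⁆ = B) :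
    R0 ≤ centralizer (Z : Set X) := by
  classical
  haveI : Fact p.Prime := ⟨hp⟩
  haveI : Fact q.Prime := ⟨hq⟩
  haveI : Fact r.Prime := ⟨hr⟩
  have hZB : Z ≤ B := hZ ▸ inf_le_left
  have hZC : Z ≤ centralizer (B : Set X) := hZ ▸ inf_le_right
  have hZq : IsPGroup q Z := hB.to_le hZB
  have hR0r : IsPGroup r R0 := IsPGroup.of_card (n := 1) (by rw [hR0, pow_one])
  haveI hZcomm : IsMulCommutative Z := ⟨⟨fun a b => Subtype.ext
    ((mem_centralizer_iff.mp (hZC a.2) b (hZB b.2)).symm)⟩⟩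
  have hRZ : R0 ≤ normalizer (Z : Set X) := by
    intro g hg
    rw [hZ]
    exact normalizer_inf (hRB hg) (normalizer_centralizer (hRB hg))
  by_contra hcon
  set Z2 : Subgroup X := ⁅Z, R0⁆ with hZ2
  have hZ2Z : Z2 ≤ Z := Cfsg.Agent.Lib.Helper24.commutator_le_of_le_normalizer Z R0 hRZ
  have hZ2B : Z2 ≤ B := hZ2Z.trans hZB
  have hZ2q : IsPGroup q Z2 := hB.to_le hZ2B
  have hZ2ne : Z2 ≠ ⊥ := by
    intro h
    apply hcon
    rw [hZ2, commutator_eq_bot_iff_le_centralizer] at h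
    exact le_centralizer_iff.mp h
  have hRZ2 : R0 ≤ normalizer (Z2 : Set X) :=
    Cfsg.Agent.Lib.Helper24.le_normalizer_commutator_right Z R0 hRZ
  have hcopRZ : (Nat.card R0).Coprime (Nat.card Z) :=
    IsPGroup.coprime_card_of_ne r q hqr.symm R0 Z hR0r hZq
  have hfpf2 : Z2 ⊓ centralizer (R0 : Set X) = ⊥ :=
    Cfsg.Agent.Lib.Helper24.commutator_inf_centralizer_eq_bot_of_abelian Z R0 hRZ hcopRZ
  -- `U = [V, Z2]`
  haveI hVcomm : IsMulCommutative V := ⟨⟨fun a b => Subtype.ext (hVab a a.2 b b.2)⟩⟩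
  have hZ2V : Z2 ≤ normalizer (V : Set X) := hZ2B.trans hBV
  set U : Subgroup X := ⁅V, Z2⁆ with hU
  have hUV : U ≤ V := Cfsg.Agent.Lib.Helper24.commutator_le_of_le_normalizer V Z2 hZ2V
  have hUp : IsPGroup p U := hV.to_le hUV
  have hcopZ2V : (Nat.card Z2).Coprime (Nat.card V) :=
    IsPGroup.coprime_card_of_ne q p hpq.symm Z2 V hZ2q hV
  have hUZ2 : U ⊓ centralizer (Z2 : Set X) = ⊥ :=
    Cfsg.Agent.Lib.Helper24.commutator_inf_centralizer_eq_bot_of_abelian V Z2 hZ2V hcopZ2V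
  have hUne : U ≠ ⊥ := by
    intro h
    rw [hU, commutator_eq_bot_iff_le_centralizer] at h
    have h1 : Z2 ≤ centralizer (V : Set X) := le_centralizer_iff.mp h
    apply hZ2ne
    rw [eq_bot_iff, ← hfaith]
    exact le_inf hZ2B h1
  have hUab : ∀ a ∈ U, ∀ b ∈ U, a * b = b * a := fun a ha b hb => hVab a (hUV ha) b (hUV hb)
  -- normalisers of `U`
  have hS_Z2 : S ≤ centralizer (Z2 : Set X) := hZS.trans (centralizer_le (by exact_mod_cast hZ2Z))
  have hB_Z2 : B ≤ centralizer (Z2 : Set X) := by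
    have : Z2 ≤ centralizer (B : Set X) := hZ2Z.trans hZC
    exact le_centralizer_iff.mp this
  have hNU : ∀ g : X, g ∈ normalizer (V : Set X) → g ∈ normalizer (Z2 : Set X) →
      g ∈ normalizer (U : Set X) := fun g h1 h2 => normalizer_commutator h1 h2
  have hZ2U : Z2 ≤ normalizer (U : Set X) := fun g hg => hNU g (hZ2V hg) (le_normalizer hg)
  have hRU : R0 ≤ normalizer (U : Set X) := fun g hg => hNU g (hRV hg) (hRZ2 hg)
  have hSU : S ≤ normalizer (U : Set X) :=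
    fun g hg => hNU g (hSV hg) (centralizer_le_normalizer' Z2 (hS_Z2 hg))
  have hBU : B ≤ normalizer (U : Set X) :=
    fun g hg => hNU g (hBV hg) (centralizer_le_normalizer' Z2 (hB_Z2 hg))
  -- `U1 = Ω₁(U)`
  set U1 : Subgroup X := omega U hUab p with hU1
  have hU1U : U1 ≤ U := omega_le U hUab p
  have hU1ne : U1 ≠ ⊥ := omega_ne_bot U hUab p hUp hUne
  have hU1p : IsPGroup p U1 := hUp.to_le hU1U
  have hNU1 : ∀ g : X, g ∈ normalizer (U : Set X) → g ∈ normalizer (U1 : Set X) :=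
    fun g hg => omega_normalizer U hUab p g hg
  -- cardinality of fixed points
  have hfix_dvd : ∀ H : Subgroup X, H ≤ U1 → Nat.card ↥(H ⊓ centralizer (R0 : Set X)) ∣ p := by
    intro H hH
    have hle : H ⊓ centralizer (R0 : Set X) ≤ V ⊓ centralizer (R0 : Set X) :=
      inf_le_inf_right _ (hH.trans (hU1U.trans hUV))
    haveI : IsCyclic ↥(H ⊓ centralizer (R0 : Set X)) :=
      isCyclic_of_injective (inclusion hle) (inclusion_injective hle)
    apply card_dvd_of_isCyclic_of_pow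
    intro c
    apply Subtype.ext
    have : (c : X) ∈ U1 := hH c.2.1
    exact_mod_cast this.2
  have hcard_sup : Nat.card ↥(Z2 ⊔ R0) = Nat.card R0 * Nat.card Z2 := by
    rw [sup_comm]
    refine card_sup_eq_mul R0 Z2 hRZ2 ?_
    exact (Nat.Coprime.coprime_dvd_right (card_dvd_of_le hZ2Z) hcopRZ
      |> disjoint_of_coprime_natCard).eq_bot
  have hcopH : ∀ H : Subgroup X, IsPGroup p H → (Nat.card H).Coprime (Nat.card ↥(Z2 ⊔ R0)) := by
    intro H hH
    rw [hcard_sup]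
    exact Nat.Coprime.mul_right (IsPGroup.coprime_card_of_ne p r hpr H R0 hH hR0r)
      (IsPGroup.coprime_card_of_ne p q hpq H Z2 hH hZ2q)
  have hfrob : ∀ H : Subgroup X, H ≤ U1 → H ≠ ⊥ → Z2 ≤ normalizer (H : Set X) →
      R0 ≤ normalizer (H : Set X) → Nat.card H = p ^ r := by
    intro H hH hHne hZ2H hRH
    have hHp : IsPGroup p H := hU1p.to_le hH
    have hHZ : H ⊓ centralizer (Z2 : Set X) = ⊥ := by
      rw [eq_bot_iff, ← hUZ2]
      exact inf_le_inf_right _ (hH.trans hU1U)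
    haveI : Group.IsNilpotent H := hHp.isNilpotent
    have h1 := card_eq_pow_of_frob hr Z2 R0 H hR0 hRZ2 hfpf2 hZ2H hRH inferInstance
      (hcopH H hHp) hHZ
    rcases (Nat.dvd_prime hp).mp (hfix_dvd H hH) with h2 | h2
    · rw [h2, one_pow] at h1
      exact absurd (Subgroup.card_eq_one.mp h1) hHne
    · rw [h2] at h1; exact h1
  have hcardU1 : Nat.card U1 = p ^ r :=
    hfrob U1 le_rfl hU1ne (fun g hg => hNU1 g (hZ2U hg)) (fun g hg => hNU1 g (hRU hg))
  -- `U01 = C_{U1}(S)`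
  set U01 : Subgroup X := U1 ⊓ centralizer (S : Set X) with hU01
  have hU01ne : U01 ≠ ⊥ :=
    inf_centralizer_ne_bot U1 S hU1p hS (fun g hg => hNU1 g (hSU hg)) hU1ne
  have hcardU01 : Nat.card U01 = p ^ r := by
    refine hfrob U01 inf_le_left hU01ne ?_ ?_
    · intro g hg
      refine normalizer_inf (hNU1 g (hZ2U hg)) (normalizer_centralizer ?_)
      have : Z2 ≤ centralizer (S : Set X) := le_centralizer_iff.mp hS_Z2
      exact centralizer_le_normalizer' S (this hg)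
    · intro g hg
      exact normalizer_inf (hNU1 g (hRU hg)) (normalizer_centralizer (hRS hg))
  have hU01eq : U01 = U1 := by
    have hle : U01 ≤ U1 := inf_le_left
    exact Subgroup.eq_of_le_of_card_ge hle (by rw [hcardU1, hcardU01])
  have hU1S : U1 ≤ centralizer (S : Set X) := by
    rw [← hU01eq]; exact inf_le_right
  -- three subgroups
  have h1 : ⁅⁅S, U1⁆, B⁆ = ⊥ := by
    have : ⁅S, U1⁆ = ⊥ := by
      rw [commutator_eq_bot_iff_le_centralizer]; exact le_centralizer_iff.mp hU1S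
    rw [this]; exact commutator_bot_left B
  have h2 : ⁅⁅U1, B⁆, S⁆ = ⊥ := by
    have hle : ⁅U1, B⁆ ≤ U1 :=
      Cfsg.Agent.Lib.Helper24.commutator_le_of_le_normalizer U1 B (fun g hg => hNU1 g (hBU hg))
    rw [commutator_eq_bot_iff_le_centralizer]
    exact hle.trans hU1S
  have h3 : ⁅⁅B, S⁆, U1⁆ = ⊥ := commutator_commutator_eq_bot_of_rotate h1 h2
  rw [hBS, commutator_eq_bot_iff_le_centralizer] at h3
  -- `Z2 ≤ B ≤ C(U1)`, so `U1 ≤ C_U(Z2) = 1`
  apply hU1ne
  rw [eq_bot_iff, ← hUZ2]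
  exact le_inf hU1U (le_centralizer_iff.mp (hZ2B.trans h3))

end stepOne


section stepTwo

theorem comm_calc (b v e z : X) (hz : z = b * v * b⁻¹ * v⁻¹) (hzv : Commute z v)
    (hze : Commute z e) (hbe : Commute b e) : b * (v * e * v⁻¹ * e⁻¹) = v * e * v⁻¹ * e⁻¹ * b := by
  have h4 : b * v⁻¹ = v⁻¹ * z⁻¹ * b := by rw [hz]; group
  have hcomm : Commute z (v * e * v⁻¹) := (hzv.mul_right hze).mul_right hzv.inv_right
  calc b * (v * e * v⁻¹ * e⁻¹)
      = (b * v * b⁻¹ * v⁻¹) * v * (b * e) * v⁻¹ * e⁻¹ := by group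
    _ = z * v * (e * b) * v⁻¹ * e⁻¹ := by rw [← hz, hbe.eq]
    _ = z * v * e * (b * v⁻¹) * e⁻¹ := by group
    _ = z * v * e * (v⁻¹ * z⁻¹ * b) * e⁻¹ := by rw [h4]
    _ = z * (v * e * v⁻¹) * z⁻¹ * (b * e⁻¹) := by group
    _ = (v * e * v⁻¹) * z * z⁻¹ * (e⁻¹ * b) := by rw [hcomm.eq, (hbe.inv_right).eq]
    _ = v * e * v⁻¹ * e⁻¹ * b := by group

/-- Step (ii): `C_B(R0) ≤ Z(B)`. -/
theorem step_two [Finite X] {q r : ℕ} (hq : q.Prime) (hr : r.Prime) (hqr : q ≠ r)
    (B R0 Z : Subgroup X) (hB : IsPGroup q B) (hR0 : Nat.card R0 = r)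
    (hRB : R0 ≤ normalizer (B : Set X))
    (hZ : Z = B ⊓ centralizer (B : Set X))
    (hB'Z : ⁅B, B⁆ ≤ Z)
    (hRZ : R0 ≤ centralizer (Z : Set X))
    (hCB : IsCyclic ↥(B ⊓ centralizer (R0 : Set X))) :
    B ⊓ centralizer (R0 : Set X) ≤ Z := by
  classical
  haveI : Fact q.Prime := ⟨hq⟩
  haveI : Fact r.Prime := ⟨hr⟩
  have hR0r : IsPGroup r R0 := IsPGroup.of_card (n := 1) (by rw [hR0, pow_one])
  have hcop : (Nat.card R0).Coprime (Nat.card B) :=
    IsPGroup.coprime_card_of_ne r q hqr.symm R0 B hR0r hB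
  haveI : Group.IsNilpotent B := hB.isNilpotent
  have hdec := Cfsg.Agent.Lib.Helper24.commutator_sup_centralizer_eq R0 B hRB hcop
    (Or.inr inferInstance)
  intro b hb
  rw [hZ]
  refine ⟨hb.1, ?_⟩
  -- the centraliser of `b`
  have hle : B ≤ centralizer ({b} : Set X) := by
    rw [← hdec]
    apply sup_le
    · rw [commutator_le]
      intro v hv e he
      rw [mem_centralizer_iff]
      intro y hy
      rw [Set.mem_singleton_iff] at hy
      subst hy
      have hzZ : y * v * y⁻¹ * v⁻¹ ∈ Z := by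
        have : ⁅y, v⁆ ∈ ⁅B, B⁆ := commutator_mem_commutator hb.1 hv
        rw [commutatorElement_def] at this
        exact hB'Z this
      have hzC : y * v * y⁻¹ * v⁻¹ ∈ centralizer (B : Set X) := by
        rw [hZ] at hzZ; exact hzZ.2
      have hzv : Commute (y * v * y⁻¹ * v⁻¹) v := (mem_centralizer_iff.mp hzC v hv).symm
      have hze : Commute (y * v * y⁻¹ * v⁻¹) e :=
        (mem_centralizer_iff.mp (hRZ he) _ hzZ)
      have hbe : Commute y e := (mem_centralizer_iff.mp hb.2 e he).symm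
      have := comm_calc y v e _ rfl hzv hze hbe
      rw [commutatorElement_def]
      exact this
    · intro c hc
      rw [mem_centralizer_iff]
      intro y hy
      rw [Set.mem_singleton_iff] at hy
      subst hy
      letI := IsCyclic.commGroup (α := ↥(B ⊓ centralizer (R0 : Set X)))
      have := mul_comm (⟨y, hb⟩ : ↥(B ⊓ centralizer (R0 : Set X))) ⟨c, hc⟩
      exact congrArg Subtype.val this
  show b ∈ centralizer (B : Set X)
  rw [mem_centralizer_iff]
  intro v hv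
  have := mem_centralizer_iff.mp (hle hv) b (Set.mem_singleton b)
  exact this.symm

end stepTwo


section stepThree

/-- The elements normalising `Z` that centralise the set `T` modulo `Z`. -/
def centMod (T : Set X) (Z : Subgroup X) : Subgroup X where
  carrier := {g | g ∈ normalizer (Z : Set X) ∧ ∀ b ∈ T, g * b * g⁻¹ * b⁻¹ ∈ Z}
  one_mem' := ⟨one_mem _, fun b _ => by simp⟩
  mul_mem' := by
    rintro g g' ⟨hg, hgT⟩ ⟨hg', hgT'⟩
    refine ⟨mul_mem hg hg', fun b hb => ?_⟩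
    have e : g * g' * b * (g * g')⁻¹ * b⁻¹ = g * (g' * b * g'⁻¹ * b⁻¹) * g⁻¹ * (g * b * g⁻¹ * b⁻¹) := by
      group
    rw [e]
    exact Z.mul_mem (conj_mem_of_mem_normalizer hg (hgT' b hb)) (hgT b hb)
  inv_mem' := by
    rintro g ⟨hg, hgT⟩
    refine ⟨inv_mem hg, fun b hb => ?_⟩
    have e : g⁻¹ * b * g⁻¹⁻¹ * b⁻¹ = g⁻¹ * (g * b * g⁻¹ * b⁻¹)⁻¹ * g := by group
    rw [e]
    exact conj_inv_mem_of_mem_normalizer hg (Z.inv_mem (hgT b hb))

theorem mem_centMod {T : Set X} {Z : Subgroup X} {g : X} :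
    g ∈ centMod T Z ↔ g ∈ normalizer (Z : Set X) ∧ ∀ b ∈ T, g * b * g⁻¹ * b⁻¹ ∈ Z := Iff.rfl

/-- A sectional form of `hh_transfer_pgroup`: `x` of prime order `r` acting fixed point freely
on `P / Z`. -/
theorem hh_section [Finite X] {p q r : ℕ} (hp : p.Prime) (hq : q.Prime) (hr : r.Prime)
    (hpq : p ≠ q) (hpr : p ≠ r) (hqr : q ≠ r) (hq2 : q ≠ 2) (P Q Z : Subgroup X) (x : X)
    (hPZ : P ≤ normalizer (Z : Set X)) (hQZ : Q ≤ normalizer (Z : Set X))
    (hxZ : x ∈ normalizer (Z : Set X))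
    (hP : IsPGroup p P) (hQ : IsPGroup q Q)
    (hxP : x ∈ normalizer (P : Set X)) (hxQ : x ∈ normalizer (Q : Set X)) (hxr : x ^ r = 1)
    (hQP : Q ≤ normalizer (P : Set X))
    (hfix : ∀ v ∈ P, x * v * x⁻¹ * v⁻¹ ∈ Z → v ∈ Z) :
    ∀ g ∈ Q, g * x * g⁻¹ * x⁻¹ ∈ centMod (P : Set X) Z := by
  classical
  set N : Subgroup X := normalizer (Z : Set X) with hN
  haveI : (Z.subgroupOf N).Normal := Subgroup.normal_subgroupOf_of_le_normalizer le_rfl
  let f : ↥N →* ↥N ⧸ Z.subgroupOf N := QuotientGroup.mk' (Z.subgroupOf N)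
  have hf1 : ∀ (g : X) (hg : g ∈ N), f ⟨g, hg⟩ = 1 ↔ g ∈ Z := by
    intro g hg
    rw [QuotientGroup.mk'_apply, QuotientGroup.eq_one_iff, mem_subgroupOf]
  -- images
  set Pb : Subgroup (↥N ⧸ Z.subgroupOf N) := (P.subgroupOf N).map f with hPb
  set Qb : Subgroup (↥N ⧸ Z.subgroupOf N) := (Q.subgroupOf N).map f with hQb
  have hmemb : ∀ (A : Subgroup X) (k : ↥N ⧸ Z.subgroupOf N), k ∈ (A.subgroupOf N).map f →
      ∃ (a : X) (ha : a ∈ N), a ∈ A ∧ f ⟨a, ha⟩ = k := by
    intro A k hk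
    obtain ⟨⟨a, ha⟩, haA, rfl⟩ := hk
    exact ⟨a, ha, mem_subgroupOf.mp haA, rfl⟩
  have hmemb' : ∀ (A : Subgroup X) (a : X) (ha : a ∈ N), a ∈ A → f ⟨a, ha⟩ ∈ (A.subgroupOf N).map f :=
    fun A a ha haA => ⟨⟨a, ha⟩, mem_subgroupOf.mpr haA, rfl⟩
  have hnormb : ∀ (A : Subgroup X) (g : X) (hg : g ∈ N), g ∈ normalizer (A : Set X) →
      f ⟨g, hg⟩ ∈ normalizer (((A.subgroupOf N).map f : Subgroup _) : Set _) := by
    intro A g hg hgA
    apply mem_normalizer_of_forall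
    intro k hk
    obtain ⟨a, ha, haA, rfl⟩ := hmemb A k hk
    have : f ⟨g, hg⟩ * f ⟨a, ha⟩ * (f ⟨g, hg⟩)⁻¹ = f ⟨g * a * g⁻¹, N.mul_mem (N.mul_mem hg ha) (N.inv_mem hg)⟩ := by
      rw [← map_inv, ← map_mul, ← map_mul]; rfl
    rw [this]
    exact hmemb' A _ _ (conj_mem_of_mem_normalizer hgA haA)
  have hPbp : IsPGroup p Pb := (hP.comap_subtype).map f
  have hQbq : IsPGroup q Qb := (hQ.comap_subtype).map f
  have hxb : (f ⟨x, hxZ⟩) ^ r = 1 := by
    rw [← map_pow]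
    have : (⟨x, hxZ⟩ : ↥N) ^ r = 1 := Subtype.ext (by simpa using hxr)
    rw [this, map_one]
  have hfixb : ∀ v ∈ Pb, f ⟨x, hxZ⟩ * v = v * f ⟨x, hxZ⟩ → v = 1 := by
    intro v hv hcomm
    obtain ⟨b, hbN, hbP, rfl⟩ := hmemb P v hv
    rw [hf1]
    apply hfix b hbP
    have hmemN : x * b * x⁻¹ * b⁻¹ ∈ N :=
      N.mul_mem (N.mul_mem (N.mul_mem hxZ hbN) (N.inv_mem hxZ)) (N.inv_mem hbN)
    rw [← hf1 _ hmemN]
    have : f ⟨x * b * x⁻¹ * b⁻¹, hmemN⟩ = f ⟨x, hxZ⟩ * f ⟨b, hbN⟩ * (f ⟨x, hxZ⟩)⁻¹ * (f ⟨b, hbN⟩)⁻¹ := by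
      rw [← map_inv, ← map_inv, ← map_mul, ← map_mul, ← map_mul]; rfl
    rw [this, hcomm]
    group
  have hQPb : Qb ≤ normalizer (Pb : Set _) := by
    intro k hk
    obtain ⟨a, ha, haQ, rfl⟩ := hmemb Q k hk
    exact hnormb P a ha (hQP haQ)
  have key := Cfsg.Agent.Lib.Helper24.HH.hh_transfer_pgroup hp hq hr hpq hpr hqr Pb Qb hPbp
    (f ⟨x, hxZ⟩) (hnormb P x hxZ hxP) (hnormb Q x hxZ hxQ) hxb hfixb hQbq hQPb
    (fun h => absurd h hq2)
  intro g hg
  have hgN : g ∈ N := hQZ hg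
  have hcN : g * x * g⁻¹ * x⁻¹ ∈ N :=
    N.mul_mem (N.mul_mem (N.mul_mem hgN hxZ) (N.inv_mem hgN)) (N.inv_mem hxZ)
  refine ⟨hcN, fun b hb => ?_⟩
  have hbN : b ∈ N := hPZ hb
  have h1 := key (f ⟨g, hgN⟩) (hmemb' Q g hgN hg)
  have h2 : f ⟨g, hgN⟩ * f ⟨x, hxZ⟩ * (f ⟨g, hgN⟩)⁻¹ * (f ⟨x, hxZ⟩)⁻¹ = f ⟨g * x * g⁻¹ * x⁻¹, hcN⟩ := by
    rw [← map_inv, ← map_inv, ← map_mul, ← map_mul, ← map_mul]; rfl
  rw [h2, mem_centralizer_iff] at h1
  have h3 := h1 (f ⟨b, hbN⟩) (hmemb' P b hbN hb)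
  have hmemN : g * x * g⁻¹ * x⁻¹ * b * (g * x * g⁻¹ * x⁻¹)⁻¹ * b⁻¹ ∈ N :=
    N.mul_mem (N.mul_mem (N.mul_mem hcN hbN) (N.inv_mem hcN)) (N.inv_mem hbN)
  rw [← hf1 _ hmemN]
  have : f ⟨g * x * g⁻¹ * x⁻¹ * b * (g * x * g⁻¹ * x⁻¹)⁻¹ * b⁻¹, hmemN⟩ =
      f ⟨g * x * g⁻¹ * x⁻¹, hcN⟩ * f ⟨b, hbN⟩ * (f ⟨g * x * g⁻¹ * x⁻¹, hcN⟩)⁻¹ * (f ⟨b, hbN⟩)⁻¹ := by
    rw [← map_inv, ← map_inv, ← map_mul, ← map_mul, ← map_mul]; rfl
  rw [this, ← h3]
  group

end stepThree


section main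

theorem le_zpowers_of_prime_card [Finite X] {r : ℕ} (hr : r.Prime) (R0 : Subgroup X)
    (hR0 : Nat.card R0 = r) (e : X) (he : e ∈ R0) (he1 : e ≠ 1) : R0 ≤ zpowers e := by
  haveI : Fact r.Prime := ⟨hr⟩
  have hz : zpowers (⟨e, he⟩ : R0) = ⊤ :=
    zpowers_eq_top_of_prime_card hR0 (fun h => he1 (congrArg Subtype.val h))
  intro y hy
  have hy' : (⟨y, hy⟩ : R0) ∈ zpowers (⟨e, he⟩ : R0) := by rw [hz]; trivial
  obtain ⟨k, hk⟩ := hy'
  refine ⟨k, ?_⟩
  have := congrArg Subtype.val hk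
  simpa using this

theorem commutator_self_ne [Finite X] {q : ℕ} [Fact q.Prime] (B : Subgroup X) (hB : IsPGroup q B)
    (hB1 : B ≠ ⊥) : ⁅B, B⁆ ≠ B := by
  intro h
  haveI : Nontrivial B := (Subgroup.nontrivial_iff_ne_bot B).mpr hB1
  haveI : Group.IsNilpotent B := hB.isNilpotent
  have h1 : _root_.commutator B < ⊤ := IsSolvable.commutator_lt_top_of_nontrivial B
  have h2 : (_root_.commutator B).map B.subtype = (⊤ : Subgroup B).map B.subtype := by
    rw [Subgroup.map_subtype_commutator, h, ← MonoidHom.range_eq_map, Subgroup.range_subtype]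
  have h3 := Subgroup.map_injective B.subtype_injective h2
  exact h1.ne h3

/-- **Lemma E, nonabelian half**: Lemma E holds provided it holds for abelian subgroups
(hypothesis `hstar`). -/
theorem lemmaE_of_abelian [Finite X] {p q r : ℕ} (hp : p.Prime) (hq : q.Prime) (hr : r.Prime)
    (hp2 : p ≠ 2) (hpq : p ≠ q) (hpr : p ≠ r) (hqr : q ≠ r)
    (V Q S R0 : Subgroup X) (hV : IsPGroup p V) (hVab : ∀ a ∈ V, ∀ b ∈ V, a * b = b * a)
    (hQ : IsPGroup q Q) (hS : IsPGroup p S) (hR0 : Nat.card R0 = r)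
    (hRS : R0 ≤ normalizer (S : Set X)) (hSQ : S ≤ normalizer (Q : Set X))
    (hRQ : R0 ≤ normalizer (Q : Set X)) (hQV : Q ≤ normalizer (V : Set X))
    (hSV : S ≤ normalizer (V : Set X)) (hRV : R0 ≤ normalizer (V : Set X))
    (hfpf : S ⊓ centralizer (R0 : Set X) = ⊥) (hfaith : Q ⊓ centralizer (V : Set X) = ⊥)
    (hCQ : IsCyclic ↥(Q ⊓ centralizer (R0 : Set X)))
    (hCV : IsCyclic ↥(V ⊓ centralizer (R0 : Set X)))
    (hstar : ∀ A : Subgroup X, A ≤ Q → (∀ a ∈ A, ∀ b ∈ A, a * b = b * a) →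
      S ≤ normalizer (A : Set X) → R0 ≤ normalizer (A : Set X) → S ≤ centralizer (A : Set X)) :
    S ≤ centralizer (Q : Set X) := by
  classical
  haveI : Fact p.Prime := ⟨hp⟩
  haveI : Fact q.Prime := ⟨hq⟩
  haveI : Fact r.Prime := ⟨hr⟩
  by_contra hnot
  let 𝓑 : Set (Subgroup X) := {B | B ≤ Q ∧ S ≤ normalizer (B : Set X) ∧
    R0 ≤ normalizer (B : Set X) ∧ ¬ S ≤ centralizer (B : Set X)}
  have hQmem : Q ∈ 𝓑 := ⟨le_rfl, hSQ, hRQ, hnot⟩
  obtain ⟨B, hBmem, hBmin⟩ := (wellFounded_lt (α := Subgroup X)).has_min 𝓑 ⟨Q, hQmem⟩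
  obtain ⟨hBQ, hSB, hRB, hSnB⟩ := hBmem
  have hmin : ∀ B' : Subgroup X, B' ≤ B → B' ≠ B → S ≤ normalizer (B' : Set X) →
      R0 ≤ normalizer (B' : Set X) → S ≤ centralizer (B' : Set X) := by
    intro B' hle hne hS' hR'
    by_contra hc
    exact hBmin B' ⟨hle.trans hBQ, hS', hR', hc⟩ (lt_of_le_of_ne hle hne)
  have hBq : IsPGroup q B := hQ.to_le hBQ
  have hR0r : IsPGroup r R0 := IsPGroup.of_card (n := 1) (by rw [hR0, pow_one])
  have hcopSB : (Nat.card S).Coprime (Nat.card B) :=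
    IsPGroup.coprime_card_of_ne p q hpq S B hS hBq
  have hcopRS : (Nat.card R0).Coprime (Nat.card S) :=
    IsPGroup.coprime_card_of_ne r p hpr.symm R0 S hR0r hS
  haveI : Group.IsNilpotent S := hS.isNilpotent
  have hB1 : B ≠ ⊥ := by
    rintro rfl
    apply hSnB
    intro s _
    rw [mem_centralizer_iff]
    intro h hh
    rw [SetLike.mem_coe, mem_bot] at hh
    subst hh; simp
  -- (a) `[B, S] = B`
  have hBS : ⁅B, S⁆ = B := by
    by_contra hne
    have hle : ⁅B, S⁆ ≤ B := Cfsg.Agent.Lib.Helper24.commutator_le_of_le_normalizer B S hSB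
    have h1 := hmin ⁅B, S⁆ hle hne
      (Cfsg.Agent.Lib.Helper24.le_normalizer_commutator_right B S hSB)
      (fun g hg => normalizer_commutator (hRB hg) (hRS hg))
    have h2 := Cfsg.Agent.Lib.Helper24.commutator_commutator_eq S B hSB hcopSB
      (Or.inl inferInstance)
    have h3 : ⁅⁅B, S⁆, S⁆ = ⊥ :=
      commutator_eq_bot_iff_le_centralizer.mpr (le_centralizer_iff.mp h1)
    rw [h3] at h2
    exact hSnB (le_centralizer_iff.mp (commutator_eq_bot_iff_le_centralizer.mp h2.symm))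
  -- `B` is nonabelian
  have hBnab : ¬ ∀ a ∈ B, ∀ b ∈ B, a * b = b * a := fun h => hSnB (hstar B hBQ h hSB hRB)
  -- the centre
  set Z : Subgroup X := B ⊓ centralizer (B : Set X) with hZ
  have hZB : Z ≤ B := inf_le_left
  have hZne : Z ≠ B := by
    intro h
    apply hBnab
    intro a ha b hb
    have : a ∈ Z := h ▸ ha
    exact (mem_centralizer_iff.mp this.2 b hb).symm
  have hNZ : ∀ g : X, g ∈ normalizer (B : Set X) → g ∈ normalizer (Z : Set X) :=
    fun g hg => normalizer_inf hg (normalizer_centralizer hg)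
  have hSZn : S ≤ normalizer (Z : Set X) := fun g hg => hNZ g (hSB hg)
  have hRZn : R0 ≤ normalizer (Z : Set X) := fun g hg => hNZ g (hRB hg)
  have hBZn : B ≤ normalizer (Z : Set X) := fun g hg => hNZ g (le_normalizer hg)
  have hZS : S ≤ centralizer (Z : Set X) := hmin Z hZB hZne hSZn hRZn
  -- the derived subgroup
  have hB'B : ⁅B, B⁆ ≤ B := Cfsg.Agent.Lib.Helper24.commutator_le_of_le_normalizer B B le_normalizer
  have hB'ne : ⁅B, B⁆ ≠ B := commutator_self_ne B hBq hB1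
  have hSB' : S ≤ centralizer ((⁅B, B⁆ : Subgroup X) : Set X) :=
    hmin _ hB'B hB'ne (fun g hg => normalizer_commutator (hSB hg) (hSB hg))
      (fun g hg => normalizer_commutator (hRB hg) (hRB hg))
  -- `C_B(S) ≤ C(B)` by the three subgroups lemma
  have hCZ : B ⊓ centralizer (S : Set X) ≤ centralizer (B : Set X) := by
    set C : Subgroup X := B ⊓ centralizer (S : Set X) with hC
    have h1 : ⁅⁅S, C⁆, B⁆ = ⊥ := by
      have : ⁅S, C⁆ = ⊥ := by
        rw [commutator_eq_bot_iff_le_centralizer]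
        exact le_centralizer_iff.mp inf_le_right
      rw [this]; exact commutator_bot_left B
    have h2 : ⁅⁅C, B⁆, S⁆ = ⊥ := by
      rw [commutator_eq_bot_iff_le_centralizer]
      exact (commutator_mono inf_le_left le_rfl).trans (le_centralizer_iff.mp hSB')
    have h3 : ⁅⁅B, S⁆, C⁆ = ⊥ := commutator_commutator_eq_bot_of_rotate h1 h2
    rw [hBS, commutator_eq_bot_iff_le_centralizer] at h3
    exact le_centralizer_iff.mp h3
  have hB'Z : ⁅B, B⁆ ≤ Z :=
    le_inf hB'B ((le_inf hB'B (le_centralizer_iff.mp hSB')).trans hCZ)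
  -- step one
  have hfaithB : B ⊓ centralizer (V : Set X) = ⊥ := by
    rw [eq_bot_iff, ← hfaith]; exact inf_le_inf_right _ hBQ
  have hRZ : R0 ≤ centralizer (Z : Set X) :=
    step_one hp hq hr hpq hpr hqr V B S R0 Z hV hVab hBq hS hR0 hRS hRB (hBQ.trans hQV) hSV hRV
      hfaithB hCV rfl hZS hBS
  -- step two
  have hCB : IsCyclic ↥(B ⊓ centralizer (R0 : Set X)) := by
    have hle : B ⊓ centralizer (R0 : Set X) ≤ Q ⊓ centralizer (R0 : Set X) :=
      inf_le_inf_right _ hBQ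
    exact isCyclic_of_injective (inclusion hle) (inclusion_injective hle)
  have hCBZ : B ⊓ centralizer (R0 : Set X) ≤ Z :=
    step_two hq hr hqr B R0 Z hBq hR0 hRB rfl hB'Z hRZ hCB
  -- step three
  have hcopRZ : (Nat.card R0).Coprime (Nat.card Z) :=
    IsPGroup.coprime_card_of_ne r q hqr.symm R0 Z hR0r (hBq.to_le hZB)
  haveI : Group.IsNilpotent R0 := hR0r.isNilpotent
  have h3 : ⁅S, R0⁆ ≤ centMod (B : Set X) Z := by
    rw [commutator_le]
    intro s hs e he
    by_cases he1 : e = 1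
    · subst he1
      have : ⁅s, (1 : X)⁆ = 1 := by rw [commutatorElement_def]; group
      rw [this]; exact one_mem _
    · have her : e ^ r = 1 := by
        have := pow_card_eq_one' (G := R0) (x := ⟨e, he⟩)
        rw [hR0] at this
        have h' := congrArg Subtype.val this
        simpa using h'
      have hfix : ∀ v ∈ B, e * v * e⁻¹ * v⁻¹ ∈ Z → v ∈ Z := by
        intro v hv hvz
        have hemem : e ∈ centMod ({v} : Set X) Z := by
          refine ⟨hRZn he, fun b hb => ?_⟩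
          rw [Set.mem_singleton_iff] at hb
          subst hb; exact hvz
        have hall : ∀ a ∈ R0, a * v * a⁻¹ * v⁻¹ ∈ Z := by
          intro a ha
          have h1 : a ∈ zpowers e := le_zpowers_of_prime_card hr R0 hR0 e he he1 ha
          have h2 : zpowers e ≤ centMod ({v} : Set X) Z := zpowers_le.mpr hemem
          exact (h2 h1).2 v (Set.mem_singleton v)
        obtain ⟨n, hn, hc⟩ := Cfsg.Agent.Lib.Helper24.fixed_point_lemma Z R0 hRZn hcopRZ
          (Or.inr inferInstance) v hall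
        have h4 : n⁻¹ * v ∈ Z := hCBZ ⟨B.mul_mem (B.inv_mem (hZB hn)) hv, hc⟩
        have e1 : v = n * (n⁻¹ * v) := by group
        rw [e1]; exact Z.mul_mem hn h4
      have := hh_section hq hp hr hpq.symm hqr hpr hp2 B S Z e hBZn hSZn (hRZn he) hBq hS
        (hRB he) (hRS he) her hSB hfix s hs
      rwa [commutatorElement_def]
  -- `S = [S, R0]`
  have hSeq : ⁅S, R0⁆ = S := by
    have := Cfsg.Agent.Lib.Helper24.commutator_sup_centralizer_eq R0 S hRS hcopRS
      (Or.inl inferInstance)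
    rwa [hfpf, sup_bot_eq] at this
  have h4 : ⁅B, S⁆ ≤ Z := by
    rw [commutator_comm, commutator_le]
    intro s hs b hb
    have hs' : s ∈ ⁅S, R0⁆ := by rw [hSeq]; exact hs
    have := (h3 hs').2 b hb
    rwa [commutatorElement_def]
  rw [hBS] at h4
  exact hZne (le_antisymm hZB h4)

end main


end Cfsg.Agent.Lib.Helper22.BGLemmaENA
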