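import Cfsg.Agent.S1403
import Cfsg.Agent.S1405
import Cfsg.Agent.S1411
import Cfsg.Agent.S1414
import Cfsg.Agent.Lib.Helper19.BG124c
import Cfsg.Agent.Lib.Helper48.WardRedB
import Cfsg.Agent.Lib.Helper68.BG1215b
import Cfsg.Agent.Lib.Helper33.PStabX1
import Cfsg.Agent.Lib.Helper21.Rank
import Cfsg.Agent.Lib.Helper82.GlaubermanLemma
import Cfsg.Agent.Lib.Helper33.SylowSub
import Cfsg.Agent.Lib.Helper47.BG11a

set_option autoImplicit false
set_option linter.style.haveILetI false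
set_option linter.unusedSectionVars false

/-!
# Bender–Glauberman Lemma 12.14(d): two maximal subgroups over the normalizer of a Sylow subgroup

`Q` a Sylow `q`-subgroup of `G` with `N_G(Q) ≤ M ⊓ N`, `M ≠ N` maximal.
* `f2` : `M = M_α N_M(Q)`;
* `f3` : `q ∉ α(M)`, `α(M) = β(M)`, `M_α ≠ 1`;
* `f4` : `τ₁(N) ⊆ τ₁(M) ∪ α(M)`.
-/

namespace Cfsg.Agent.Lib.Helper22.BG1214d

open Subgroup Cfsg Cfsg.Agent.Lib.Helper33
open scoped commutatorElement

universe u

variable {G : Type u} [Group G] [Finite G]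

/-- `Q ≤ M'` for a Sylow subgroup `Q` of `G` with `N_G(Q) ≤ M` -/
theorem sylow_le_commutator (hG : IsMinSimpleOddOrder G) {M : Subgroup G} {q : ℕ} [Fact q.Prime]
    (Q : Sylow q G) (hQM : normalizer ((Q : Subgroup G) : Set G) ≤ M) :
    (Q : Subgroup G) ≤ ⁅M, M⁆ := by
  obtain ⟨V, hV⟩ := Cfsg.Agent.Lib.Helper19.BG124.exists_isComplIn_normalizer Q
  have h6 := (Cfsg.Agent.S1411.result hG q Q V hV).2
  exact h6.trans (Subgroup.commutator_mono hQM hQM)

/-- **F2**: `M = M_α N_M(Q)` -/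
theorem f2 (hG : IsMinSimpleOddOrder G) {M : Subgroup G} (hM : IsCoatom M) {q : ℕ}
    [hq : Fact q.Prime] (Q : Sylow q G) (hQM : normalizer ((Q : Subgroup G) : Set G) ≤ M) :
    ∀ m ∈ M, ∃ a ∈ alphaCore M, ∃ n ∈ normalizer ((Q : Subgroup G) : Set G), m = a * n := by
  have hQle : (Q : Subgroup G) ≤ M := le_normalizer.trans hQM
  have hQc := sylow_le_commutator hG Q hQM
  obtain ⟨-, -, -, -, hnil⟩ := Cfsg.Agent.S1405.result hG M hM
  -- work in `↥M`
  set V₀ : Subgroup ↥M := piCore (alpha M) ↥M with hV₀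
  set C : Subgroup ↥M := commutator ↥M with hC
  set S₀ : Subgroup ↥M := (Q : Subgroup G).subgroupOf M with hS₀
  haveI : C.Normal := by rw [hC, commutator_def]; infer_instance
  haveI : (V₀ ⊔ C).Normal := inferInstance
  have hmapeq : (V₀ ⊔ C).map (QuotientGroup.mk' V₀) = C.map (QuotientGroup.mk' V₀) := by
    rw [Subgroup.map_sup, QuotientGroup.map_mk'_self, bot_sup_eq]
  have hnil' : Group.IsNilpotent ↥((V₀ ⊔ C).map (QuotientGroup.mk' V₀)) := by
    rw [hmapeq]; exact hnil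
  have hS₀C : S₀ ≤ C := by
    intro x hx
    have h1 : (x : G) ∈ ⁅M, M⁆ := hQc (mem_subgroupOf.mp hx)
    rw [← Subgroup.map_subtype_commutator] at h1
    obtain ⟨w, hw, hwx⟩ := h1
    have : w = x := Subtype.ext hwx
    rw [← this]; exact hw
  have hS₀q : IsPGroup q S₀ := Q.2.comap_subtype
  have hidx0 : ¬ q ∣ S₀.index := by
    intro h
    have h1 : S₀.index = (Q : Subgroup G).relIndex M := rfl
    rw [h1] at h
    exact Q.not_dvd_index (h.trans (Subgroup.relIndex_dvd_index_of_le hQle))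
  have hidx : ¬ q ∣ S₀.relIndex (V₀ ⊔ C) := fun h =>
    hidx0 (h.trans (Subgroup.relIndex_dvd_index_of_le (hS₀C.trans le_sup_right)))
  haveI hnorm : (V₀ ⊔ S₀).Normal :=
    Cfsg.Agent.Lib.Helper48.Ward.sup_sylow_normal V₀ (V₀ ⊔ C) S₀ hq.out le_sup_left hnil'
      (hS₀C.trans le_sup_right) hS₀q hidx
  have hidx2 : ¬ q ∣ S₀.relIndex (V₀ ⊔ S₀) := fun h =>
    hidx0 (h.trans (Subgroup.relIndex_dvd_index_of_le le_sup_right))
  intro m hm
  obtain ⟨w, hw, n, hn, hl⟩ := frattini_rel (L := (⊤ : Subgroup ↥M)) (M := V₀ ⊔ S₀) (I := S₀)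
    le_top (fun x _ => by
      rw [normalizer_eq_top_iff.mpr hnorm]; exact mem_top x) le_sup_right hS₀q hidx2
    (l := (⟨m, hm⟩ : ↥M)) (mem_top _)
  obtain ⟨v, hv, y, hy, hvy⟩ := Subgroup.mem_sup_of_normal_left.mp hw
  refine ⟨(v : G), ⟨v, hv, rfl⟩, ((y * n : ↥M) : G), ?_, ?_⟩
  · have hyn : y * n ∈ normalizer (S₀ : Set ↥M) :=
      Subgroup.mul_mem _ (le_normalizer hy) hn.2
    apply Cfsg.Agent.Lib.Helper21.mem_normalizer_of_conj_le
    intro x hx
    have hxM : x ∈ M := hQle hx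
    have h1 : (⟨x, hxM⟩ : ↥M) ∈ S₀ := mem_subgroupOf.mpr hx
    have h2 := (mem_normalizer_iff.mp hyn ⟨x, hxM⟩).mp h1
    exact mem_subgroupOf.mp h2
  · have := congrArg (Subtype.val) hl
    rw [← hvy] at this
    simp only [Subgroup.coe_mul] at this ⊢
    rw [this, mul_assoc]

/-- a subgroup `B` of `X = K T` (`K ⊴ X`) of order prime to `|K|` is `K`-conjugate into `T` -/
theorem conj_into_supplement {X K T B : Subgroup G} (hKX : K ≤ X)
    (hXK : X ≤ normalizer (K : Set G)) (hTX : T ≤ X)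
    (hprod : ∀ x ∈ X, ∃ k ∈ K, ∃ t ∈ T, x = k * t) (hBX : B ≤ X)
    (hcop : (Nat.card K).Coprime (Nat.card B))
    (hsolv : Group.IsSolvable K ∨ Group.IsSolvable B) :
    ∃ a ∈ K, cj a B ≤ T := by
  haveI : (K.subgroupOf X).Normal :=
    Cfsg.Agent.Lib.Helper24.normal_subgroupOf_of_le_normalizer hXK
  have hcK : Nat.card (K.subgroupOf X) = Nat.card K :=
    Nat.card_congr (Subgroup.subgroupOfEquivOfLe hKX).toEquiv
  have hcB : Nat.card (B.subgroupOf X) = Nat.card B :=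
    Nat.card_congr (Subgroup.subgroupOfEquivOfLe hBX).toEquiv
  have hsolv' : Group.IsSolvable (K.subgroupOf X) ∨ Group.IsSolvable (B.subgroupOf X) := by
    rcases hsolv with h | h
    · left
      exact Group.isSolvable_of_isSolvable_injective
        (f := (Subgroup.subgroupOfEquivOfLe hKX).toMonoidHom)
        (Subgroup.subgroupOfEquivOfLe hKX).injective
    · right
      exact Group.isSolvable_of_isSolvable_injective
        (f := (Subgroup.subgroupOfEquivOfLe hBX).toMonoidHom)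
        (Subgroup.subgroupOfEquivOfLe hBX).injective
  have hle : B.subgroupOf X ≤ K.subgroupOf X ⊔ T.subgroupOf X := by
    intro x hx
    obtain ⟨k, hk, t, ht, hxe⟩ := hprod x x.2
    have h1 : x = (⟨k, hKX hk⟩ : ↥X) * ⟨t, hTX ht⟩ := Subtype.ext hxe
    rw [h1]
    exact Subgroup.mul_mem _ (Subgroup.mem_sup_left (mem_subgroupOf.mpr hk))
      (Subgroup.mem_sup_right (mem_subgroupOf.mpr ht))
  obtain ⟨a, ha, hale⟩ := Cfsg.Agent.Lib.Helper82.glauberman_lemma (K.subgroupOf X)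
    (B.subgroupOf X) (T.subgroupOf X) (by rw [hcK, hcB]; exact hcop) hsolv' hle
  refine ⟨(a : G), mem_subgroupOf.mp ha, ?_⟩
  intro y hy
  obtain ⟨b, hb, rfl⟩ := mem_cj'.mp hy
  have h2 : a * (⟨b, hBX hb⟩ : ↥X) * a⁻¹ ∈ T.subgroupOf X :=
    hale (mem_cj'.mpr ⟨⟨b, hBX hb⟩, mem_subgroupOf.mpr hb, rfl⟩)
  exact mem_subgroupOf.mp h2

/-- a subgroup of `G` with an elementary abelian `s`-subgroup of order more than `s²`, contained in two
maximal subgroups, forces them to be equal -/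
theorem eq_of_rankGT_le (hG : IsMinSimpleOddOrder G) {M N A : Subgroup G} (hM : IsCoatom M)
    (hN : IsCoatom N) {s : ℕ} (hs : s.Prime) (hA : Cfsg.Agent.Lib.Helper21.RankGT s 2 A)
    (hAM : A ≤ M) (hAN : A ≤ N) : M = N := by
  have hAtop : A ≠ ⊤ := fun h => hM.1 (top_le_iff.mp (h ▸ hAM))
  have h2 : ¬ PRankLE s 2 ↥A := (Cfsg.Agent.Lib.Helper21.not_pRankLE_iff s 2 A).mpr hA
  have h1 : ¬ PRankLE s 1 ↥A := fun h =>
    h2 (Cfsg.Agent.Lib.Helper23.pRankLE_mono hs.pos (by norm_num) h)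
  obtain ⟨M₀, -, huniq⟩ := Cfsg.Agent.S1403.result hG A hAtop (fun h => h1 (h s hs))
    (Or.inl (fun h => h2 (h s hs)))
  exact (huniq M ⟨hM, hAM⟩).trans (huniq N ⟨hN, hAN⟩).symm

/-- **F3**: `q ∉ α(M)`, `α(M) ⊆ β(M)` and `M_α ≠ 1` -/
theorem f3 (hG : IsMinSimpleOddOrder G) {M N : Subgroup G} (hM : IsCoatom M) (hN : IsCoatom N)
    (hne : M ≠ N) {q : ℕ} [hq : Fact q.Prime] (Q : Sylow q G)
    (hQM : normalizer ((Q : Subgroup G) : Set G) ≤ M)
    (hQN : normalizer ((Q : Subgroup G) : Set G) ≤ N) :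
    q ∉ alpha M ∧ (∀ s : ℕ, s ∈ alpha M → s ∈ beta M) ∧ alphaCore M ≠ ⊥ := by
  have hQleM : (Q : Subgroup G) ≤ M := le_normalizer.trans hQM
  have hQleN : (Q : Subgroup G) ≤ N := le_normalizer.trans hQN
  have hQiM : ¬ q ∣ (Q : Subgroup G).relIndex M := fun h =>
    Q.not_dvd_index (h.trans (Subgroup.relIndex_dvd_index_of_le hQleM))
  have hqα : q ∉ alpha M := by
    intro hα
    obtain ⟨A, hAM, hAq, hA⟩ :=
      ((Cfsg.Agent.Lib.Helper21.not_pRankLE_iff q 2 M).mp hα.2).isPGroup_witness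
    obtain ⟨c, hc, hcA⟩ := sylow_sub hQleM Q.2 hQiM hAM hAq
    have h1 : cj c A ≤ M := hcA.trans hQleM
    have h2 : cj c A ≤ N := hcA.trans hQleN
    exact hne (eq_of_rankGT_le hG hM hN hq.out (hA.conj c) h1 h2)
  refine ⟨hqα, ?_, ?_⟩
  · intro s hsα
    by_contra hsβ
    haveI : Fact s.Prime := ⟨hsα.1⟩
    obtain ⟨A, hAM, hAs, hA⟩ :=
      ((Cfsg.Agent.Lib.Helper21.not_pRankLE_iff s 2 M).mp hsα.2).isPGroup_witness
    have hA1 : A ≠ ⊥ := by
      rintro rfl
      obtain ⟨B, hB, -, -, hlt⟩ := hA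
      have hB' : B = ⊥ := le_bot_iff.mp hB
      rw [hB', Subgroup.card_bot] at hlt
      have := hsα.1.pos
      have : 1 ≤ s ^ 2 := Nat.one_le_pow _ _ this
      omega
    have hsd : s ∣ Nat.card M := by
      obtain ⟨k, hk⟩ := IsPGroup.iff_card.mp hAs
      have hk0 : k ≠ 0 := by
        rintro rfl
        rw [pow_zero] at hk
        exact hA1 (Subgroup.card_eq_one.mp hk)
      have : s ∣ Nat.card A := by rw [hk]; exact dvd_pow_self s hk0
      exact this.trans (Subgroup.card_dvd_of_le hAM)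
    have hsq : s ≠ q := fun h => hqα (h ▸ hsα)
    obtain ⟨hnpc, -, -⟩ := (Cfsg.Agent.S1414.result hG M hM).2.2.2.2 s hsα.1 hsd hsβ
    obtain ⟨C, hCH, hHC, hCcop, k, hCk⟩ := Cfsg.Agent.Lib.Helper68.BG1215.npc_data hnpc
    have hM'M : ⁅M, M⁆ ≤ M := Subgroup.commutator_le_self M
    have hCM : C ≤ M := hCH.trans hM'M
    have hQC : (Q : Subgroup G) ≤ C := by
      refine Cfsg.Agent.Lib.Helper68.BG1215.le_of_isPGroup_of_not_dvd hCH hHC
        (sylow_le_commutator hG Q hQM) Q.2 ?_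
      rw [hCk]
      intro h
      exact hsq ((Nat.prime_dvd_prime_iff_eq hq.out hsα.1).mp (hq.out.dvd_of_dvd_pow h)).symm
    have hMC : M ≤ normalizer (C : Set G) := by
      intro m hm
      apply Cfsg.Agent.Lib.Helper21.mem_normalizer_of_conj_le
      have hle : cj m C ≤ C := by
        refine Cfsg.Agent.Lib.Helper68.BG1215.le_of_coprime_relIndex hCH hHC ?_ ?_
        · intro y hy
          obtain ⟨c, hc, rfl⟩ := mem_cj'.mp hy
          have : (MulAut.conj m) c ∈ ⁅M, M⁆ := by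
            have hnorm : (⁅M, M⁆ : Subgroup G).map (MulAut.conj m).toMonoidHom = ⁅M, M⁆ := by
              rw [Subgroup.map_commutator]
              have hmm : M.map (MulAut.conj m).toMonoidHom = M :=
                cj_eq_self_iff.mpr (le_normalizer hm)
              rw [hmm]
            rw [← hnorm]
            exact Subgroup.mem_map_of_mem _ (hCH hc)
          simpa using this
        · rw [card_cj, hCk]
          exact Nat.Coprime.pow_right k hCcop
      intro x hx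
      exact hle (mem_cj'.mpr ⟨x, hx, rfl⟩)
    have hQiC : ¬ q ∣ (Q : Subgroup G).relIndex C := fun h =>
      Q.not_dvd_index (h.trans (Subgroup.relIndex_dvd_index_of_le hQC))
    have hprod : ∀ x ∈ M, ∃ c ∈ C, ∃ t ∈ normalizer ((Q : Subgroup G) : Set G), x = c * t := by
      intro x hx
      obtain ⟨c, hc, n, hn, hxe⟩ := frattini_rel hCM hMC hQC Q.2 hQiC hx
      exact ⟨c, hc, n, hn.2, hxe⟩
    have hcop : (Nat.card C).Coprime (Nat.card A) := by
      obtain ⟨j, hj⟩ := IsPGroup.iff_card.mp hAs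
      rw [hj]
      exact Nat.Coprime.pow_right j hCcop
    haveI : Group.IsSolvable ↥A := by
      haveI := hAs.isNilpotent
      infer_instance
    obtain ⟨a, ha, haA⟩ := conj_into_supplement hCM hMC hQM hprod hAM hcop (Or.inr inferInstance)
    have h1 : cj a A ≤ M := by
      have := cj_mono (g := a) hAM
      rwa [cj_eq_self_iff.mpr (le_normalizer (hCM ha))] at this
    exact hne (eq_of_rankGT_le hG hM hN hsα.1 (hA.conj a) h1 (haA.trans hQN))
  · intro hbot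
    have hMN : M ≤ N := by
      intro m hm
      obtain ⟨a, ha, n, hn, rfl⟩ := f2 hG hM Q hQM m hm
      rw [hbot, Subgroup.mem_bot] at ha
      rw [ha, one_mul]
      exact hQN hn
    rcases eq_or_lt_of_le hMN with h | h
    · exact hne h
    · exact hN.1 (hM.2 N h)

theorem relIndex_mul_card' {X : Type*} [Group X] {H K : Subgroup X} (h : H ≤ K) :
    H.relIndex K * Nat.card H = Nat.card K := by
  rw [Subgroup.relIndex, ← Nat.card_congr (Subgroup.subgroupOfEquivOfLe h).toEquiv]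
  exact (H.subgroupOf K).index_mul_card

/-- `r ∤ |K|`, `r ∤ |T|`, `K` normal: then `r ∤ |K T|` -/
theorem not_dvd_card_sup {X : Type*} [Group X] [Finite X] {r : ℕ} (hr : r.Prime)
    (K T : Subgroup X) [K.Normal] (hK : ¬ r ∣ Nat.card K) (hT : ¬ r ∣ Nat.card T) :
    ¬ r ∣ Nat.card ↥(K ⊔ T) := by
  intro h
  rw [← relIndex_mul_card' (le_sup_left : K ≤ K ⊔ T), Subgroup.relIndex_sup_left] at h
  rcases (Nat.Prime.dvd_mul hr).mp h with h1 | h1
  · exact hT (h1.trans (Subgroup.relIndex_dvd_card K T))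
  · exact hK h1

/-- a nontrivial `r`-group has order divisible by `r` -/
theorem dvd_card_of_isPGroup_ne_bot {X : Type*} [Group X] [Finite X] {r : ℕ} [Fact r.Prime]
    {R : Subgroup X} (hR : IsPGroup r R) (hR1 : R ≠ ⊥) : r ∣ Nat.card R := by
  obtain ⟨k, hk⟩ := IsPGroup.iff_card.mp hR
  have hk0 : k ≠ 0 := by
    rintro rfl
    rw [pow_zero] at hk
    exact hR1 (Subgroup.card_eq_one.mp hk)
  rw [hk]; exact dvd_pow_self r hk0

/-- **F4**: `τ₁(N) ⊆ τ₁(M) ∪ α(M)` -/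
theorem f4 (hG : IsMinSimpleOddOrder G) {M N : Subgroup G} (hM : IsCoatom M) (hN : IsCoatom N)
    {q : ℕ} [hq : Fact q.Prime] (Q : Sylow q G)
    (hQM : normalizer ((Q : Subgroup G) : Set G) ≤ M)
    (hQN : normalizer ((Q : Subgroup G) : Set G) ≤ N) {r : ℕ} (hr : r ∈ tau1 N)
    (hrα : r ∉ alpha M) : r ∈ tau1 M := by
  obtain ⟨hrp, hrσN, hrdN, hrN', hrk⟩ := hr
  haveI : Fact r.Prime := ⟨hrp⟩
  have hrαN : r ∉ alpha N := fun h =>
    h.2 (Cfsg.Agent.Lib.Helper23.pRankLE_mono hrp.pos (by norm_num) hrk)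
  obtain ⟨⟨-, hαNπ, -⟩, -, -, -, -⟩ := Cfsg.Agent.S1405.result hG N hN
  obtain ⟨⟨-, hαMπ, -⟩, -, -, -, -⟩ := Cfsg.Agent.S1405.result hG M hM
  have hrKN : ¬ r ∣ Nat.card (alphaCore N) := fun h => hrαN (hαNπ r hrp h)
  have hrKM : ¬ r ∣ Nat.card (alphaCore M) := fun h => hrα (hαMπ r hrp h)
  have hKN : alphaCore N ≤ N := Subgroup.map_subtype_le _
  have hKM : alphaCore M ≤ M := Subgroup.map_subtype_le _
  have hNK : N ≤ normalizer ((alphaCore N : Subgroup G) : Set G) :=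
    Cfsg.Agent.Lib.Helper19.BG124.le_normalizer_map_of_normal N (piCore (alpha N) ↥N)
  have hMK : M ≤ normalizer ((alphaCore M : Subgroup G) : Set G) :=
    Cfsg.Agent.Lib.Helper19.BG124.le_normalizer_map_of_normal M (piCore (alpha M) ↥M)
  -- a Sylow `r`-subgroup `R` of `N` inside `N_G(Q)`
  obtain ⟨R₁'⟩ : Nonempty (Sylow r ↥N) := inferInstance
  obtain ⟨hR₁N, hR₁r, hR₁i⟩ := Cfsg.Agent.Lib.Helper24.sylow_map_facts N R₁'
  set R₁ := (R₁' : Subgroup ↥N).map N.subtype with hR₁def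
  have hsolvR : ∀ {B : Subgroup G}, IsPGroup r B → Group.IsSolvable ↥B := by
    intro B hB
    haveI := hB.isNilpotent
    infer_instance
  have hcopN : (Nat.card (alphaCore N)).Coprime (Nat.card R₁) := by
    obtain ⟨k, hk⟩ := IsPGroup.iff_card.mp hR₁r
    rw [hk]
    exact Nat.Coprime.pow_right k ((Nat.Prime.coprime_iff_not_dvd hrp).mpr hrKN).symm
  obtain ⟨a, ha, haR⟩ := conj_into_supplement hKN hNK hQN (f2 hG hN Q hQN) hR₁N hcopN
    (Or.inr (hsolvR hR₁r))
  set R := cj a R₁ with hRdef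
  have hRr : IsPGroup r R := isPGroup_cj hR₁r
  have hRN : R ≤ N := haR.trans hQN
  have hRM : R ≤ M := haR.trans hQM
  have hRiN : ¬ r ∣ R.relIndex N := by
    have h1 : cj a N = N := cj_eq_self_iff.mpr (le_normalizer (hKN ha))
    have h2 := relIndex_cj a R₁ N
    rw [h1] at h2
    rw [hRdef, h2]
    exact hR₁i
  have hR1 : R ≠ ⊥ := by
    intro h
    apply hRiN
    have h1 := relIndex_mul_card' hRN
    rw [h, Subgroup.card_bot, mul_one] at h1
    rw [h, h1]
    exact hrdN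
  have hrdR : r ∣ Nat.card R := dvd_card_of_isPGroup_ne_bot hRr hR1
  -- `R` is a Sylow `r`-subgroup of `M`
  have hRiM : ¬ r ∣ R.relIndex M := by
    obtain ⟨R₂'⟩ : Nonempty (Sylow r ↥M) := inferInstance
    obtain ⟨hR₂M, hR₂r, hR₂i⟩ := Cfsg.Agent.Lib.Helper24.sylow_map_facts M R₂'
    set R₂ := (R₂' : Subgroup ↥M).map M.subtype with hR₂def
    have hcopM : (Nat.card (alphaCore M)).Coprime (Nat.card R₂) := by
      obtain ⟨k, hk⟩ := IsPGroup.iff_card.mp hR₂r
      rw [hk]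
      exact Nat.Coprime.pow_right k ((Nat.Prime.coprime_iff_not_dvd hrp).mpr hrKM).symm
    obtain ⟨b, hb, hbR⟩ := conj_into_supplement hKM hMK hQM (f2 hG hM Q hQM) hR₂M hcopM
      (Or.inr (hsolvR hR₂r))
    obtain ⟨c, hc, hcR⟩ := sylow_sub hRN hRr hRiN (hbR.trans hQN) (isPGroup_cj hR₂r)
    have hdvd : Nat.card R₂ ∣ Nat.card R := by
      have := Subgroup.card_dvd_of_le hcR
      rwa [card_cj, card_cj] at this
    obtain ⟨j, hj⟩ := hdvd
    have h1 := relIndex_mul_card' hRM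
    have h2 := relIndex_mul_card' hR₂M
    have hpos : 0 < Nat.card R₂ := Nat.card_pos
    have h3 : R.relIndex M * j = R₂.relIndex M := by
      have : R.relIndex M * j * Nat.card R₂ = R₂.relIndex M * Nat.card R₂ := by
        rw [h2, ← h1, hj]; ring
      exact Nat.eq_of_mul_eq_mul_right hpos this
    intro h
    exact hR₂i (h3 ▸ Dvd.dvd.mul_right h j)
  -- rank
  have hrkM : PRankLE r 1 ↥M := by
    by_contra h
    obtain ⟨A, hAM, hAr, hA⟩ :=
      ((Cfsg.Agent.Lib.Helper21.not_pRankLE_iff r 1 M).mp h).isPGroup_witness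
    obtain ⟨c, hc, hcA⟩ := sylow_sub hRM hRr hRiM hAM hAr
    exact (Cfsg.Agent.Lib.Helper21.not_pRankLE_iff r 1 N).mpr
      ((hA.conj c).mono (hcA.trans hRN)) hrk
  -- `r ∤ |M'|`
  have hrM' : ¬ r ∣ Nat.card ↥⁅M, M⁆ := by
    set K' : Subgroup ↥M := piCore (alpha M) ↥M with hK'
    set T' : Subgroup ↥M := (normalizer ((Q : Subgroup G) : Set G)).subgroupOf M with hT'
    have hcomm : commutator ↥M ≤ K' ⊔ ⁅T', T'⁆ := by
      rw [commutator_def, Subgroup.commutator_le]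
      intro x _ y _
      have hdec : ∀ z : ↥M, ∃ k ∈ K', ∃ t ∈ T', z = k * t := by
        intro z
        obtain ⟨a₁, ha₁, n₁, hn₁, hz⟩ := f2 hG hM Q hQM z z.2
        obtain ⟨w, hw, hwa⟩ := ha₁
        refine ⟨w, hw, ⟨n₁, hQM hn₁⟩, mem_subgroupOf.mpr hn₁, ?_⟩
        apply Subtype.ext
        rw [Subgroup.coe_mul, hz]
        congr 1
        exact hwa.symm
      obtain ⟨k₁, hk₁, t₁, ht₁, rfl⟩ := hdec x
      obtain ⟨k₂, hk₂, t₂, ht₂, rfl⟩ := hdec y
      have hφ : ∀ k ∈ K', ∀ t : ↥M,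
          (QuotientGroup.mk' K') (k * t) = (QuotientGroup.mk' K') t := by
        intro k hk t
        rw [map_mul, QuotientGroup.mk'_apply, (QuotientGroup.eq_one_iff k).mpr hk, one_mul]
      have h1 : (QuotientGroup.mk' K') ⁅k₁ * t₁, k₂ * t₂⁆ = (QuotientGroup.mk' K') ⁅t₁, t₂⁆ := by
        rw [map_commutatorElement, map_commutatorElement, hφ k₁ hk₁ t₁, hφ k₂ hk₂ t₂]
      have h2 : ⁅k₁ * t₁, k₂ * t₂⁆⁻¹ * ⁅t₁, t₂⁆ ∈ K' := QuotientGroup.eq.mp h1
      have h3 : ⁅k₁ * t₁, k₂ * t₂⁆ = ⁅t₁, t₂⁆ * (⁅k₁ * t₁, k₂ * t₂⁆⁻¹ * ⁅t₁, t₂⁆)⁻¹ := by group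
      rw [h3]
      exact Subgroup.mul_mem _
        (Subgroup.mem_sup_right (Subgroup.commutator_mem_commutator ht₁ ht₂))
        (Subgroup.mem_sup_left (Subgroup.inv_mem _ h2))
    have hcK' : Nat.card K' = Nat.card (alphaCore M) :=
      (Subgroup.card_map_of_injective M.subtype_injective).symm
    have hcT'' : Nat.card ↥⁅T', T'⁆ ∣ Nat.card ↥⁅N, N⁆ := by
      have hc : Nat.card ↥((⁅T', T'⁆ : Subgroup ↥M).map M.subtype) = Nat.card ↥⁅T', T'⁆ :=
        Subgroup.card_map_of_injective M.subtype_injective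
      rw [← hc, Subgroup.map_commutator, hT', Subgroup.subgroupOf_map_subtype]
      exact Subgroup.card_dvd_of_le
        (Subgroup.commutator_mono (inf_le_left.trans hQN) (inf_le_left.trans hQN))
    have h4 : ¬ r ∣ Nat.card ↥(K' ⊔ ⁅T', T'⁆) :=
      not_dvd_card_sup hrp K' ⁅T', T'⁆ (by rw [hcK']; exact hrKM)
        (fun h => hrN' (h.trans hcT''))
    intro h
    apply h4
    rw [← Subgroup.map_subtype_commutator, Subgroup.card_map_of_injective M.subtype_injective] at h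
    exact h.trans (Subgroup.card_dvd_of_le hcomm)
  -- `r ∉ σ(M)`
  have hrσM : r ∉ sigma M := by
    intro hσ
    have hNR := Cfsg.Agent.Lib.Helper47.BG11.normalizer_le_of_sigma hσ hRM hRr hRiM
    have hRi := Cfsg.Agent.Lib.Helper47.BG11.not_dvd_index_of_sigma hσ hRM hRr hRiM
    have h1 : R ≤ ⁅M, M⁆ := sylow_le_commutator hG (hRr.toSylow hRi) hNR
    exact hrM' (hrdR.trans (Subgroup.card_dvd_of_le h1))
  exact ⟨hrp, hrσM, hrdR.trans (Subgroup.card_dvd_of_le hRM), hrM', hrkM⟩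

end Cfsg.Agent.Lib.Helper22.BG1214d
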