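import Cfsg.Agent.S1408
import Cfsg.Agent.S1409
import Cfsg.Agent.S1414
import Cfsg.Agent.S1417
import Cfsg.Agent.S1418
import Cfsg.Agent.Lib.Helper63.BG13b
import Cfsg.Agent.Lib.Helper70.BG134d
import Cfsg.Agent.Lib.Helper96.BG127
import Cfsg.Agent.Lib.Helper62.BG13K

set_option autoImplicit false
set_option linter.style.haveILetI false
set_option linter.unusedSectionVars false

/-!
# Bender–Glauberman Lemma 13.12: the stand-alone steps (3) and (4) of helper47's proof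

* `mem_tau1_of_acts` (L3): `p ∈ τ₁(H)`.
* `pRankLE_one_of_normalizer_le` (L4): the `q`-rank of a maximal subgroup over `N_G(P)` is at most `1`.
-/

namespace Cfsg.Agent.Lib.Helper22.BG1312

open Subgroup Cfsg Cfsg.Agent.Lib.Helper33 Cfsg.Agent.Lib.Helper24 Cfsg.Agent.Lib.Helper24.BG
open Cfsg.Agent.Lib.Helper63 Cfsg.Agent.Lib.Helper63.BG13

universe u

variable {G : Type u} [Group G] [Finite G]

/-- a subgroup of prime order `p` is a `p`-group -/
theorem isPGroup_of_card_prime {p : ℕ} [Fact p.Prime] {P : Subgroup G} (hP : Nat.card P = p) :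
    IsPGroup p P := IsPGroup.of_card (n := 1) (by rw [hP, pow_one])

/-- (L3) step (3): `p ∈ τ₁(H)`. -/
theorem mem_tau1_of_acts (hG : IsMinSimpleOddOrder G) {H : Subgroup G} (hH : IsCoatom H)
    {p q : ℕ} [hp : Fact p.Prime] [hq : Fact q.Prime] (hpq : p ≠ q) (hqH : q ∣ Nat.card H)
    (hqβ : q ∉ beta H) {P A : Subgroup G} (hP : Nat.card P = p) (hPH : P ≤ H)
    (hA : IsPGroup q A) (hAH : A ≤ H) (hPA : P ≤ normalizer (A : Set G))
    (hnc : ¬ A ≤ centralizer (P : Set G))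
    (hY : sigmaCore H ⊓ centralizer (P : Set G) ≠ ⊥)
    (hCP : ¬ centralizer (P : Set G) ≤ H) : p ∈ tau1 H := by
  have hU := uniqStmt hG
  have hHall := hallStmt hG
  have hPp : IsPGroup p P := isPGroup_of_card_prime hP
  obtain ⟨hnpcD, hnpcσ, -⟩ := (Cfsg.Agent.S1414.result hG H hH).2.2.2.2 q hq.out hqH hqβ
  have hpA : ¬ p ∣ Nat.card A := by
    intro h
    obtain ⟨k, hk⟩ := IsPGroup.iff_card.mp hA
    rw [hk] at h
    exact hpq ((Nat.prime_dvd_prime_iff_eq hp.out hq.out).mp (hp.out.dvd_of_dvd_pow h))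
  have hqA : ∀ r : ℕ, r.Prime → r ∣ Nat.card A → r = q := by
    intro r hr h
    obtain ⟨k, hk⟩ := IsPGroup.iff_card.mp hA
    rw [hk] at h
    exact (Nat.prime_dvd_prime_iff_eq hr hq.out).mp (hr.dvd_of_dvd_pow h)
  -- the normal-complement trick
  have key : ∀ K : Subgroup G, H ≤ normalizer (K : Set G) → HasNormalPComplement q ↥K →
      ¬ P ≤ K := by
    intro K hHK hK hPK
    apply hnc
    exact lemmaZ' hPp hPK (hAH.trans hHK) hPA hpA (fun r hr hrA => (hqA r hr hrA) ▸ hK)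
  have hpH : p ∣ Nat.card H := hP ▸ Subgroup.card_dvd_of_le hPH
  -- `p ∉ σ(H)`
  have hpσ : p ∉ sigma H := by
    intro hpσ
    exact key (sigmaCore H) (le_normalizer_sigmaCore H) hnpcσ
      (Cfsg.Agent.Lib.Helper47.BG11.le_sigmaCore_of_sigma (hHall H hH) hpσ hPH hPp)
  have hr2 : PRankLE p 2 ↥H := by
    by_contra h
    exact hpσ (Cfsg.Agent.Lib.Helper23.alpha_subset_sigma hG hU hH ⟨hp.out, h⟩)
  -- `p`-rank one
  have hr1 : PRankLE p 1 ↥H := by
    by_contra hr1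
    have hτ : p ∈ tau2 H := ⟨hp.out, hpσ, hr2, hr1⟩
    have hcop : (Nat.card P).Coprime (Nat.card (sigmaCore H)) := by
      rw [hP]
      exact (Nat.Prime.coprime_iff_not_dvd hp.out).mpr
        (fun h => hpσ (mem_sigma_of_dvd_card_sigmaCore H hp.out h))
    obtain ⟨E₀, hE₀, hPE₀⟩ := exists_compl_ge hG hH.1 (hHall H hH) hPH hcop
    obtain ⟨B, hBE, hBe, hBc⟩ := Cfsg.Agent.Lib.Helper96.BG127.exists_elemAb_sq_le_compl hE₀ hτ
    obtain ⟨⟨-, hall⟩, -, huniq⟩ := Cfsg.Agent.S1418.result hG H hH E₀ hE₀ p hτ B ⟨hBE, hBe, hBc⟩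
    exact hCP (huniq P (hall P hPE₀ hP) hP hY).1
  refine ⟨hp.out, hpσ, hpH, ?_, hr1⟩
  intro hdvd
  have hHn : H ≤ normalizer ((⁅H, H⁆ : Subgroup G) : Set G) :=
    Cfsg.Agent.Lib.Helper23.le_normalizer_commutator_self H
  exact key ⁅H, H⁆ hHn hnpcD
    (le_of_card_prime_of_pRankLE_one hG hr1 (Subgroup.commutator_le_self H) hHn hdvd hP hPH)

/-- a subgroup of prime order centralizes itself -/
theorem le_centralizer_self_of_card_prime {q : ℕ} [hq : Fact q.Prime] {Y : Subgroup G}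
    (hY : Nat.card Y = q) : Y ≤ centralizer (Y : Set G) := by
  haveI : IsCyclic ↥Y := isCyclic_of_prime_card hY
  intro y hy
  rw [mem_centralizer_iff]
  intro h hh
  have := (IsCyclic.commutative (α := ↥Y)).is_comm.comm ⟨h, hh⟩ ⟨y, hy⟩
  simpa using congrArg Subtype.val this

/-- (L4) step (4): the `q`-rank of a maximal subgroup over `N_G(P)` is at most one. -/
theorem pRankLE_one_of_normalizer_le (hG : IsMinSimpleOddOrder G) {M N : Subgroup G}
    (hM : IsCoatom M) (hN : IsCoatom N) {p q : ℕ} [hpf : Fact p.Prime] [hqf : Fact q.Prime]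
    (hp : p ∈ tau1 M) (hq : q ∈ tau2 M) {P Y : Subgroup G} (hP : Nat.card P = p) (hPM : P ≤ M)
    (hNP : normalizer (P : Set G) ≤ N) (hY : Nat.card Y = q)
    (hYP : Y ≤ centralizer (P : Set G))
    (hYM : centralizer (Y : Set G) ≤ M)
    (huniq : ∀ L : Subgroup G, IsCoatom L → centralizer (Y : Set G) ≤ L → L = M)
    (hC1 : sigmaCore M ⊓ centralizer (P : Set G) ≠ ⊥)
    (hCY : sigmaCore M ⊓ centralizer (P : Set G) ≤ centralizer (Y : Set G)) :
    PRankLE q 1 ↥N := by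
  have hU := uniqStmt hG
  have hHall := hallStmt hG
  have hPp : IsPGroup p P := isPGroup_of_card_prime hP
  have hYq : IsPGroup q Y := isPGroup_of_card_prime hY
  have hpq : p ≠ q := by
    rintro rfl
    exact hq.2.2.2 hp.2.2.2.2
  have hCN : centralizer (P : Set G) ≤ N := (Subgroup.centralizer_le_normalizer _).trans hNP
  have hPN : P ≤ N := le_normalizer.trans hNP
  have hYN : Y ≤ N := hYP.trans hCN
  have hYY : Y ≤ centralizer (Y : Set G) := le_centralizer_self_of_card_prime hY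
  have hYMle : Y ≤ M := hYY.trans hYM
  have hPY : P ≤ centralizer (Y : Set G) := by
    intro x hx
    rw [mem_centralizer_iff]
    intro y hy
    exact ((mem_centralizer_iff.mp (hYP hy)) x hx).symm
  -- `N ≠ M`
  have hNM : N ≠ M := by
    rintro rfl
    exact (Cfsg.Agent.S1409.result hG N hN p hp.2.1 P hP hNP).1.2 hp.2.2.2.2
  by_contra hr1
  by_cases hqσ : q ∈ sigma N
  · -- (i) `q ∈ σ(N)`: helper70's P2
    set C := sigmaCore M ⊓ centralizer (P : Set G) with hC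
    have hCcard : Nat.card C ≠ 1 := fun h => hC1 (Subgroup.card_eq_one.mp h)
    obtain ⟨s, hs, hsC⟩ := Nat.exists_prime_and_dvd hCcard
    haveI : Fact s.Prime := ⟨hs⟩
    obtain ⟨y, hy⟩ := exists_prime_orderOf_dvd_card' (G := ↥C) s hsC
    set S := zpowers (y : G) with hS
    have hSc : Nat.card S = s := by rw [hS, Nat.card_zpowers, Subgroup.orderOf_coe, hy]
    have hSC : S ≤ C := zpowers_le.mpr y.2
    have hsσ : s ∈ sigma M :=
      mem_sigma_of_dvd_card_sigmaCore M hs (hsC.trans (Subgroup.card_dvd_of_le inf_le_left))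
    have hS1 : S ≠ ⊥ := by
      intro h
      rw [h, Subgroup.card_bot] at hSc
      exact hs.one_lt.ne hSc
    exact Cfsg.Agent.Lib.Helper70.BG134.not_tau2_of_cent hG hN hM (Ne.symm hNM) hsσ hqσ hq
      (isPGroup_of_card_prime hSc) hS1 ((hSC.trans inf_le_right).trans hCN)
      ((hSC.trans inf_le_left).trans (Cfsg.Agent.Lib.Helper47.BG11.sigmaCore_le M)) hY hYN hYMle (hSC.trans hCY)
  · -- (ii) `q ∈ τ₂(N)`
    have hr2 : PRankLE q 2 ↥N := by
      by_contra h
      exact hqσ (Cfsg.Agent.Lib.Helper23.alpha_subset_sigma hG hU hN ⟨hqf.out, h⟩)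
    have hτq : q ∈ tau2 N := ⟨hqf.out, hqσ, hr2, hr1⟩
    have hcopY : (Nat.card Y).Coprime (Nat.card (sigmaCore N)) := by
      rw [hY]
      exact (Nat.Prime.coprime_iff_not_dvd hqf.out).mpr
        (fun h => hqσ (mem_sigma_of_dvd_card_sigmaCore N hqf.out h))
    by_cases hpσ : p ∈ sigma N
    · -- (ii-a)
      have hPσ : P ≤ sigmaCore N :=
        Cfsg.Agent.Lib.Helper47.BG11.le_sigmaCore_of_sigma (hHall N hN) hpσ hPN hPp
      obtain ⟨E₀, hE₀, hYE₀⟩ := exists_compl_ge hG hN.1 (hHall N hN) hYN hcopY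
      obtain ⟨B, hBE, hBe, hBc⟩ :=
        Cfsg.Agent.Lib.Helper96.BG127.exists_elemAb_sq_le_compl hE₀ hτq
      obtain ⟨⟨-, hall⟩, -, hun⟩ :=
        Cfsg.Agent.S1418.result hG N hN E₀ hE₀ q hτq B ⟨hBE, hBe, hBc⟩
      have hne : sigmaCore N ⊓ centralizer (Y : Set G) ≠ ⊥ := by
        intro h
        have hPle : P ≤ sigmaCore N ⊓ centralizer (Y : Set G) := le_inf hPσ hPY
        rw [h, le_bot_iff] at hPle
        rw [hPle, Subgroup.card_bot] at hP
        exact hpf.out.one_lt.ne hP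
      exact hNM ((hun Y (hall Y hYE₀ hY) hY hne).2 M hM hYM).symm
    · -- (ii-b)
      obtain ⟨⟨hp2, hp1⟩, -, -⟩ := Cfsg.Agent.S1409.result hG N hN p hpσ P hP hNP
      have hτp : p ∈ tau2 N := ⟨hpf.out, hpσ, hp2, hp1⟩
      have hPYbot : P ⊓ Y = ⊥ :=
        Cfsg.Agent.Lib.Helper62.BG13K.inf_eq_bot_of_coprime hPp (by
          rw [hY]; exact (Nat.coprime_primes hqf.out hpf.out).mpr (Ne.symm hpq))
      have hPYn : P ≤ normalizer (Y : Set G) := hPY.trans (Subgroup.centralizer_le_normalizer _)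
      have hcardT : Nat.card ↥(P ⊔ Y) = p * q := by
        rw [Cfsg.Agent.Lib.Helper62.BG13K.card_sup_eq_mul' P Y hPYn hPYbot, hP, hY]
      have hcopT : (Nat.card ↥(P ⊔ Y)).Coprime (Nat.card (sigmaCore N)) := by
        rw [hcardT]
        apply Nat.Coprime.mul_left
        · exact (Nat.Prime.coprime_iff_not_dvd hpf.out).mpr
            (fun h => hpσ (mem_sigma_of_dvd_card_sigmaCore N hpf.out h))
        · exact (Nat.Prime.coprime_iff_not_dvd hqf.out).mpr
            (fun h => hqσ (mem_sigma_of_dvd_card_sigmaCore N hqf.out h))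
      obtain ⟨E₀, hE₀, hTE₀⟩ := exists_compl_ge hG hN.1 (hHall N hN) (sup_le hPN hYN) hcopT
      have hPE₀ : P ≤ E₀ := le_sup_left.trans hTE₀
      have hYE₀ : Y ≤ E₀ := le_sup_right.trans hTE₀
      obtain ⟨Bp, hBpE, hBpe, hBpc⟩ :=
        Cfsg.Agent.Lib.Helper96.BG127.exists_elemAb_sq_le_compl hE₀ hτp
      obtain ⟨Bq, hBqE, hBqe, hBqc⟩ :=
        Cfsg.Agent.Lib.Helper96.BG127.exists_elemAb_sq_le_compl hE₀ hτq
      obtain ⟨⟨hnp, -⟩, -, -⟩ :=
        Cfsg.Agent.S1418.result hG N hN E₀ hE₀ p hτp Bp ⟨hBpE, hBpe, hBpc⟩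
      obtain ⟨⟨hnq, hallq⟩, -, -⟩ :=
        Cfsg.Agent.S1418.result hG N hN E₀ hE₀ q hτq Bq ⟨hBqE, hBqe, hBqc⟩
      have hYBq : Y ≤ Bq := hallq Y hYE₀ hY
      have hBpp : IsPGroup p Bp := IsPGroup.of_card (n := 2) hBpc
      have hbot : Bp ⊓ Bq = ⊥ :=
        Cfsg.Agent.Lib.Helper62.BG13K.inf_eq_bot_of_coprime hBpp (by
          rw [hBqc]
          exact Nat.Coprime.pow_left 2 ((Nat.coprime_primes hqf.out hpf.out).mpr (Ne.symm hpq)))
      have hBpY : Bp ≤ centralizer (Y : Set G) := by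
        intro b hb
        rw [mem_centralizer_iff]
        intro y hy
        exact Cfsg.Agent.Lib.Helper62.BG13K.commute_of_inf_eq_bot hbot (hYBq hy)
          (hnp (hBqE (hYBq hy))) hb (hnq (hBpE hb))
      have hle := BG10.card_le_of_pRankLE hp.2.2.2.2 (hBpY.trans hYM) hBpe
      rw [hBpc, pow_one] at hle
      have : p < p ^ 2 := by
        calc p = p ^ 1 := (pow_one p).symm
          _ < p ^ 2 := Nat.pow_lt_pow_right hpf.out.one_lt (by norm_num)
      omega

end Cfsg.Agent.Lib.Helper22.BG1312
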