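import Mathlib
import Cfsg.Agent.Lib.Helper23.PComponent
import Cfsg.Agent.Lib.Helper24.PxQ
import Cfsg.Agent.Lib.Helper22.FStar
import Cfsg.Agent.Lib.Helper22.Fitting
import Cfsg.Agent.Lib.Helper33.Pair
import Cfsg.Agent.Lib.Helper46.Subnormal
import Cfsg.Agent.Lib.Helper54.LBalance3
import Cfsg.Agent.Lib.Helper54.PConstr3
import Cfsg.Agent.Lib.Helper30.PPrimeCore

/-!
# `O_{p'}` of a `p`-local subgroup normalizes components and centralizes `O_p`

`LocalPrime p P D`: `P` a `p`-subgroup, `D` a `p'`-subgroup of `N_G(P)` normalized by `N_G(P)`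
(e.g. `D = O_{p'}(N_G(P))`).  If `O_{p'}(G) = 1` then `D` centralizes `O_p(G)` and normalizes
every component of `G`.
-/

set_option autoImplicit false

namespace Cfsg.Agent.Lib.Helper22.LocalCore

open Subgroup Cfsg
open Cfsg.Agent.Lib.Helper33 (cj cj_def mem_cj mem_cj' cj_mul cj_one cj_eq_self_iff cj_mono
  centralizer_cj cj_inv_cj cj_cj_inv)

variable {G : Type*} [Group G]

/-- `P` is a `p`-subgroup, `D` is a `p'`-subgroup of `N_G(P)` normalized by `N_G(P)`. -/
structure LocalPrime (p : ℕ) (P D : Subgroup G) : Prop where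
  isP : IsPGroup p P
  le : D ≤ normalizer (P : Set G)
  norm : normalizer (P : Set G) ≤ normalizer (D : Set G)
  cop : (Nat.card D).Coprime p

section basic

variable [Finite G] {p : ℕ} [hp : Fact p.Prime] {P D : Subgroup G}

theorem inf_eq_bot_of_isPGroup_of_coprime {A B : Subgroup G} (hA : IsPGroup p A)
    (hB : (Nat.card B).Coprime p) : A ⊓ B = ⊥ := by
  rw [eq_bot_iff]
  intro x hx
  rw [mem_bot]
  obtain ⟨k, hk⟩ := hA ⟨x, hx.1⟩
  have hk' : x ^ p ^ k = 1 := by
    have := congrArg Subtype.val hk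
    simpa using this
  have h1 : orderOf x ∣ p ^ k := orderOf_dvd_of_pow_eq_one hk'
  have h2 : orderOf x ∣ Nat.card B := by
    have : orderOf (⟨x, hx.2⟩ : B) ∣ Nat.card B := orderOf_dvd_natCard _
    rwa [Subgroup.orderOf_mk] at this
  have h3 : (orderOf x).Coprime (orderOf x) :=
    Nat.Coprime.coprime_dvd_left h2 (Nat.Coprime.coprime_dvd_right h1 (Nat.Coprime.pow_right k hB))
  exact orderOf_eq_one_iff.mp ((Nat.coprime_self _).mp h3)

theorem LocalPrime.le_centralizer (h : LocalPrime p P D) : D ≤ centralizer (P : Set G) := by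
  rw [← Subgroup.commutator_eq_bot_iff_le_centralizer]
  rw [eq_bot_iff, ← inf_eq_bot_of_isPGroup_of_coprime h.isP h.cop]
  apply le_inf
  · rw [Subgroup.commutator_comm]
    exact Cfsg.Agent.Lib.Helper24.commutator_le_of_le_normalizer _ _ h.le
  · exact Cfsg.Agent.Lib.Helper24.commutator_le_of_le_normalizer _ _
      (le_trans le_normalizer h.norm)

/-- `D` centralizes `O_p(G)` (Thompson's `P × Q` lemma). -/
theorem LocalPrime.le_centralizer_pCore (h : LocalPrime p P D) :
    D ≤ centralizer (pCore p G : Set G) := by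
  have hRn : (pCore p G).Normal := Cfsg.Agent.Lib.Helper22.pCore_normal' p G
  have hRp : IsPGroup p (pCore p G) := Cfsg.Agent.Lib.Helper22.pCore_isPGroup' p G
  have hDP : D ≤ centralizer (P : Set G) := h.le_centralizer
  have hPD : P ≤ centralizer (D : Set G) := Subgroup.le_centralizer_iff.mp hDP
  refine Cfsg.Agent.Lib.Helper24.thompson_PxQ P D (pCore p G) h.isP h.cop hRp hPD ?_ ?_ ?_
  · exact le_trans le_top (by rw [normalizer_eq_top_iff.mpr hRn])
  · exact le_trans le_top (by rw [normalizer_eq_top_iff.mpr hRn])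
  · -- `W = O_p(G) ∩ C(P)` and `D` normalize each other and meet trivially
    set W : Subgroup G := pCore p G ⊓ centralizer (P : Set G) with hW
    have hWp : IsPGroup p W := hRp.to_le inf_le_left
    have hWD : W ≤ normalizer (D : Set G) :=
      le_trans inf_le_right (le_trans (Subgroup.centralizer_le_normalizer _) h.norm)
    have hDW : D ≤ normalizer (W : Set G) := by
      intro d hd
      rw [← cj_eq_self_iff, hW, Cfsg.Agent.Lib.Helper33.cj_inf, ← centralizer_cj]
      have h1 : cj d (pCore p G) = pCore p G := cj_eq_self_iff.mpr (by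
        rw [normalizer_eq_top_iff.mpr hRn]; exact mem_top d)
      have h2 : cj d P = P := cj_eq_self_iff.mpr (h.le hd)
      rw [h1, h2]
    rw [← Subgroup.commutator_eq_bot_iff_le_centralizer]
    rw [eq_bot_iff, ← inf_eq_bot_of_isPGroup_of_coprime hWp h.cop]
    apply le_inf
    · exact Cfsg.Agent.Lib.Helper24.commutator_le_of_le_normalizer _ _ hDW
    · rw [Subgroup.commutator_comm]
      exact Cfsg.Agent.Lib.Helper24.commutator_le_of_le_normalizer _ _ hWD

/-- One may enlarge `P` to contain `O_p(G)` (and `D` accordingly). -/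
theorem LocalPrime.enlarge (h : LocalPrime p P D) :
    ∃ P₁ D₁ : Subgroup G, LocalPrime p P₁ D₁ ∧ pCore p G ≤ P₁ ∧ D ≤ D₁ := by
  have hRn : (pCore p G).Normal := Cfsg.Agent.Lib.Helper22.pCore_normal' p G
  have hRp : IsPGroup p (pCore p G) := Cfsg.Agent.Lib.Helper22.pCore_isPGroup' p G
  have hPD : P ≤ centralizer (D : Set G) := Subgroup.le_centralizer_iff.mp h.le_centralizer
  have hRD : pCore p G ≤ centralizer (D : Set G) :=
    Subgroup.le_centralizer_iff.mp h.le_centralizer_pCore
  set P₁ : Subgroup G := P ⊔ pCore p G with hP₁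
  set C : Subgroup G := centralizer (P₁ : Set G) with hC
  have hDC : D ≤ C := Subgroup.le_centralizer_iff.mp (sup_le hPD hRD)
  have hCP : C ≤ normalizer (P : Set G) :=
    le_trans (Subgroup.centralizer_le (by exact_mod_cast (le_sup_left : P ≤ P₁)))
      (Subgroup.centralizer_le_normalizer _)
  have hP₁p : IsPGroup p P₁ := IsPGroup.to_sup_of_normal_right h.isP hRp
  refine ⟨P₁, Cfsg.Agent.Lib.Helper23.coreIn p C, ⟨hP₁p, ?_, ?_, ?_⟩, le_sup_right, ?_⟩
  · exact le_trans (Cfsg.Agent.Lib.Helper23.coreIn_le p C) (Subgroup.centralizer_le_normalizer _)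
  · intro g hg
    rw [← cj_eq_self_iff, ← Cfsg.Agent.Lib.Helper23.coreIn_cj, hC, ← centralizer_cj,
      cj_eq_self_iff.mpr hg]
  · rw [Cfsg.Agent.Lib.Helper23.card_coreIn]
    exact Cfsg.Agent.Lib.Helper30.pPrimeCore_card_coprime p
  · have hn : (D.subgroupOf C).Normal :=
      (Subgroup.normal_subgroupOf_iff_le_normalizer hDC).mpr (le_trans hCP h.norm)
    have hcard : (Nat.card (D.subgroupOf C)).Coprime p := by
      rw [Nat.card_congr (Subgroup.subgroupOfEquivOfLe hDC).toEquiv]
      exact h.cop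
    have hle := Cfsg.Agent.Lib.Helper30.le_pPrimeCore p (D.subgroupOf C) hcard
    have := Subgroup.map_mono (f := C.subtype) hle
    rw [Subgroup.subgroupOf_map_subtype, inf_eq_left.mpr hDC] at this
    exact this

end basic

section orbit

theorem cj_eq_of_le' [Finite G] {g : G} {H : Subgroup G} (h : cj g H ≤ H) : cj g H = H := by
  apply Subgroup.eq_of_le_of_card_ge h
  rw [cj_def]
  exact le_of_eq (Nat.card_congr (H.equivMapOfInjective _ (MulAut.conj g).injective).toEquiv)

/-- The join of the `P`-conjugates of `L`. -/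
def orbitSup (P L : Subgroup G) : Subgroup G := ⨆ g : P, cj (g : G) L

theorem cj_le_orbitSup {P L : Subgroup G} {g : G} (hg : g ∈ P) : cj g L ≤ orbitSup P L :=
  le_iSup (fun g : P => cj (g : G) L) ⟨g, hg⟩

theorem le_orbitSup (P L : Subgroup G) : L ≤ orbitSup P L := by
  have := cj_le_orbitSup (P := P) (L := L) (one_mem P)
  rwa [cj_one] at this

theorem cj_orbitSup (x : G) (P L : Subgroup G) :
    cj x (orbitSup P L) = ⨆ g : P, cj (x * (g : G)) L := by
  unfold orbitSup
  rw [cj_def, Subgroup.map_iSup]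
  congr 1
  funext g
  rw [← cj_def, ← cj_mul]

theorem cj_orbitSup_of_mem [Finite G] {P L : Subgroup G} {u : G} (hu : u ∈ P) :
    cj u (orbitSup P L) = orbitSup P L := by
  apply cj_eq_of_le'
  rw [cj_orbitSup]
  exact iSup_le fun g => cj_le_orbitSup (mul_mem hu g.2)

theorem le_normalizer_orbitSup [Finite G] (P L : Subgroup G) :
    P ≤ normalizer (orbitSup P L : Set G) :=
  fun _ hu => cj_eq_self_iff.mp (cj_orbitSup_of_mem hu)

theorem orbitSup_le_layer {P L : Subgroup G} (hL : IsComponent L) : orbitSup P L ≤ layer G :=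
  iSup_le fun g => le_sSup (Cfsg.Agent.Lib.Helper23.isComponent_cj (g : G) hL)

theorem layer_le_normalizer_orbitSup [Finite G] {P L : Subgroup G} (hL : IsComponent L) :
    layer G ≤ normalizer (orbitSup P L : Set G) := by
  apply sSup_le
  intro L' hL' x hx
  rw [← cj_eq_self_iff]
  apply cj_eq_of_le'
  rw [cj_orbitSup]
  apply iSup_le
  intro g
  rw [cj_mul]
  have h1 : x ∈ normalizer (cj (g : G) L : Set G) :=
    Cfsg.Agent.Lib.Helper23.component_le_normalizer
      (Cfsg.Agent.Lib.Helper23.isComponent_cj (g : G) hL) hL' hx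
  rw [cj_eq_self_iff.mpr h1]
  exact cj_le_orbitSup g.2

theorem orbitSup_isSubnormal [Finite G] {P L : Subgroup G} (hL : IsComponent L) :
    (orbitSup P L).IsSubnormal := by
  have hE : (layer G).Normal := Cfsg.Agent.Lib.Helper22.layer_normal G
  have hEs : (layer G).IsSubnormal := hE.isSubnormal
  refine Subgroup.IsSubnormal.step _ _ (orbitSup_le_layer hL) hEs ?_
  exact (Subgroup.normal_subgroupOf_iff_le_normalizer (orbitSup_le_layer hL)).mpr
    (layer_le_normalizer_orbitSup hL)

theorem orbitSup_le_normalizer [Finite G] {P L : Subgroup G} (hL : IsComponent L) :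
    orbitSup P L ≤ normalizer (L : Set G) :=
  iSup_le fun g => Cfsg.Agent.Lib.Helper23.component_le_normalizer hL
    (Cfsg.Agent.Lib.Helper23.isComponent_cj (g : G) hL)

/-- If `d` centralizes `P` and moves `L` out of its `P`-orbit, then the orbit join and its
`d`-conjugate commute. -/
theorem orbitSup_le_centralizer_cj {P L : Subgroup G} (hL : IsComponent L) {d : G}
    (hdP : d ∈ centralizer (P : Set G)) (hne : ∀ g ∈ P, cj d L ≠ cj g L) :
    orbitSup P L ≤ centralizer (cj d (orbitSup P L) : Set G) := by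
  apply iSup_le
  intro h
  rw [Subgroup.le_centralizer_iff, cj_orbitSup]
  apply iSup_le
  intro g
  rw [← Subgroup.commutator_eq_bot_iff_le_centralizer]
  apply Cfsg.Agent.Lib.Helper22.components_commute
    (Cfsg.Agent.Lib.Helper23.isComponent_cj _ hL) (Cfsg.Agent.Lib.Helper23.isComponent_cj _ hL)
  intro heq
  have hcomm : d * (g : G) = (g : G) * d := (Subgroup.mem_centralizer_iff.mp hdP (g : G) g.2).symm
  rw [hcomm, cj_mul] at heq
  apply hne ((g : G)⁻¹ * (h : G)) (mul_mem (inv_mem g.2) h.2)
  rw [cj_mul, ← heq, cj_inv_cj]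

end orbit

section main

variable [Finite G] {p : ℕ} [hp : Fact p.Prime] {P D : Subgroup G}

theorem eq_one_of_pow_of_mem_coprime {B : Subgroup G} (hB : (Nat.card B).Coprime p) {c : G}
    (hc : c ∈ B) {n : ℕ} (h : c ^ p ^ n = 1) : c = 1 := by
  have h1 : orderOf c ∣ p ^ n := orderOf_dvd_of_pow_eq_one h
  have h2 : orderOf c ∣ Nat.card B := by
    have : orderOf (⟨c, hc⟩ : B) ∣ Nat.card B := orderOf_dvd_natCard _
    rwa [Subgroup.orderOf_mk] at this
  have h3 : (orderOf c).Coprime (orderOf c) :=
    Nat.Coprime.coprime_dvd_left h2 (Nat.Coprime.coprime_dvd_right h1 (Nat.Coprime.pow_right n hB))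
  exact orderOf_eq_one_iff.mp ((Nat.coprime_self _).mp h3)

/-- (†): if `d ∈ D` moves `L` out of its `P`-orbit, every `p`-element of `K ∩ N(P)` is central
in `K`, where `K` is the join of the `P`-orbit of `L`. -/
theorem mem_centralizer_of_ppow (h : LocalPrime p P D) {L : Subgroup G} (hL : IsComponent L)
    {d : G} (hd : d ∈ D) (hne : ∀ g ∈ P, cj d L ≠ cj g L) {x : G} (hxK : x ∈ orbitSup P L)
    (hxN : x ∈ normalizer (P : Set G)) {n : ℕ} (hx : x ^ p ^ n = 1) :
    x ∈ centralizer (orbitSup P L : Set G) := by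
  have hdP : d ∈ centralizer (P : Set G) := h.le_centralizer hd
  have hKc := orbitSup_le_centralizer_cj hL hdP hne
  have hcK : cj d (orbitSup P L) ≤ centralizer (orbitSup P L : Set G) :=
    Subgroup.le_centralizer_iff.mp hKc
  have hdx : d * x * d⁻¹ ∈ cj d (orbitSup P L) := mem_cj'.mpr ⟨x, hxK, rfl⟩
  -- the commutator-like element
  have hcD : x⁻¹ * (d * x * d⁻¹) ∈ D := by
    have hxD : x⁻¹ ∈ normalizer (D : Set G) := h.norm (inv_mem hxN)
    have h1 : x⁻¹ * d * x⁻¹⁻¹ ∈ D := (Subgroup.mem_normalizer_iff.mp hxD d).mp hd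
    have h2 : x⁻¹ * (d * x * d⁻¹) = (x⁻¹ * d * x⁻¹⁻¹) * d⁻¹ := by group
    rw [h2]
    exact mul_mem h1 (inv_mem hd)
  have hcomm : Commute x⁻¹ (d * x * d⁻¹) := by
    have := Subgroup.mem_centralizer_iff.mp (hKc (inv_mem hxK)) (d * x * d⁻¹) hdx
    exact this.symm
  have hpow : (x⁻¹ * (d * x * d⁻¹)) ^ p ^ n = 1 := by
    rw [hcomm.mul_pow, conj_pow, inv_pow, hx]
    simp
  have hc1 := eq_one_of_pow_of_mem_coprime h.cop hcD hpow
  have hfix : d * x * d⁻¹ = x := by
    have := congrArg (fun y => x * y) hc1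
    simpa using this
  rw [hfix] at hdx
  exact hcK hdx

/-- Under `O_{p'}(G) = 1` and `O_p(G) ≤ P`, the situation of (†) is impossible. -/
theorem false_of_ppow_central (hO : pPrimeCore p G = ⊥) (hP : IsPGroup p P)
    (hR : pCore p G ≤ P) {L : Subgroup G} (hL : IsComponent L)
    (hdag : ∀ x ∈ orbitSup P L, x ∈ normalizer (P : Set G) → (∃ n : ℕ, x ^ p ^ n = 1) →
      x ∈ centralizer (orbitSup P L : Set G)) : False := by
  set K : Subgroup G := orbitSup P L with hK
  have hPK : P ≤ normalizer (K : Set G) := le_normalizer_orbitSup P L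
  have hKsn : K.IsSubnormal := orbitSup_isSubnormal hL
  set M : Subgroup G := K ⊔ P with hM
  have hPM : P ≤ M := le_sup_right
  have hKM : K ≤ M := le_sup_left
  -- a Sylow `p`-subgroup `T` of `M` containing `P`
  obtain ⟨T', hT'⟩ := (hP.comap_subtype (K := M)).exists_le_sylow
  set T : Subgroup G := (T' : Subgroup M).map M.subtype with hT
  have hTM : T ≤ M := Subgroup.map_subtype_le _
  have hPT : P ≤ T := by
    have := Subgroup.map_mono (f := M.subtype) hT'
    have e : (P.comap M.subtype).map M.subtype = P := by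
      have := Subgroup.subgroupOf_map_subtype P M
      rw [inf_eq_left.mpr hPM] at this
      exact this
    rwa [e] at this
  have hTp : IsPGroup p T := T'.isPGroup'.map _
  have hTi : ¬ p ∣ T.relIndex M := by
    have e : T.subgroupOf M = (T' : Subgroup M) :=
      Subgroup.comap_map_eq_self_of_injective (Subgroup.subtype_injective M) _
    rw [Subgroup.relIndex, e]
    exact T'.not_dvd_index
  -- `T = P`
  have hTP : P = T := by
    by_contra hne
    obtain ⟨y, hyT, hyN, hyP⟩ : ∃ y ∈ T, y ∈ normalizer (P : Set G) ∧ y ∉ P := by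
      have : Group.IsNilpotent ↥T := hTp.isNilpotent
      have hnc : NormalizerCondition ↥T := Group.normalizerCondition_of_isNilpotent
      have hlt : P.subgroupOf T < ⊤ := by
        rw [lt_top_iff_ne_top, Ne, Subgroup.subgroupOf_eq_top]
        intro h; exact hne (le_antisymm hPT h)
      have h2 := hnc _ hlt
      obtain ⟨u, hu1, hu2⟩ := SetLike.exists_of_lt h2
      refine ⟨u, u.2, ?_, ?_⟩
      · rw [← Subgroup.subgroupOf_normalizer_eq hPT] at hu1
        exact Subgroup.mem_subgroupOf.mp hu1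
      · intro h; exact hu2 (Subgroup.mem_subgroupOf.mpr h)
    have hyM : y ∈ (↑(K ⊔ P) : Set G) := hTM hyT
    rw [Subgroup.coe_mul_of_right_le_normalizer_left K P hPK] at hyM
    obtain ⟨k, hk, u, hu, rfl⟩ := hyM
    have hkT : k ∈ T := by
      have : k = (k * u) * u⁻¹ := by group
      rw [this]
      exact mul_mem hyT (inv_mem (hPT hu))
    have hkN : k ∈ normalizer (P : Set G) := by
      have : k = (k * u) * u⁻¹ := by group
      rw [this]
      exact mul_mem hyN (inv_mem (le_normalizer hu))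
    obtain ⟨n, hn⟩ := hTp ⟨k, hkT⟩
    have hn' : k ^ p ^ n = 1 := by
      have := congrArg Subtype.val hn
      simpa using this
    have hkC : k ∈ centralizer (K : Set G) := hdag k hk hkN ⟨n, hn'⟩
    -- `⟨k⟩` is a subnormal `p`-subgroup
    have hzK : zpowers k ≤ K := (Subgroup.zpowers_le).mpr hk
    have hzn : K ≤ normalizer (zpowers k : Set G) := by
      intro m hm
      rw [← cj_eq_self_iff]
      apply cj_eq_of_le'
      rw [cj_def, Subgroup.map_le_iff_le_comap, Subgroup.zpowers_le]
      rw [Subgroup.mem_comap]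
      have : (MulAut.conj m).toMonoidHom k = k := by
        simp only [MulEquiv.toMonoidHom_eq_coe, MonoidHom.coe_coe, MulAut.conj_apply]
        have := Subgroup.mem_centralizer_iff.mp hkC m hm
        rw [this]; group
      rw [this]
      exact Subgroup.mem_zpowers k
    have hzsn : (zpowers k).IsSubnormal :=
      Subgroup.IsSubnormal.step _ _ hzK hKsn
        ((Subgroup.normal_subgroupOf_iff_le_normalizer hzK).mpr hzn)
    have hzp : IsPGroup p (zpowers k) := hTp.to_le ((Subgroup.zpowers_le).mpr hkT)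
    have hkR : k ∈ pCore p G :=
      Cfsg.Agent.Lib.Helper46.subnormal_pGroup_le_pCore _ hzsn hzp (Subgroup.mem_zpowers k)
    exact hyP (mul_mem (hR hkR) hu)
  rw [← hTP] at hTi
  -- `P ∩ K` is a Sylow `p`-subgroup of `K`, and `P ∩ K ∩ L` one of `L`
  have hMK : M ≤ normalizer (K : Set G) := sup_le le_normalizer hPK
  have h1 : ¬ p ∣ (P ⊓ K).relIndex K :=
    Cfsg.Agent.Lib.Helper33.sylow_inf_normal hPM hP hTi hKM hMK
  have hLK : L ≤ K := le_orbitSup P L
  have hKL : K ≤ normalizer (L : Set G) := orbitSup_le_normalizer hL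
  have h2 : ¬ p ∣ ((P ⊓ K) ⊓ L).relIndex L :=
    Cfsg.Agent.Lib.Helper33.sylow_inf_normal inf_le_right (hP.to_le inf_le_left) h1 hLK hKL
  have h3 : (P ⊓ K) ⊓ L ≤ centralizer (L : Set G) := by
    intro x hx
    obtain ⟨n, hn⟩ := hP ⟨x, hx.1.1⟩
    have hn' : x ^ p ^ n = 1 := by
      have := congrArg Subtype.val hn
      simpa using this
    have := hdag x hx.1.2 (le_normalizer hx.1.1) ⟨n, hn'⟩
    exact Subgroup.centralizer_le (by exact_mod_cast hLK) this
  have h4 : ¬ p ∣ (centralizer (L : Set G)).relIndex L := fun hdvd =>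
    h2 (dvd_trans hdvd (Subgroup.relIndex_dvd_of_le_left L h3))
  -- so `L / Z(L)` is a `p'`-group, hence `L` is
  have hLq : IsQuasisimple ↥L := hL.2
  have hcen : Subgroup.center ↥L = (centralizer (L : Set G)).subgroupOf L := by
    ext z
    rw [Subgroup.mem_center_iff, Subgroup.mem_subgroupOf, Subgroup.mem_centralizer_iff]
    constructor
    · intro hz m hm
      have := hz ⟨m, hm⟩
      exact congrArg Subtype.val this
    · intro hz m
      exact Subtype.ext (hz m m.2)
  have h5 : (Subgroup.center ↥L).index.Coprime p := by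
    rw [hcen]
    exact ((Nat.Prime.coprime_iff_not_dvd hp.out).mpr h4).symm
  have hperf : commutator ↥L = ⊤ := hLq.1.commutator_eq_top
  have h6 := Cfsg.Agent.Lib.Helper54.card_coprime_of_index_center_coprime p hperf h5
  exact Cfsg.Agent.Lib.Helper54.component_not_coprime' p hO hL h6

/-- `D` normalizes every component, when `O_{p'}(G) = 1` and `O_p(G) ≤ P`. -/
theorem LocalPrime.le_normalizer_component_aux (hO : pPrimeCore p G = ⊥) (h : LocalPrime p P D)
    (hR : pCore p G ≤ P) {L : Subgroup G} (hL : IsComponent L) :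
    D ≤ normalizer (L : Set G) := by
  intro d hd
  by_cases hcase : ∃ g ∈ P, cj d L = cj g L
  · obtain ⟨g, hg, heq⟩ := hcase
    have hdP : d ∈ centralizer (P : Set G) := h.le_centralizer hd
    have hcomm : Commute g⁻¹ d := by
      have h0 : g * d = d * g := Subgroup.mem_centralizer_iff.mp hdP g hg
      have h1 : Commute g d := h0
      exact h1.inv_left
    have h1 : g⁻¹ * d ∈ normalizer (L : Set G) := by
      rw [← cj_eq_self_iff, cj_mul, heq, cj_inv_cj]
    obtain ⟨n, hn⟩ := h.isP ⟨g, hg⟩
    have hn' : g ^ p ^ n = 1 := by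
      have := congrArg Subtype.val hn
      simpa using this
    have h2 : d ^ p ^ n ∈ normalizer (L : Set G) := by
      have := pow_mem h1 (p ^ n)
      rw [hcomm.mul_pow, inv_pow, hn', inv_one, one_mul] at this
      exact this
    have hod : orderOf d ∣ Nat.card D := by
      have : orderOf (⟨d, hd⟩ : D) ∣ Nat.card D := orderOf_dvd_natCard _
      rwa [Subgroup.orderOf_mk] at this
    have hcop : (p ^ n).Coprime (orderOf d) :=
      (Nat.Coprime.coprime_dvd_left hod (Nat.Coprime.pow_right n h.cop)).symm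
    obtain ⟨m, hm⟩ := exists_pow_eq_self_of_coprime hcop
    rw [← hm]
    exact pow_mem h2 m
  · push Not at hcase
    exfalso
    exact false_of_ppow_central hO h.isP hR hL
      (fun x hxK hxN ⟨n, hn⟩ => mem_centralizer_of_ppow h hL hd hcase hxK hxN hn)

/-- **`O_{p'}` of a `p`-local normalizes every component** (`O_{p'}(G) = 1`). -/
theorem LocalPrime.le_normalizer_component (hO : pPrimeCore p G = ⊥) (h : LocalPrime p P D)
    {L : Subgroup G} (hL : IsComponent L) : D ≤ normalizer (L : Set G) := by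
  obtain ⟨P₁, D₁, h₁, hR, hDD⟩ := h.enlarge
  exact le_trans hDD (h₁.le_normalizer_component_aux hO hR hL)

end main

end Cfsg.Agent.Lib.Helper22.LocalCore
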