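import Mathlib
import Cfsg.Prelude.Def_Local
import Cfsg.Prelude.Def_Transfer
import Cfsg.Prelude.Def_LocalStructure
import Cfsg.Agent.Lib.Helper2.PResidual
import Cfsg.Agent.Lib.Helper22.FStarP

set_option autoImplicit false
set_option linter.style.haveILetI false

/-!
# Groups `H` with `O_p(H) = 1` and `O^p(H)` quasisimple
-/

namespace Cfsg.Agent.Lib.Helper22

open Subgroup
open Cfsg.Agent.Lib.Helper33
open scoped commutatorElement

universe u

section presquasi

variable {X : Type u} [Group X]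

/-- A perfect subgroup lies in every normal subgroup with `p`-group quotient. -/
theorem perfect_le_of_isPGroup_quotient [Finite X] {p : ℕ} [Fact p.Prime] {K N : Subgroup X}
    [N.Normal] (hK : ⁅K, K⁆ = K) (hN : IsPGroup p (X ⧸ N)) : K ≤ N := by
  have hsolv : Group.IsSolvable (X ⧸ N) := by
    have := hN.isNilpotent
    infer_instance
  by_contra hne
  have hne' : K.map (QuotientGroup.mk' N) ≠ ⊥ := by
    intro h
    apply hne
    rw [← QuotientGroup.ker_mk' N]
    exact (Subgroup.map_eq_bot_iff _).mp h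
  have h1 := Group.IsSolvable.commutator_lt_of_ne_bot hne'
  rw [← map_commutator, hK] at h1
  exact lt_irrefl _ h1

/-- A quasisimple subgroup `K` normalized but not centralized by `Y` satisfies `[K, Y] = K`. -/
theorem quasisimple_commutator_eq_self_of_not_le_centralizer {K Y : Subgroup X}
    (hK : Cfsg.IsQuasisimple ↥K) (hYK : Y ≤ normalizer (K : Set X))
    (hKY : ¬ Y ≤ centralizer (K : Set X)) : ⁅K, Y⁆ = K := by
  have hperf : ⁅K, K⁆ = K := quasisimple_commutator_self hK
  have hNK : ⁅K, Y⁆ ≤ K := Cfsg.Agent.Lib.Helper24.commutator_le_of_le_normalizer K Y hYK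
  have hnorm : K ≤ normalizer ((⁅K, Y⁆ : Subgroup X) : Set X) :=
    Cfsg.Agent.Lib.Helper24.le_normalizer_commutator_left K Y
  rcases quasisimple_normal_eq_or_commutator_eq_bot hK hNK hnorm with h1 | h1
  · exact h1
  · exfalso
    apply hKY
    have h2 : ⁅⁅Y, K⁆, K⁆ = ⊥ := by rw [commutator_comm Y K]; exact h1
    have h3 : ⁅⁅K, K⁆, Y⁆ = ⊥ := commutator_commutator_eq_bot_of_rotate h1 h2
    rw [hperf, commutator_comm] at h3
    exact commutator_eq_bot_iff_le_centralizer.mp h3

/-- A normal subgroup `C` not containing the normal quasisimple subgroup `R` centralizes `R`. -/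
theorem le_centralizer_of_normal_of_not_le {R C : Subgroup X} [hR : R.Normal] [hC : C.Normal]
    (hq : Cfsg.IsQuasisimple ↥R) (hRC : ¬ R ≤ C) : C ≤ centralizer (R : Set X) := by
  have hperf : ⁅R, R⁆ = R := quasisimple_commutator_self hq
  have hn : R ≤ normalizer ((C ⊓ R : Subgroup X) : Set X) := by
    have : (C ⊓ R).Normal := Subgroup.normal_inf_normal _ _
    rw [normalizer_eq_top]
    exact le_top
  rcases quasisimple_normal_eq_or_commutator_eq_bot hq (inf_le_right : C ⊓ R ≤ R) hn with h | h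
  · exfalso
    apply hRC
    rw [← h]
    exact inf_le_left
  · have h1 : ⁅⁅C, R⁆, R⁆ = ⊥ := by
      rw [eq_bot_iff, ← h]
      exact commutator_mono (commutator_le_inf C R) le_rfl
    have h2 : ⁅⁅R, C⁆, R⁆ = ⊥ := by rw [commutator_comm R C]; exact h1
    have h3 : ⁅⁅R, R⁆, C⁆ = ⊥ := commutator_commutator_eq_bot_of_rotate h2 h1
    rw [hperf, commutator_comm] at h3
    exact commutator_eq_bot_iff_le_centralizer.mp h3

variable [Finite X] {p : ℕ} [Fact p.Prime]

/-- If `O_p(X) = 1` and `O^p(X)` is quasisimple then `O^p(X) = F*(X)`. -/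
theorem pResidual_eq_generalizedFitting (hO : Cfsg.pCore p X = ⊥)
    (hq : Cfsg.IsQuasisimple ↥(Cfsg.pResidual p X)) :
    Cfsg.pResidual p X = Cfsg.generalizedFittingSubgroup X := by
  have hRn : (Cfsg.pResidual p X).Normal := Cfsg.Agent.Lib.Helper2.pResidual_normal p
  have hquot : IsPGroup p (X ⧸ Cfsg.pResidual p X) :=
    Cfsg.Agent.Lib.Helper2.isPGroup_quotient_pResidual p
  apply le_antisymm
  · have hc : Cfsg.IsComponent (Cfsg.pResidual p X) := ⟨hRn.isSubnormal, hq⟩
    exact (component_le_layer hc).trans (layer_le_generalizedFitting X)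
  · unfold Cfsg.generalizedFittingSubgroup
    apply sup_le
    · apply sSup_le
      intro K hK
      exact perfect_le_of_isPGroup_quotient (component_perfect hK) hquot
    · intro f hf
      apply Cfsg.Agent.Lib.Helper2.mem_pResidual_of_coprime
      exact Nat.Coprime.coprime_dvd_left (Subgroup.orderOf_dvd_natCard _ hf)
        (fitting_card_coprime_of_pCore_eq_bot p hO)

/-- If `O_p(X) = 1` and `O^p(X)` is quasisimple then every nontrivial `p`-subgroup `Y` satisfies
`[O^p(X), Y] = O^p(X)`. -/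
theorem commutator_pResidual_eq (hO : Cfsg.pCore p X = ⊥)
    (hq : Cfsg.IsQuasisimple ↥(Cfsg.pResidual p X)) {Y : Subgroup X} (hY : IsPGroup p ↥Y)
    (hne : Y ≠ ⊥) : ⁅Cfsg.pResidual p X, Y⁆ = Cfsg.pResidual p X := by
  have hRn : (Cfsg.pResidual p X).Normal := Cfsg.Agent.Lib.Helper2.pResidual_normal p
  apply quasisimple_commutator_eq_self_of_not_le_centralizer hq
  · rw [normalizer_eq_top]; exact le_top
  · intro hc
    apply hne
    rw [pResidual_eq_generalizedFitting hO hq] at hc
    exact eq_bot_of_isPGroup_of_le_centralizer_generalizedFitting hO hY hc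

/-- `[R, Y]` lies in the join of the `R`-conjugates of `Y`. -/
theorem commutator_le_iSup_conj (R Y : Subgroup X) :
    ⁅R, Y⁆ ≤ ⨆ k : ↥R, Y.map (MulAut.conj (k : X)).toMonoidHom := by
  rw [commutator_le]
  intro r hr y hy
  have h1 : r * y * r⁻¹ ∈ ⨆ k : ↥R, Y.map (MulAut.conj (k : X)).toMonoidHom :=
    (le_iSup (fun k : ↥R => Y.map (MulAut.conj (k : X)).toMonoidHom) ⟨r, hr⟩) ⟨y, hy, rfl⟩
  have h2 : y⁻¹ ∈ ⨆ k : ↥R, Y.map (MulAut.conj (k : X)).toMonoidHom :=
    (le_iSup (fun k : ↥R => Y.map (MulAut.conj (k : X)).toMonoidHom) ⟨1, R.one_mem⟩)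
      ⟨y⁻¹, Y.inv_mem hy, by simp⟩
  rw [commutatorElement_def]
  exact mul_mem h1 h2

/-- If `O_p(X) = 1` and `O^p(X)` is quasisimple, a normal subgroup not containing `O^p(X)` is a
`p'`-group. -/
theorem card_coprime_of_normal_of_not_pResidual_le (hO : Cfsg.pCore p X = ⊥)
    (hq : Cfsg.IsQuasisimple ↥(Cfsg.pResidual p X)) {C : Subgroup X} (hC : C.Normal)
    (hRC : ¬ Cfsg.pResidual p X ≤ C) : (Nat.card ↥C).Coprime p := by
  have hRn : (Cfsg.pResidual p X).Normal := Cfsg.Agent.Lib.Helper2.pResidual_normal p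
  have h1 : C ≤ centralizer (Cfsg.pResidual p X : Set X) :=
    le_centralizer_of_normal_of_not_le hq hRC
  rw [pResidual_eq_generalizedFitting hO hq] at h1
  have h2 : C ≤ Cfsg.fittingSubgroup X :=
    (le_inf (h1.trans (centralizer_generalizedFitting_le X)) h1).trans
      generalizedFitting_inf_centralizer_le_fitting
  exact Nat.Coprime.coprime_dvd_left (Subgroup.card_dvd_of_le h2)
    (fitting_card_coprime_of_pCore_eq_bot p hO)

/-- A finite group of order prime to `p` is `p`-closed. -/
theorem isPClosed_of_card_coprime {N : Type u} [Group N] [Finite N]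
    (h : (Nat.card N).Coprime p) : Cfsg.IsPClosed p N := by
  intro P
  have : (P : Subgroup N) = ⊥ := by
    rw [eq_bot_iff]
    intro x hx
    rw [mem_bot]
    have h4 : (orderOf (⟨x, hx⟩ : ↥(P : Subgroup N))).Coprime p := by
      rw [Subgroup.orderOf_mk]
      exact Nat.Coprime.coprime_dvd_left (orderOf_dvd_natCard x) h
    have := eq_one_of_coprime_of_isPGroup' P.isPGroup' ⟨x, hx⟩ h4
    exact congrArg Subtype.val this
  rw [this]
  infer_instance

/-- If `O_p(X) = 1`, `p ∣ |X|` and `O^p(X)` is quasisimple then `X` is `p`-irreducible. -/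
theorem isPIrreducible_of_quasisimple_pResidual (hp : p ∣ Nat.card X) (hO : Cfsg.pCore p X = ⊥)
    (hq : Cfsg.IsQuasisimple ↥(Cfsg.pResidual p X)) : Cfsg.IsPIrreducible p X := by
  refine ⟨?_, ?_⟩
  · intro hcl
    obtain ⟨P⟩ : Nonempty (Sylow p X) := inferInstance
    have hPn := hcl P
    have h1 : (P : Subgroup X) ≤ Cfsg.pCore p X := le_pCore' hPn P.isPGroup'
    rw [hO, le_bot_iff] at h1
    exact P.ne_bot_of_dvd_card hp h1
  · intro N hN hcl
    by_contra hRN
    exact hcl (isPClosed_of_card_coprime (card_coprime_of_normal_of_not_pResidual_le hO hq hN hRN))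

end presquasi

end Cfsg.Agent.Lib.Helper22
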