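import Mathlib
import Cfsg.Agent.Lib.Helper22.LocalCore
import Cfsg.Agent.Lib.Helper23.PComponentQuot
import Cfsg.Agent.Lib.Helper54.LBalance
import Cfsg.Agent.Lib.Helper91.InnerAut
import Cfsg.Agent.Lib.Helper22.PResQuasi
import Cfsg.Agent.S2020

/-!
# Weak `L_{p'}`-balance and `L_{p'}`-balance under the Schreier property

* `pComponent_le_normalizer_component`: if `O_{p'}(G) = 1`, every `p`-component of `N_G(P)`
  (`P` a `p`-subgroup) normalizes every component of `G`.
* `pComponent_le_layer`: if moreover the components of `G` have the Schreier property, every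
  `p`-component of `N_G(P)` lies in `E(G)`.
-/

set_option autoImplicit false

namespace Cfsg.Agent.Lib.Helper22.LBal

open Subgroup Cfsg
open scoped commutatorElement
open Cfsg.Agent.Lib.Helper33 (cj cj_def mem_cj mem_cj' cj_mul cj_one cj_eq_self_iff cj_mono
  centralizer_cj cj_inv_cj cj_cj_inv)
open Cfsg.Agent.Lib.Helper23 (pUp pUp_le mem_pUp_of_pow coreIn coreIn_le coreIn_cj card_coreIn)
open Cfsg.Agent.Lib.Helper22.LocalCore

section helpers

variable {G : Type*} [Group G]

/-- `p`-elements of `S ⊔ D` lie in `S`, when the `p'`-group `D` normalizes `S`. -/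
theorem mem_of_mem_sup_of_ppow [Finite G] {p : ℕ} [Fact p.Prime] {S D : Subgroup G}
    (hDS : D ≤ normalizer (S : Set G)) (hD : (Nat.card D).Coprime p) {g : G} (hg : g ∈ S ⊔ D)
    {n : ℕ} (hgn : g ^ p ^ n = 1) : g ∈ S := by
  have hg' : g ∈ (↑(S ⊔ D) : Set G) := hg
  rw [Subgroup.coe_mul_of_right_le_normalizer_left S D hDS] at hg'
  obtain ⟨s, hs, d, hd, rfl⟩ := hg'
  set H : Subgroup G := S ⊔ D with hH
  have hSH : S ≤ H := le_sup_left
  have hDH : D ≤ H := le_sup_right
  have hn : (S.subgroupOf H).Normal :=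
    (Subgroup.normal_subgroupOf_iff_le_normalizer hSH).mpr (sup_le le_normalizer hDS)
  set q : ↥H ⧸ S.subgroupOf H := QuotientGroup.mk ⟨s * d, hg⟩ with hq
  have hq1 : q ^ p ^ n = 1 := by
    rw [hq, ← QuotientGroup.mk_pow]
    have : (⟨s * d, hg⟩ : ↥H) ^ p ^ n = 1 := Subtype.ext (by simpa using hgn)
    rw [this]; rfl
  have hqd : q = QuotientGroup.mk ⟨d, hDH hd⟩ := by
    rw [hq, QuotientGroup.eq]
    rw [Subgroup.mem_subgroupOf]
    have : ((⟨s * d, hg⟩ : ↥H)⁻¹ * ⟨d, hDH hd⟩ : ↥H).1 = d⁻¹ * s⁻¹ * d := by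
      simp
    rw [this]
    have h1 : d⁻¹ ∈ normalizer (S : Set G) := hDS (inv_mem hd)
    have := (Subgroup.mem_normalizer_iff.mp h1 s⁻¹).mp (inv_mem hs)
    simpa using this
  have hq2 : q ^ Nat.card D = 1 := by
    rw [hqd, ← QuotientGroup.mk_pow]
    have : (⟨d, hDH hd⟩ : ↥H) ^ Nat.card D = 1 := by
      apply Subtype.ext
      have h2 : (⟨d, hd⟩ : ↥D) ^ Nat.card D = 1 := pow_card_eq_one'
      have h3 := congrArg Subtype.val h2
      simpa only [Subgroup.coe_pow, Subgroup.coe_one] using h3
    rw [this]; rfl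
  have h1 : orderOf q ∣ p ^ n := orderOf_dvd_of_pow_eq_one hq1
  have h2 : orderOf q ∣ Nat.card D := orderOf_dvd_of_pow_eq_one hq2
  have h3 : (orderOf q).Coprime (orderOf q) :=
    Nat.Coprime.coprime_dvd_left h2 (Nat.Coprime.coprime_dvd_right h1 (Nat.Coprime.pow_right n hD))
  have hq0 : q = 1 := orderOf_eq_one_iff.mp ((Nat.coprime_self _).mp h3)
  have := (QuotientGroup.eq_one_iff _).mp hq0
  exact Subgroup.mem_subgroupOf.mp this

/-- A subgroup generated by `p`-elements inside `S ⊔ D` lies in `S`. -/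
theorem le_of_le_sup_of_pUp [Finite G] {p : ℕ} [Fact p.Prime] {J S D : Subgroup G}
    (hDS : D ≤ normalizer (S : Set G)) (hD : (Nat.card D).Coprime p) (hJ : pUp p J = J)
    (hle : J ≤ S ⊔ D) : J ≤ S := by
  rw [← hJ]
  unfold pUp
  rw [Subgroup.closure_le]
  rintro g ⟨hgJ, n, hn⟩
  exact mem_of_mem_sup_of_ppow hDS hD (hle hgJ) hn

theorem pUp_map_subtype (p : ℕ) (H : Subgroup G) (J₀ : Subgroup ↥H) :
    pUp p (J₀.map H.subtype) = (pUp p J₀).map H.subtype := by
  unfold pUp
  rw [MonoidHom.map_closure]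
  congr 1
  ext g
  constructor
  · rintro ⟨⟨y, hy, rfl⟩, n, hn⟩
    refine ⟨y, ⟨hy, n, ?_⟩, rfl⟩
    apply Subtype.ext
    simpa using hn
  · rintro ⟨y, ⟨hy, n, hn⟩, rfl⟩
    refine ⟨⟨y, hy, rfl⟩, n, ?_⟩
    have := congrArg Subtype.val hn
    simpa using this

theorem pUp_map_le (p : ℕ) {G' : Type*} [Group G'] (f : G →* G') (J : Subgroup G) :
    (pUp p J).map f ≤ pUp p (J.map f) := by
  unfold pUp
  rw [MonoidHom.map_closure]
  apply Subgroup.closure_mono
  rintro _ ⟨y, ⟨hy, n, hn⟩, rfl⟩
  exact ⟨⟨y, hy, rfl⟩, n, by rw [← map_pow, hn, map_one]⟩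

end helpers

section intrinsic

variable {H : Type*} [Group H] [Finite H] {p : ℕ} [hp : Fact p.Prime]

/-- A `p`-component is generated by its `p`-elements. -/
theorem pUp_eq_of_isPComponent {J₀ : Subgroup H} (hJ : IsPComponent p J₀) : pUp p J₀ = J₀ := by
  apply le_antisymm (pUp_le p J₀)
  have h1 := Cfsg.Agent.Lib.Helper23.eq_pUp_of_isPComponent p hJ
  set Y := (J₀.map (QuotientGroup.mk' (pPrimeCore p H))).comap (QuotientGroup.mk' (pPrimeCore p H))
    with hY
  have h2 : pUp p Y ≤ pUp p J₀ := by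
    conv_lhs => unfold pUp
    rw [Subgroup.closure_le]
    rintro g ⟨hgY, n, hn⟩
    have hgJ : g ∈ J₀ := by
      rw [h1]
      exact mem_pUp_of_pow p hgY hn
    exact mem_pUp_of_pow p hgJ hn
  calc J₀ = pUp p Y := h1
    _ ≤ pUp p J₀ := h2

/-- Intrinsic criterion for being a `p`-component. -/
theorem isPComponent_of_intrinsic {J₀ : Subgroup H} (hsn : J₀.IsSubnormal)
    (hqs : IsQuasisimple (↥J₀ ⧸ pPrimeCore p ↥J₀)) (hgen : pUp p J₀ = J₀) :
    IsPComponent p J₀ := by
  have hcore : coreIn p J₀ ≤ pPrimeCore p H := by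
    apply Cfsg.Agent.Lib.Helper23.subnormal_coprime_le_pPrimeCore p
    · have h1 : (pPrimeCore p ↥J₀).IsSubnormal :=
        (inferInstance : (pPrimeCore p ↥J₀).Normal).isSubnormal
      exact h1.trans' hsn
    · rw [card_coreIn]
      exact Cfsg.Agent.Lib.Helper30.pPrimeCore_card_coprime p
  refine ⟨hsn, ⟨hsn.map (QuotientGroup.mk'_surjective _), ?_⟩, ?_⟩
  · -- quasisimple image
    set g : ↥J₀ →* ↥(J₀.map (QuotientGroup.mk' (pPrimeCore p H))) :=
      (QuotientGroup.mk' (pPrimeCore p H)).subgroupMap J₀ with hg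
    have hgs : Function.Surjective g := MonoidHom.subgroupMap_surjective _ _
    have hker : pPrimeCore p ↥J₀ ≤ g.ker := by
      intro x hx
      rw [MonoidHom.mem_ker]
      apply Subtype.ext
      have hx' : (x : H) ∈ coreIn p J₀ := Subgroup.mem_map.mpr ⟨x, hx, rfl⟩
      have := hcore hx'
      simpa [hg] using (QuotientGroup.eq_one_iff (x : H)).mpr this
    set f := QuotientGroup.lift (pPrimeCore p ↥J₀) g hker with hf
    have hfs : Function.Surjective f := QuotientGroup.lift_surjective_of_surjective _ _ hgs _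
    have hnt : Nontrivial ↥(J₀.map (QuotientGroup.mk' (pPrimeCore p H))) := by
      rw [← not_subsingleton_iff_nontrivial]
      intro hs
      have hbot : J₀.map (QuotientGroup.mk' (pPrimeCore p H)) = ⊥ := by
        rw [eq_bot_iff]
        intro x hx
        have := Subsingleton.elim (⟨x, hx⟩ : ↥(J₀.map (QuotientGroup.mk' (pPrimeCore p H)))) 1
        rw [Subgroup.mem_bot]
        exact congrArg Subtype.val this
      have hle : J₀ ≤ pPrimeCore p H := by
        have := (Subgroup.map_eq_bot_iff _).mp hbot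
        rwa [QuotientGroup.ker_mk'] at this
      have hcop : (Nat.card J₀).Coprime p :=
        Nat.Coprime.coprime_dvd_left (Subgroup.card_dvd_of_le hle)
          (Cfsg.Agent.Lib.Helper30.pPrimeCore_card_coprime p)
      have htop : pPrimeCore p ↥J₀ = ⊤ := by
        rw [eq_top_iff]
        apply Cfsg.Agent.Lib.Helper30.le_pPrimeCore p (⊤ : Subgroup ↥J₀)
        rw [Subgroup.card_top]
        exact hcop
      have hnt := Cfsg.Agent.Lib.Helper21.quasisimple_nontrivial hqs
      have hss : Subsingleton (↥J₀ ⧸ pPrimeCore p ↥J₀) := by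
        rw [htop]
        exact QuotientGroup.subsingleton_quotient_top
      exact not_subsingleton _ hss
    exact Cfsg.Agent.S2020.isQuasisimple_of_surjective hqs f hfs
  · intro H' hH' hle himg
    have := Cfsg.Agent.Lib.Helper23.eq_pUp_of_subnormal p J₀ H' hH' (by rw [hgen]; exact hle)
      (by rw [hgen, himg])
    rw [this, hgen]

end intrinsic

section intype

variable {H : Type*} [Group H] [Finite H] {p : ℕ} [hp : Fact p.Prime]

/-- A `p`-component and a normal subgroup: containment modulo `O_{p'}` or commuting modulo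
`O_{p'}`. -/
theorem pComponent_dichotomy {J₀ : Subgroup H} (hJ : IsPComponent p J₀) (S₀ : Subgroup H)
    [hS : S₀.Normal] : J₀ ≤ S₀ ⊔ pPrimeCore p H ∨ ⁅S₀, J₀⁆ ≤ pPrimeCore p H := by
  have hSn : (S₀.map (QuotientGroup.mk' (pPrimeCore p H))).Normal :=
    hS.map _ (QuotientGroup.mk'_surjective _)
  rcases Cfsg.Agent.Lib.Helper21.component_le_or_commutes_normal hJ.2.1 hSn with h | h
  · left
    have h1 : J₀ ≤ (S₀.map (QuotientGroup.mk' (pPrimeCore p H))).comap
        (QuotientGroup.mk' (pPrimeCore p H)) :=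
      le_trans (Subgroup.le_comap_map _ _) (Subgroup.comap_mono h)
    rw [Subgroup.comap_map_eq, QuotientGroup.ker_mk'] at h1
    exact h1
  · right
    rw [← Subgroup.map_commutator, Subgroup.map_eq_bot_iff, QuotientGroup.ker_mk'] at h
    exact h

/-- A `p`-component centralizes every normal `p`-subgroup modulo `O_{p'}`. -/
theorem pComponent_commutator_pGroup_le {J₀ : Subgroup H} (hJ : IsPComponent p J₀)
    (T₀ : Subgroup H) [hT : T₀.Normal] (hTp : IsPGroup p T₀) : ⁅J₀, T₀⁆ ≤ pPrimeCore p H := by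
  have hTn : (T₀.map (QuotientGroup.mk' (pPrimeCore p H))).Normal :=
    hT.map _ (QuotientGroup.mk'_surjective _)
  have hTp' : IsPGroup p (T₀.map (QuotientGroup.mk' (pPrimeCore p H))) := hTp.map _
  have hsolv : Group.IsSolvable ↥(T₀.map (QuotientGroup.mk' (pPrimeCore p H))) := by
    have := hTp'.isNilpotent
    infer_instance
  have h := Cfsg.Agent.Lib.Helper21.component_commutes_solvable hJ.2.1 hsolv
    (by rw [Subgroup.normalizer_eq_top_iff.mpr hTn]; exact le_top)
  rw [← Subgroup.map_commutator, Subgroup.map_eq_bot_iff, QuotientGroup.ker_mk'] at h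
  exact h

end intype

section loc

variable {G : Type*} [Group G] [Finite G] {p : ℕ} [hp : Fact p.Prime]

theorem localPrime_coreIn {P : Subgroup G} (hP : IsPGroup p P) :
    LocalPrime p P (coreIn p (normalizer (P : Set G))) := by
  refine ⟨hP, coreIn_le _ _, ?_, ?_⟩
  · intro g hg
    rw [← cj_eq_self_iff, ← coreIn_cj, Cfsg.Agent.Lib.Helper33.cj_eq_self_of_mem hg]
  · rw [card_coreIn]
    exact Cfsg.Agent.Lib.Helper30.pPrimeCore_card_coprime p

variable {P : Subgroup G} {J₀ : Subgroup ↥(normalizer (P : Set G))}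

theorem pComp_map_le (J₀ : Subgroup ↥(normalizer (P : Set G))) :
    J₀.map (normalizer (P : Set G)).subtype ≤ normalizer (P : Set G) :=
  Subgroup.map_subtype_le _

theorem pComp_perfect (hJ : IsPComponent p J₀) :
    ⁅J₀.map (normalizer (P : Set G)).subtype, J₀.map (normalizer (P : Set G)).subtype⁆ =
      J₀.map (normalizer (P : Set G)).subtype := by
  rw [← Subgroup.map_commutator, Cfsg.Agent.Lib.Helper23.isPComponent_commutator_eq p hJ]

theorem pComp_gen (hJ : IsPComponent p J₀) :
    pUp p (J₀.map (normalizer (P : Set G)).subtype) = J₀.map (normalizer (P : Set G)).subtype := by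
  rw [pUp_map_subtype, pUp_eq_of_isPComponent hJ]

/-- A `p`-component of `N_G(P)` centralizes `P`. -/
theorem pComp_le_centralizer (hP : IsPGroup p P) (hJ : IsPComponent p J₀) :
    J₀.map (normalizer (P : Set G)).subtype ≤ centralizer (P : Set G) := by
  have hPn : (P.subgroupOf (normalizer (P : Set G))).Normal := Subgroup.normal_in_normalizer
  have hPp : IsPGroup p (P.subgroupOf (normalizer (P : Set G))) := hP.comap_subtype
  have h1 : ⁅J₀, P.subgroupOf (normalizer (P : Set G))⁆ ≤ pPrimeCore p ↥(normalizer (P : Set G)) :=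
    pComponent_commutator_pGroup_le hJ _ hPp
  have h2 : ⁅J₀, P.subgroupOf (normalizer (P : Set G))⁆ ≤ P.subgroupOf (normalizer (P : Set G)) :=
    Subgroup.commutator_le_right _ _
  have h3 : P.subgroupOf (normalizer (P : Set G)) ⊓ pPrimeCore p ↥(normalizer (P : Set G)) = ⊥ :=
    inf_eq_bot_of_isPGroup_of_coprime hPp (Cfsg.Agent.Lib.Helper30.pPrimeCore_card_coprime p)
  have h4 : ⁅J₀, P.subgroupOf (normalizer (P : Set G))⁆ = ⊥ := by
    rw [eq_bot_iff, ← h3]
    exact le_inf h2 h1
  rw [Subgroup.commutator_eq_bot_iff_le_centralizer] at h4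
  rintro _ ⟨j, hj, rfl⟩
  rw [Subgroup.mem_centralizer_iff]
  intro u hu
  have huN : u ∈ normalizer (P : Set G) := le_normalizer hu
  have h5 := Subgroup.mem_centralizer_iff.mp (h4 hj) ⟨u, huN⟩ (Subgroup.mem_subgroupOf.mpr hu)
  have h6 := congrArg Subtype.val h5
  simpa using h6

/-- A `p`-component of `N_G(P)` centralizes `O_p(G)`. -/
theorem pComp_le_centralizer_pCore (hP : IsPGroup p P) (hJ : IsPComponent p J₀) :
    J₀.map (normalizer (P : Set G)).subtype ≤ centralizer (pCore p G : Set G) := by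
  refine le_trans (Subgroup.map_mono ?_)
    (Cfsg.Agent.Lib.Helper54.comap_layer_normalizer_le_centralizer_pCore p P hP)
  rw [← Subgroup.map_le_iff_le_comap]
  exact le_sSup hJ.2.1

/-- Dichotomy for a `p`-component `J` of `N = N_G(P)` and a normal subgroup `S` of `N`. -/
theorem pComp_dichotomy (hJ : IsPComponent p J₀) {S : Subgroup G}
    (hSN : S ≤ normalizer (P : Set G)) (hNS : normalizer (P : Set G) ≤ normalizer (S : Set G)) :
    J₀.map (normalizer (P : Set G)).subtype ≤ S ⊔ coreIn p (normalizer (P : Set G)) ∨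
      ⁅S, J₀.map (normalizer (P : Set G)).subtype⁆ ≤ coreIn p (normalizer (P : Set G)) := by
  set N := normalizer (P : Set G) with hN
  have hSn : (S.subgroupOf N).Normal := (Subgroup.normal_subgroupOf_iff_le_normalizer hSN).mpr hNS
  have hmap : (S.subgroupOf N).map N.subtype = S := by
    rw [Subgroup.subgroupOf_map_subtype, inf_eq_left.mpr hSN]
  rcases pComponent_dichotomy hJ (S.subgroupOf N) with h | h
  · left
    have := Subgroup.map_mono (f := N.subtype) h
    rwa [Subgroup.map_sup, hmap] at this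
  · right
    have := Subgroup.map_mono (f := N.subtype) h
    rwa [Subgroup.map_commutator, hmap] at this

end loc

section transfer

variable {G : Type*} [Group G]

/-- Subnormality of `A` in `B` can be tested inside any `M ≥ B`. -/
theorem isSubnormal_subgroupOf_subgroupOf_iff {A B M : Subgroup G} (hBM : B ≤ M) :
    ((A.subgroupOf M).subgroupOf (B.subgroupOf M)).IsSubnormal ↔ (A.subgroupOf B).IsSubnormal := by
  set e : ↥(B.subgroupOf M) ≃* ↥B := Subgroup.subgroupOfEquivOfLe hBM with he
  have hcomap : (A.subgroupOf M).subgroupOf (B.subgroupOf M) =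
      (A.subgroupOf B).comap e.toMonoidHom := by
    ext x
    simp only [Subgroup.mem_subgroupOf, Subgroup.mem_comap]
    rfl
  constructor
  · intro h
    have h1 := h.map (f := e.toMonoidHom) e.surjective
    rw [hcomap, Subgroup.map_comap_eq_self_of_surjective e.surjective] at h1
    exact h1
  · intro h
    rw [hcomap]
    exact h.comap _

theorem pUp_subgroupOf_eq {p : ℕ} {A M : Subgroup G} (hAM : A ≤ M) (hA : pUp p A = A) :
    pUp p (A.subgroupOf M) = A.subgroupOf M := by
  apply Subgroup.map_injective (Subgroup.subtype_injective M)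
  rw [← pUp_map_subtype]
  have : (A.subgroupOf M).map M.subtype = A := by
    rw [Subgroup.subgroupOf_map_subtype, inf_eq_left.mpr hAM]
  rw [this, hA]

variable [Finite G] {p : ℕ} [hp : Fact p.Prime]

/-- Transfer of a `p`-component `J` of `N_G(P)` to `N_G(P₁)` when `P ≤ P₁` and `J`
centralizes `P₁`. -/
theorem pComp_transfer {P P₁ : Subgroup G} {J₀ : Subgroup ↥(normalizer (P : Set G))}
    (hJ : IsPComponent p J₀) (hPP : P ≤ P₁)
    (hJC : J₀.map (normalizer (P : Set G)).subtype ≤ centralizer (P₁ : Set G)) :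
    IsPComponent p ((J₀.map (normalizer (P : Set G)).subtype).subgroupOf
      (normalizer (P₁ : Set G))) := by
  set J : Subgroup G := J₀.map (normalizer (P : Set G)).subtype with hJdef
  have hJ₀ : J₀ = J.subgroupOf (normalizer (P : Set G)) := by
    rw [hJdef]
    exact (Subgroup.comap_map_eq_self_of_injective (Subgroup.subtype_injective _) _).symm
  have hC₁N₁ : centralizer (P₁ : Set G) ≤ normalizer (P₁ : Set G) :=
    Subgroup.centralizer_le_normalizer _
  have hC₁N : centralizer (P₁ : Set G) ≤ normalizer (P : Set G) :=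
    le_trans (Subgroup.centralizer_le (by exact_mod_cast hPP)) (Subgroup.centralizer_le_normalizer _)
  have hJN₁ : J ≤ normalizer (P₁ : Set G) := le_trans hJC hC₁N₁
  apply isPComponent_of_intrinsic
  · -- subnormal
    have hCn : ((centralizer (P₁ : Set G)).subgroupOf (normalizer (P₁ : Set G))).Normal := by
      rw [Subgroup.normal_subgroupOf_iff_le_normalizer hC₁N₁]
      intro g hg
      rw [← cj_eq_self_iff, ← centralizer_cj, cj_eq_self_iff.mpr hg]
    have h1 : ((J.subgroupOf (normalizer (P : Set G))).subgroupOf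
        ((centralizer (P₁ : Set G)).subgroupOf (normalizer (P : Set G)))).IsSubnormal := by
      rw [← hJ₀]
      exact hJ.1.subgroupOf
    have h2 : (J.subgroupOf (centralizer (P₁ : Set G))).IsSubnormal :=
      (isSubnormal_subgroupOf_subgroupOf_iff hC₁N).mp h1
    have h3 := (isSubnormal_subgroupOf_subgroupOf_iff (A := J) hC₁N₁).mpr h2
    refine Subgroup.IsSubnormal.trans ?_ h3 hCn.isSubnormal
    intro x hx
    exact Subgroup.mem_subgroupOf.mpr (hJC (Subgroup.mem_subgroupOf.mp hx))
  · -- quasisimple quotient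
    have hqs := Cfsg.Agent.Lib.Helper23.isQuasisimple_quotient_pPrimeCore p hJ
    set e₀ : ↥J₀ ≃* ↥J := J₀.equivMapOfInjective _ (Subgroup.subtype_injective _) with he₀
    set e₁ : ↥(J.subgroupOf (normalizer (P₁ : Set G))) ≃* ↥J :=
      Subgroup.subgroupOfEquivOfLe hJN₁ with he₁
    set e : ↥J₀ ≃* ↥(J.subgroupOf (normalizer (P₁ : Set G))) := e₀.trans e₁.symm with he
    have hmap : (pPrimeCore p ↥J₀).map e.toMonoidHom =
        pPrimeCore p ↥(J.subgroupOf (normalizer (P₁ : Set G))) :=
      Cfsg.Agent.Lib.Helper23.pPrimeCore_map_equiv p e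
    exact Cfsg.Agent.Lib.Helper21.quasisimple_of_mulEquiv
      (QuotientGroup.congr (pPrimeCore p ↥J₀) _ e hmap) hqs
  · exact pUp_subgroupOf_eq hJN₁ (pComp_gen hJ)

end transfer

section claimB

variable {G : Type*} [Group G] [Finite G] {p : ℕ} [hp : Fact p.Prime]

/-- (†), general form: if `d` centralizes `P`, moves `L` out of its `P`-orbit, and
`x⁻¹ (d x d⁻¹)` lies in a `p'`-group `B` for a `p`-element `x` of the orbit join `K`,
then `x` is central in `K`. -/
theorem mem_centralizer_of_ppow' {B P L : Subgroup G} (hB : (Nat.card B).Coprime p)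
    (hL : IsComponent L) {d : G} (hdP : d ∈ centralizer (P : Set G))
    (hne : ∀ g ∈ P, cj d L ≠ cj g L) {x : G} (hxK : x ∈ orbitSup P L)
    (hcB : x⁻¹ * (d * x * d⁻¹) ∈ B) {n : ℕ} (hx : x ^ p ^ n = 1) :
    x ∈ centralizer (orbitSup P L : Set G) := by
  have hKc := orbitSup_le_centralizer_cj hL hdP hne
  have hcK : cj d (orbitSup P L) ≤ centralizer (orbitSup P L : Set G) :=
    Subgroup.le_centralizer_iff.mp hKc
  have hdx : d * x * d⁻¹ ∈ cj d (orbitSup P L) := mem_cj'.mpr ⟨x, hxK, rfl⟩
  have hcomm : Commute x⁻¹ (d * x * d⁻¹) := by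
    have := Subgroup.mem_centralizer_iff.mp (hKc (inv_mem hxK)) (d * x * d⁻¹) hdx
    exact this.symm
  have hpow : (x⁻¹ * (d * x * d⁻¹)) ^ p ^ n = 1 := by
    rw [hcomm.mul_pow, conj_pow, inv_pow, hx]
    simp
  have hc1 := eq_one_of_pow_of_mem_coprime hB hcB hpow
  have hfix : d * x * d⁻¹ = x := by
    have := congrArg (fun y => x * y) hc1
    simpa using this
  rw [hfix] at hdx
  exact hcK hdx

theorem layer_le_normalizer_component {L : Subgroup G} (hL : IsComponent L) :
    layer G ≤ normalizer (L : Set G) :=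
  sSup_le fun _ hL' => Cfsg.Agent.Lib.Helper23.component_le_normalizer hL hL'

/-- Claim B when `O_p(G) ≤ P`. -/
theorem pComp_le_normalizer_component_aux (hO : pPrimeCore p G = ⊥) {P : Subgroup G}
    (hP : IsPGroup p P) {J₀ : Subgroup ↥(normalizer (P : Set G))} (hJ : IsPComponent p J₀)
    (hR : pCore p G ≤ P) {L : Subgroup G} (hL : IsComponent L) :
    J₀.map (normalizer (P : Set G)).subtype ≤ normalizer (L : Set G) := by
  set J : Subgroup G := J₀.map (normalizer (P : Set G)).subtype with hJdef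
  have hloc := localPrime_coreIn (p := p) hP
  have hJP : J ≤ centralizer (P : Set G) := pComp_le_centralizer hP hJ
  have hperf : ⁅J, J⁆ = J := pComp_perfect hJ
  have hgen : pUp p J = J := pComp_gen hJ
  have hEn : (layer G).Normal := Cfsg.Agent.Lib.Helper22.layer_normal G
  have hSN : layer G ⊓ normalizer (P : Set G) ≤ normalizer (P : Set G) := inf_le_right
  have hNS : normalizer (P : Set G) ≤
      normalizer ((layer G ⊓ normalizer (P : Set G) : Subgroup G) : Set G) := by
    intro g hg
    rw [← cj_eq_self_iff, Cfsg.Agent.Lib.Helper33.cj_inf,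
      Cfsg.Agent.Lib.Helper33.cj_eq_self_of_mem hg]
    have : cj g (layer G) = layer G := cj_eq_self_iff.mpr (by
      rw [Subgroup.normalizer_eq_top_iff.mpr hEn]; exact Subgroup.mem_top g)
    rw [this]
  rcases pComp_dichotomy hJ hSN hNS with h | h
  · -- `J ≤ E(G)`
    have h1 : J ≤ layer G ⊓ normalizer (P : Set G) :=
      le_of_le_sup_of_pUp (le_trans hloc.le hNS) hloc.cop hgen h
    exact le_trans (le_trans h1 inf_le_left) (layer_le_normalizer_component hL)
  · -- `[E(G) ∩ N, J] ≤ D`
    have stepA : ∀ j ∈ J, ∃ g ∈ P, cj j L = cj g L := by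
      intro j hj
      by_contra hcon
      push Not at hcon
      refine false_of_ppow_central hO hP hR hL ?_
      rintro x hxK hxN ⟨n, hn⟩
      refine mem_centralizer_of_ppow' hloc.cop hL (hJP hj) hcon hxK ?_ hn
      have hxS : x⁻¹ ∈ layer G ⊓ normalizer (P : Set G) :=
        inv_mem ⟨orbitSup_le_layer hL hxK, hxN⟩
      have := h (Subgroup.commutator_mem_commutator hxS hj)
      have e : ⁅x⁻¹, j⁆ = x⁻¹ * (j * x * j⁻¹) := by
        rw [commutatorElement_def]; group
      rwa [e] at this
    -- the stabilizer of `L` in `J` is normal with `p`-group quotient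
    have hfix : ∀ x ∈ J, x ∈ normalizer (L : Set G) → ∀ g ∈ P,
        x ∈ normalizer (cj g L : Set G) := by
      intro x hx hxL g hg
      rw [← cj_eq_self_iff, ← cj_mul]
      have hc : x * g = g * x := (Subgroup.mem_centralizer_iff.mp (hJP hx) g hg).symm
      rw [hc, cj_mul, cj_eq_self_iff.mpr hxL]
    have hnorm : ((normalizer (L : Set G)).subgroupOf J).Normal := by
      constructor
      intro x hx j
      rw [Subgroup.mem_subgroupOf] at hx ⊢
      obtain ⟨g, hg, hgeq⟩ := stepA (j : G)⁻¹ (inv_mem j.2)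
      have h1 := hfix x x.2 hx g hg
      rw [← hgeq] at h1
      rw [← cj_eq_self_iff]
      have e : ((j * x * j⁻¹ : ↥J) : G) = (j : G) * ((x : G) * (j : G)⁻¹) := by
        simp [mul_assoc]
      rw [e, cj_mul, cj_mul, cj_eq_self_iff.mpr h1, ← cj_mul, mul_inv_cancel, cj_one]
    have hpq : IsPGroup p (↥J ⧸ (normalizer (L : Set G)).subgroupOf J) := by
      intro q
      induction q using QuotientGroup.induction_on with
      | H j =>
        obtain ⟨g, hg, hgeq⟩ := stepA (j : G) j.2
        obtain ⟨n, hn⟩ := hP ⟨g, hg⟩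
        have hn' : g ^ p ^ n = 1 := by
          have := congrArg Subtype.val hn
          simpa using this
        refine ⟨n, ?_⟩
        rw [← QuotientGroup.mk_pow, QuotientGroup.eq_one_iff, Subgroup.mem_subgroupOf]
        have hcomm : Commute g⁻¹ (j : G) := by
          have h0 : g * (j : G) = (j : G) * g := Subgroup.mem_centralizer_iff.mp (hJP j.2) g hg
          have h1 : Commute g (j : G) := h0
          exact h1.inv_left
        have h1 : g⁻¹ * (j : G) ∈ normalizer (L : Set G) := by
          rw [← cj_eq_self_iff, cj_mul, hgeq, cj_inv_cj]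
        have h2 := pow_mem h1 (p ^ n)
        rw [hcomm.mul_pow, inv_pow, hn', inv_one, one_mul] at h2
        simpa using h2
    have hperf' : ⁅(⊤ : Subgroup ↥J), (⊤ : Subgroup ↥J)⁆ = (⊤ : Subgroup ↥J) := by
      have : Group.IsPerfect ↥J := Subgroup.isPerfect_iff.mpr hperf
      have h0 := this.commutator_eq_top
      rwa [_root_.commutator_def] at h0
    have htop := Cfsg.Agent.Lib.Helper22.perfect_le_of_isPGroup_quotient hperf' hpq
    intro j hj
    have := htop (Subgroup.mem_top (⟨j, hj⟩ : ↥J))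
    exact Subgroup.mem_subgroupOf.mp this

/-- **Weak `L_{p'}`-balance**: if `O_{p'}(G) = 1`, every `p`-component of `N_G(P)` normalizes
every component of `G`. -/
theorem pComp_le_normalizer_component (hO : pPrimeCore p G = ⊥) {P : Subgroup G}
    (hP : IsPGroup p P) {J₀ : Subgroup ↥(normalizer (P : Set G))} (hJ : IsPComponent p J₀)
    {L : Subgroup G} (hL : IsComponent L) :
    J₀.map (normalizer (P : Set G)).subtype ≤ normalizer (L : Set G) := by
  set J : Subgroup G := J₀.map (normalizer (P : Set G)).subtype with hJdef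
  have hRn : (pCore p G).Normal := Cfsg.Agent.Lib.Helper22.pCore_normal' p G
  have hRp : IsPGroup p (pCore p G) := Cfsg.Agent.Lib.Helper22.pCore_isPGroup' p G
  have hJC : J ≤ centralizer ((P ⊔ pCore p G : Subgroup G) : Set G) := by
    rw [Subgroup.le_centralizer_iff]
    exact sup_le (Subgroup.le_centralizer_iff.mp (pComp_le_centralizer hP hJ))
      (Subgroup.le_centralizer_iff.mp (pComp_le_centralizer_pCore hP hJ))
  have hJ₁ := pComp_transfer hJ (le_sup_left : P ≤ P ⊔ pCore p G) hJC
  have hP₁ : IsPGroup p (P ⊔ pCore p G : Subgroup G) := IsPGroup.to_sup_of_normal_right hP hRp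
  have h := pComp_le_normalizer_component_aux hO hP₁ hJ₁ le_sup_right hL
  have hJN₁ : J ≤ normalizer ((P ⊔ pCore p G : Subgroup G) : Set G) :=
    le_trans hJC (Subgroup.centralizer_le_normalizer _)
  rwa [Subgroup.subgroupOf_map_subtype, inf_eq_left.mpr hJN₁] at h

/-- The preimage in `N_G(P)` of `E(N_G(P)/O_{p'}(N_G(P)))` normalizes every component of `G`
(`O_{p'}(G) = 1`). -/
theorem comap_layer_le_normalizer_component (hO : pPrimeCore p G = ⊥) {P : Subgroup G}
    (hP : IsPGroup p P) {L : Subgroup G} (hL : IsComponent L) :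
    ((layer (↥(normalizer (P : Set G)) ⧸ pPrimeCore p ↥(normalizer (P : Set G)))).comap
      (QuotientGroup.mk' (pPrimeCore p ↥(normalizer (P : Set G))))).map
        (normalizer (P : Set G)).subtype ≤ normalizer (L : Set G) := by
  have h1 : pPrimeCore p ↥(normalizer (P : Set G)) ≤
      (normalizer (L : Set G)).subgroupOf (normalizer (P : Set G)) := by
    intro y hy
    rw [Subgroup.mem_subgroupOf]
    exact (localPrime_coreIn (p := p) hP).le_normalizer_component hO hL
      (Subgroup.mem_map.mpr ⟨y, hy, rfl⟩)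
  have h2 : layer (↥(normalizer (P : Set G)) ⧸ pPrimeCore p ↥(normalizer (P : Set G))) ≤
      ((normalizer (L : Set G)).subgroupOf (normalizer (P : Set G))).map
        (QuotientGroup.mk' (pPrimeCore p ↥(normalizer (P : Set G)))) := by
    apply sSup_le
    intro Kbar hK
    obtain ⟨hJ, hmap⟩ := Cfsg.Agent.Lib.Helper23.isPComponent_pUp p hK
    rw [← hmap]
    apply Subgroup.map_mono
    intro y hy
    rw [Subgroup.mem_subgroupOf]
    exact pComp_le_normalizer_component hO hP hJ hL (Subgroup.mem_map.mpr ⟨y, hy, rfl⟩)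
  have h3 := Subgroup.comap_mono (f := QuotientGroup.mk' (pPrimeCore p ↥(normalizer (P : Set G)))) h2
  rw [Subgroup.comap_map_eq, QuotientGroup.ker_mk', sup_eq_left.mpr h1] at h3
  rintro _ ⟨y, hy, rfl⟩
  exact Subgroup.mem_subgroupOf.mp (h3 hy)

end claimB

end Cfsg.Agent.Lib.Helper22.LBal
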