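import Mathlib

/-!
# Cg hive (S4257): class-size prime graph, diameter at most 3.  Definitions.
-/

set_option autoImplicit false

namespace Cfsg.Agent.Lib.Helper22.Cg

open Subgroup

/-- class size of `g` (index of the centralizer) -/
noncomputable abbrev cs {G : Type*} [Group G] (g : G) : ℕ := (centralizer ({g} : Set G)).index

/-- adjacency of two numbers in the class-size graph of `G` -/
def Adj (G : Type*) [Group G] (a b : ℕ) : Prop := ∃ g : G, a * b ∣ cs g

/-- closed neighbourhood -/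
def Nb (G : Type*) [Group G] (a b : ℕ) : Prop := b = a ∨ Adj G a b

/-- the right stabilizer of the conjugacy class of `x` -/
def rstab {G : Type*} [Group G] (x : G) : Subgroup G where
  carrier := {n | (∀ k : G, ∃ k' : G, (k * x * k⁻¹) * n = k' * x * k'⁻¹) ∧
    (∀ k : G, ∃ k' : G, (k * x * k⁻¹) * n⁻¹ = k' * x * k'⁻¹)}
  one_mem' := ⟨fun k => ⟨k, by simp⟩, fun k => ⟨k, by simp⟩⟩
  mul_mem' := by
    rintro a b ⟨ha1, ha2⟩ ⟨hb1, hb2⟩
    refine ⟨fun k => ?_, fun k => ?_⟩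
    · obtain ⟨k1, hk1⟩ := ha1 k
      obtain ⟨k2, hk2⟩ := hb1 k1
      exact ⟨k2, by rw [← mul_assoc, hk1, hk2]⟩
    · obtain ⟨k1, hk1⟩ := hb2 k
      obtain ⟨k2, hk2⟩ := ha2 k1
      exact ⟨k2, by rw [mul_inv_rev, ← mul_assoc, hk1, hk2]⟩
  inv_mem' := by
    rintro a ⟨ha1, ha2⟩
    exact ⟨ha2, by simpa using ha1⟩

end Cfsg.Agent.Lib.Helper22.Cg
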