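import Cfsg.Agent.Lib.Helper16.GagDefs

set_option autoImplicit false
universe u v

namespace Cfsg.Agent.Lib.Helper16.Gag
open scoped IsMulCommutative

/-- Q2 -/
theorem quot_center_equiv {T : Type u} [Group T] (M Zh : Subgroup T) [M.Normal]
    (hc : Subgroup.center (T ⧸ M) = Zh.map (QuotientGroup.mk' M))
    {A : Type v} [Group A] (φ : Zh →* A) (hφ : Function.Surjective φ)
    (hker : M = φ.ker.map Zh.subtype) :
    Nonempty (Subgroup.center (T ⧸ M) ≃* A) := by
  set f : Zh →* T ⧸ M := (QuotientGroup.mk' M).comp Zh.subtype with hf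
  have hrange : f.range = Subgroup.center (T ⧸ M) := by
    rw [hc]
    ext x
    constructor
    · rintro ⟨z, rfl⟩
      exact ⟨z.1, z.2, rfl⟩
    · rintro ⟨z, hz, rfl⟩
      exact ⟨⟨z, hz⟩, rfl⟩
  have hk : f.ker = φ.ker := by
    ext z
    rw [MonoidHom.mem_ker, hf]
    simp only [MonoidHom.coe_comp, Function.comp_apply, Subgroup.coe_subtype,
      QuotientGroup.mk'_apply]
    rw [QuotientGroup.eq_one_iff]
    constructor
    · intro h
      rw [hker] at h
      obtain ⟨w, hw, hwz⟩ := h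
      have : w = z := Subtype.ext hwz
      rw [← this]
      exact hw
    · intro h
      rw [hker]
      exact ⟨z, h, rfl⟩
  have e1 : Zh ⧸ f.ker ≃* f.range := QuotientGroup.quotientKerEquivRange f
  have e2 : Zh ⧸ φ.ker ≃* A := QuotientGroup.quotientKerEquivOfSurjective φ hφ
  have e3 : Zh ⧸ f.ker ≃* Zh ⧸ φ.ker := QuotientGroup.quotientMulEquivOfEq hk
  have e4 : f.range ≃* Subgroup.center (T ⧸ M) := MulEquiv.subgroupCongr hrange
  exact ⟨e4.symm.trans (e1.symm.trans (e3.trans e2))⟩

end Cfsg.Agent.Lib.Helper16.Gag
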