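import Mathlib
import Cfsg.Prelude.Def_OddOrderLocal
import Cfsg.Agent.S1350
import Cfsg.Agent.S1378
import Cfsg.Agent.S1404
import Cfsg.Agent.Lib.Helper33.Conj
import Cfsg.Agent.Lib.Helper48.TICount
import Cfsg.Agent.Lib.Helper10.Card
import Cfsg.Agent.Lib.Helper68.BG1215a
import Cfsg.Agent.Lib.Helper63.BG13a

set_option autoImplicit false
set_option linter.style.haveILetI false
set_option linter.unusedSectionVars false
set_option linter.unusedVariables false

/-!
# The star count (kill of "Case N" by a several-partner version of the BG 14.7 count)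

`star_count`: there is no family `H i` (at least two indices) of pairwise non-conjugate maximal
subgroups with a common pairwise intersection `Z`, `H i = (H i)_σ Z`, `π(Z) ⊆ ⋃ σ(H i)` and
`C_G(a) ≤ H i` for the elements `a` of prime order of `(H i)_σ ∩ Z`.
It is armed on the STATEMENTS of S1377 and S1433 (as `Prop` hypotheses).
-/

namespace Cfsg.Agent.Lib.Helper22.StarCount

open Subgroup Cfsg Cfsg.Agent.Lib.Helper33

universe u

variable {G : Type u} [Group G]

/-- `M_F` is carried to `M'_F` by an isomorphism `M ≃* M'` (one inclusion). -/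
theorem fittingHall_map_le {M M' : Type*} [Group M] [Group M'] (e : M ≃* M') :
    (fittingHall M).map e.toMonoidHom ≤ fittingHall M' := by
  unfold fittingHall
  rw [Subgroup.map_le_iff_le_comap]
  apply sSup_le
  rintro N ⟨hN1, hN2, hN3⟩
  rw [← Subgroup.map_le_iff_le_comap]
  apply le_sSup
  refine ⟨?_, ?_, ?_⟩
  · exact Subgroup.Normal.map hN1 e.toMonoidHom e.surjective
  · haveI := hN2
    exact Group.nilpotent_of_mulEquiv (e.subgroupMap N)
  · have h1 : Nat.card (N.map e.toMonoidHom) = Nat.card N :=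
      Subgroup.card_map_of_injective e.injective
    have h2 : (N.map e.toMonoidHom).index = N.index := Subgroup.index_map_equiv N e
    rw [h1, h2]; exact hN3

theorem fittingHallOf_cj_le (g : G) (L : Subgroup G) :
    cj g (fittingHallOf L) ≤ fittingHallOf (cj g L) := by
  intro x hx
  obtain ⟨y, hy, rfl⟩ := mem_cj'.mp hx
  obtain ⟨y', hy', rfl⟩ := hy
  refine ⟨cjEquiv g L y', ?_, ?_⟩
  · apply fittingHall_map_le (cjEquiv g L)
    exact ⟨y', hy', rfl⟩
  · rfl

theorem centralizer_singleton_cj (g x : G) :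
    centralizer ({g * x * g⁻¹} : Set G) = cj g (centralizer ({x} : Set G)) := by
  ext y
  rw [mem_cj, mem_centralizer_iff, mem_centralizer_iff]
  simp only [Set.mem_singleton_iff, forall_eq]
  constructor
  · intro h
    calc x * (g⁻¹ * y * g) = g⁻¹ * ((g * x * g⁻¹) * y) * g := by group
      _ = g⁻¹ * (y * (g * x * g⁻¹)) * g := by rw [h]
      _ = g⁻¹ * y * g * x := by group
  · intro h
    calc g * x * g⁻¹ * y = g * (x * (g⁻¹ * y * g)) * g⁻¹ := by group
      _ = g * ((g⁻¹ * y * g) * x) * g⁻¹ := by rw [h]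
      _ = y * (g * x * g⁻¹) := by group

theorem isCoatom_cj' {L : Subgroup G} (g : G) (hL : IsCoatom L) : IsCoatom (cj g L) := by
  refine ⟨?_, ?_⟩
  · intro h
    apply hL.1
    have : cj g L = cj g ⊤ := by rw [h, cj_top]
    exact cj_injective g this
  · intro K hK
    have h1 : L < cj g⁻¹ K := by
      have := (cj_lt_cj_iff (g := g⁻¹)).mpr hK
      rwa [cj_inv_cj] at this
    have h2 := hL.2 _ h1
    have : cj g (cj g⁻¹ K) = cj g ⊤ := by rw [h2]
    rwa [cj_cj_inv, cj_top] at this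

/-- conjugation-equivariance of `R(x)` -/
theorem supportR_cj_mem (M : Subgroup G) (x r g : G) (hr : r ∈ supportR M x) :
    g * r * g⁻¹ ∈ supportR (cj g M) (g * x * g⁻¹) := by
  classical
  unfold supportR at hr ⊢
  by_cases h : ¬ centralizer ({x} : Set G) ≤ M ∧
      ∃! L : Subgroup G, IsCoatom L ∧ centralizer ({x} : Set G) ≤ L
  · rw [dif_pos h] at hr
    have hspec := Classical.choose_spec h.2.exists
    set L := Classical.choose h.2.exists with hLdef
    have h' : ¬ centralizer ({g * x * g⁻¹} : Set G) ≤ cj g M ∧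
        ∃! L' : Subgroup G, IsCoatom L' ∧ centralizer ({g * x * g⁻¹} : Set G) ≤ L' := by
      refine ⟨?_, cj g L, ⟨isCoatom_cj' g hspec.1, ?_⟩, ?_⟩
      · rw [centralizer_singleton_cj, cj_le_cj_iff]; exact h.1
      · rw [centralizer_singleton_cj, cj_le_cj_iff]; exact hspec.2
      · rintro L' ⟨hL'1, hL'2⟩
        rw [centralizer_singleton_cj, cj_le_iff] at hL'2
        have := h.2.unique ⟨isCoatom_cj' g⁻¹ hL'1, hL'2⟩ hspec
        rw [← this, cj_cj_inv]
    rw [dif_pos h']
    have hspec' := Classical.choose_spec h'.2.exists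
    set L' := Classical.choose h'.2.exists with hL'def
    have hLL' : L' = cj g L := by
      have h1 : centralizer ({x} : Set G) ≤ cj g⁻¹ L' := by
        have := hspec'.2
        rwa [centralizer_singleton_cj, cj_le_iff] at this
      have := h.2.unique ⟨isCoatom_cj' g⁻¹ hspec'.1, h1⟩ hspec
      rw [← this, cj_cj_inv]
    rw [hLL']
    refine ⟨?_, ?_⟩
    · exact fittingHallOf_cj_le g L (conj_mem_cj hr.1)
    · rw [centralizer_singleton_cj]; exact conj_mem_cj hr.2
  · rw [dif_neg h] at hr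
    have : r = 1 := by simpa using hr
    subst this
    simp


/-! ### basic facts -/

section basics

variable [Finite G]

/-- the statement of S1377 (BG 14.5, the count) -/
def Stmt1377 (G : Type u) [Group G] [Finite G] : Prop :=
  ∀ M : Subgroup G, IsCoatom M →
    Set.ncard (Cfsg.tildeOf M ((Cfsg.sigmaCore M : Set G) \ {1})) =
      (Nat.card (Cfsg.sigmaCore M) - 1) * M.index

/-- the statement of S1433 (BG 14.5, disjointness of the cosets `x R(x)`) -/
def Stmt1433 (G : Type u) [Group G] [Finite G] : Prop :=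
  ∀ M N : Subgroup G, IsCoatom M → IsCoatom N → ∀ x y : G, x ∈ Cfsg.sigmaCore M →
    y ∈ Cfsg.sigmaCore N → x ≠ 1 → y ≠ 1 → x ≠ y →
    ∀ r ∈ Cfsg.supportR M x, ∀ s ∈ Cfsg.supportR N y, x * r ≠ y * s

theorem orderOf_conj_sc (g x : G) : orderOf (g * x * g⁻¹) = orderOf x := by
  have := orderOf_injective (MulAut.conj g).toMonoidHom (MulAut.conj g).injective x
  simpa using this

theorem supportR_le_centralizer (M : Subgroup G) (x : G) :
    supportR M x ≤ centralizer ({x} : Set G) := by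
  classical
  unfold supportR
  split_ifs with h
  · exact inf_le_right
  · exact bot_le

theorem supportR_eq_bot_of_le {M : Subgroup G} {x : G} (h : centralizer ({x} : Set G) ≤ M) :
    supportR M x = ⊥ := by
  classical
  unfold supportR
  rw [dif_neg]
  intro h'
  exact h'.1 h

theorem sigma_disjoint (hG : IsMinSimpleOddOrder G) {M N : Subgroup G} (hM : IsCoatom M)
    (hN : IsCoatom N) (hnc : ∀ g : G, N ≠ M.map (MulAut.conj g).toMonoidHom) {p : ℕ}
    (hpM : p ∈ sigma M) (hpN : p ∈ sigma N) : False := by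
  obtain ⟨g, hg⟩ := (Cfsg.Agent.S1378.result hG).2 M N hM hN ⟨p, hpM, hpN⟩
  exact hnc g hg

theorem mem_sigmaCore_of_orderOf (hG : IsMinSimpleOddOrder G) {M : Subgroup G} (hM : IsCoatom M)
    {y : G} (hy : y ∈ M) (h : ∀ p : ℕ, p.Prime → p ∣ orderOf y → p ∈ sigma M) :
    y ∈ sigmaCore M := by
  have hHall := (Cfsg.Agent.S1350.result hG M hM).1
  have : zpowers y ≤ sigmaCore M := by
    apply Cfsg.Agent.Lib.Helper68.BG1215.le_sigmaCore_of_pi hHall
    · rw [zpowers_le]; exact hy
    · intro p hp hd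
      rw [Nat.card_zpowers] at hd
      exact h p hp hd
  exact this (mem_zpowers y)

theorem mem_sigma_of_dvd_orderOf (hG : IsMinSimpleOddOrder G) {M : Subgroup G} (hM : IsCoatom M)
    {y : G} (hy : y ∈ sigmaCore M) {p : ℕ} (hp : p.Prime) (hd : p ∣ orderOf y) : p ∈ sigma M := by
  have hHall := (Cfsg.Agent.S1350.result hG M hM).1
  apply hHall.2.1 p hp
  have h1 : orderOf (⟨y, hy⟩ : sigmaCore M) = orderOf y := Subgroup.orderOf_mk y hy
  have h2 := orderOf_dvd_natCard (⟨y, hy⟩ : sigmaCore M)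
  rw [h1] at h2
  exact hd.trans h2

/-- conjugacy control for an element of prime order of `M_σ` whose centralizer lies in `M` -/
theorem mem_of_conj_mem (hG : IsMinSimpleOddOrder G) {M : Subgroup G} (hM : IsCoatom M) {a g : G}
    (ha : a ∈ sigmaCore M) (hap : (orderOf a).Prime) (hCa : centralizer ({a} : Set G) ≤ M)
    (hg : g * a * g⁻¹ ∈ M) : g ∈ M := by
  have hHall := (Cfsg.Agent.S1350.result hG M hM).1
  haveI : Fact (orderOf a).Prime := ⟨hap⟩
  have hpσ : orderOf a ∈ sigma M := mem_sigma_of_dvd_orderOf hG hM ha hap dvd_rfl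
  have hXp : IsPGroup (orderOf a) (zpowers a) := by
    apply IsPGroup.of_card (n := 1)
    rw [Nat.card_zpowers, pow_one]
  have hX1 : zpowers a ≠ ⊥ := by
    intro h
    rw [zpowers_eq_bot] at h
    rw [h, orderOf_one] at hap
    exact Nat.not_prime_one hap
  have hXM : zpowers a ≤ M := by
    rw [zpowers_le]; exact hHall.1 ha
  have h4 := (Cfsg.Agent.S1404.result hG M hM (orderOf a) hpσ (zpowers a) hXp hX1 hXM).1 g
  have hmap : (zpowers a).map (MulAut.conj g).toMonoidHom ≤ M := by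
    rw [MonoidHom.map_zpowers, zpowers_le]
    simpa using hg
  obtain ⟨m, hm, c, hc, rfl⟩ := h4 hmap
  apply M.mul_mem hm
  apply hCa
  rw [mem_centralizer_iff]
  intro y hy
  rw [Set.mem_singleton_iff] at hy
  subst hy
  exact hc y (mem_zpowers y)

theorem arith {ι : Type*} [Fintype ι] (hι : 2 ≤ Fintype.card ι) (N ζ k zh C : ℕ)
    (v f m hh : ι → ℕ) (hζ : 0 < ζ) (hN : N = ζ * k) (hk : 0 < k)
    (hA : C * ζ = N * zh)
    (hCc : ∀ i, hh i * f i = v i * ζ) (hNm : ∀ i, N = hh i * m i)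
    (hD : ζ + Fintype.card ι ≤ zh + 1 + ∑ i, f i)
    (hE : ∀ i, 3 * f i ≤ v i) (hf : ∀ i, 0 < f i)
    (hF : C + ∑ i, (v i - 1) * m i ≤ N) : False := by
  have hC : C = k * zh := by
    apply Nat.eq_of_mul_eq_mul_right hζ
    rw [hA, hN]; ring
  have hkf : ∀ i, k * f i = v i * m i := by
    intro i
    apply Nat.eq_of_mul_eq_mul_left hζ
    calc ζ * (k * f i) = N * f i := by rw [hN]; ring
      _ = hh i * m i * f i := by rw [← hNm i]
      _ = (hh i * f i) * m i := by ring
      _ = v i * ζ * m i := by rw [hCc i]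
      _ = ζ * (v i * m i) := by ring
  have hv : ∀ i, (v i - 1) * m i + m i = k * f i := by
    intro i
    have : 1 ≤ v i := by have := hE i; have := hf i; omega
    rw [hkf i]
    obtain ⟨w, hw⟩ : ∃ w, v i = w + 1 := ⟨v i - 1, by omega⟩
    rw [hw]; simp; ring
  have h3 : ∀ i, 3 * m i ≤ k := by
    intro i
    have h1 : 3 * f i * m i ≤ v i * m i := Nat.mul_le_mul_right _ (hE i)
    rw [← hkf i] at h1
    have h2 : f i * (3 * m i) ≤ f i * k := by
      calc f i * (3 * m i) = 3 * f i * m i := by ring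
        _ ≤ k * f i := h1
        _ = f i * k := by ring
    exact Nat.le_of_mul_le_mul_left h2 (hf i)
  have hsum : ∑ i, (v i - 1) * m i + ∑ i, m i = k * ∑ i, f i := by
    rw [← Finset.sum_add_distrib, Finset.mul_sum]
    exact Finset.sum_congr rfl (fun i _ => hv i)
  have hsum3 : 3 * ∑ i, m i ≤ Fintype.card ι * k := by
    rw [Finset.mul_sum]
    calc ∑ i, 3 * m i ≤ ∑ _i : ι, k := Finset.sum_le_sum (fun i _ => h3 i)
      _ = Fintype.card ι * k := by simp
  have hD' := Nat.mul_le_mul_left k hD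
  rw [hC, hN] at hF
  set S1 := ∑ i, (v i - 1) * m i
  set S2 := ∑ i, m i
  set S3 := ∑ i, f i
  set c := Fintype.card ι
  have e1 : k * (ζ + c) = ζ * k + c * k := by ring
  have e2 : k * (zh + 1 + S3) = k * zh + k + k * S3 := by ring
  rw [e1, e2] at hD'
  have : 2 * (c * k) ≤ 3 * k := by omega
  have h4 : 2 * c * k ≤ 3 * k := by rw [mul_assoc]; exact this
  have h5 : 2 * c ≤ 3 := Nat.le_of_mul_le_mul_right h4 hk
  omega

end basics

/-! ### the star count -/

section main

variable [Finite G]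

/-- **Star count.**  There is no "star" of pairwise non-conjugate maximal subgroups `H i`
(at least two of them) through a common subgroup `Z`. -/
theorem star_count (hG : IsMinSimpleOddOrder G) (h77 : Stmt1377 G) (h33 : Stmt1433 G)
    {ι : Type*} [Fintype ι] (i₀ i₁ : ι) (h01 : i₀ ≠ i₁)
    (H : ι → Subgroup G) (Z : Subgroup G)
    (hH : ∀ i, IsCoatom (H i))
    (hnc : ∀ i j, i ≠ j → ∀ g : G, H j ≠ (H i).map (MulAut.conj g).toMonoidHom)
    (hZ : ∀ i, Z ≤ H i)
    (hHH : ∀ i j, i ≠ j → H i ⊓ H j ≤ Z)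
    (hVZ : ∀ i, H i ≤ sigmaCore (H i) ⊔ Z)
    (hπ : ∀ p : ℕ, p.Prime → p ∣ Nat.card Z → ∃ i, p ∈ sigma (H i))
    (hC : ∀ i, ∀ a ∈ sigmaCore (H i) ⊓ Z, (orderOf a).Prime →
      centralizer ({a} : Set G) ≤ H i) : False := by
  classical
  have hodd : Odd (Nat.card G) := hG.1
  have hHall : ∀ i, IsPiHallOf (sigma (H i)) (sigmaCore (H i)) (H i) :=
    fun i => (Cfsg.Agent.S1350.result hG (H i) (hH i)).1
  have hVH : ∀ i, sigmaCore (H i) ≤ H i := fun i => (hHall i).1
  have hdisj : ∀ i j, i ≠ j → ∀ p, p ∈ sigma (H i) → p ∈ sigma (H j) → False :=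
    fun i j hij p hpi hpj => sigma_disjoint hG (hH i) (hH j) (hnc i j hij) hpi hpj
  have hord : ∀ y : G, orderOf y ≠ 0 := fun y => (orderOf_pos y).ne'
  -- prime-order powers
  have hpow : ∀ y ∈ Z, ∀ p : ℕ, p.Prime → p ∣ orderOf y → ∀ i, p ∈ sigma (H i) →
      y ^ (orderOf y / p) ∈ sigmaCore (H i) ⊓ Z ∧ orderOf (y ^ (orderOf y / p)) = p := by
    intro y hy p hp hd i hpi
    have ho : orderOf (y ^ (orderOf y / p)) = p := orderOf_pow_orderOf_div (hord y) hd
    refine ⟨⟨?_, Z.pow_mem hy _⟩, ho⟩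
    apply mem_sigmaCore_of_orderOf hG (hH i) (hZ i (Z.pow_mem hy _))
    intro q hq hqd
    rw [ho] at hqd
    have : q = p := (Nat.prime_dvd_prime_iff_eq hq hp).mp hqd
    rw [this]; exact hpi
  -- the two primes
  have two : ∀ z ∈ Z, (∀ i, z ∉ sigmaCore (H i)) → ∃ i j, i ≠ j ∧ ∃ k l : ℕ,
      z ^ k ∈ sigmaCore (H i) ⊓ Z ∧ (orderOf (z ^ k)).Prime ∧
      z ^ l ∈ sigmaCore (H j) ⊓ Z ∧ (orderOf (z ^ l)).Prime := by
    intro z hz hzV
    have hz1 : z ≠ 1 := by
      intro h
      exact hzV i₀ (h ▸ (sigmaCore (H i₀)).one_mem)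
    have hn1 : orderOf z ≠ 1 := by
      intro h; exact hz1 (orderOf_eq_one_iff.mp h)
    have hdZ : orderOf z ∣ Nat.card Z := by
      have h1 : orderOf (⟨z, hz⟩ : Z) = orderOf z := Subgroup.orderOf_mk z hz
      have h2 := orderOf_dvd_natCard (⟨z, hz⟩ : Z)
      rwa [h1] at h2
    obtain ⟨p, hp, hpd⟩ := Nat.exists_prime_and_dvd hn1
    obtain ⟨i, hpi⟩ := hπ p hp (hpd.trans hdZ)
    have hex : ∃ q : ℕ, q.Prime ∧ q ∣ orderOf z ∧ q ∉ sigma (H i) := by
      by_contra hcon
      push Not at hcon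
      exact hzV i (mem_sigmaCore_of_orderOf hG (hH i) (hZ i hz) hcon)
    obtain ⟨q, hq, hqd, hqi⟩ := hex
    obtain ⟨j, hqj⟩ := hπ q hq (hqd.trans hdZ)
    have hij : i ≠ j := by
      intro h; subst h; exact hqi hqj
    obtain ⟨ha1, ha2⟩ := hpow z hz p hp hpd i hpi
    obtain ⟨hb1, hb2⟩ := hpow z hz q hq hqd j hqj
    exact ⟨i, j, hij, orderOf z / p, orderOf z / q, ha1, by rw [ha2]; exact hp, hb1,
      by rw [hb2]; exact hq⟩
  -- TI
  have ti : ∀ z ∈ Z, (∀ i, z ∉ sigmaCore (H i)) → ∀ g : G, g * z * g⁻¹ ∈ Z → g ∈ Z := by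
    intro z hz hzV g hg
    obtain ⟨i, j, hij, k, l, hk, hkp, hl, hlp⟩ := two z hz hzV
    apply hHH i j hij
    refine ⟨?_, ?_⟩
    · apply mem_of_conj_mem hG (hH i) hk.1 hkp (hC i _ hk hkp)
      have : g * z ^ k * g⁻¹ = (g * z * g⁻¹) ^ k := (conj_pow (a := g) (b := z) (i := k)).symm
      rw [this]
      exact hZ i (Z.pow_mem hg _)
    · apply mem_of_conj_mem hG (hH j) hl.1 hlp (hC j _ hl hlp)
      have : g * z ^ l * g⁻¹ = (g * z * g⁻¹) ^ l := (conj_pow (a := g) (b := z) (i := l)).symm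
      rw [this]
      exact hZ j (Z.pow_mem hg _)
  -- the set `Ẑ`
  set Zh : Set G := {z | z ∈ Z ∧ ∀ i, z ∉ sigmaCore (H i)} with hZh
  have hinv : ∀ n ∈ Z, ∀ z ∈ Zh, n * z * n⁻¹ ∈ Zh := by
    intro n hn z hz
    refine ⟨Z.mul_mem (Z.mul_mem hn hz.1) (Z.inv_mem hn), ?_⟩
    intro i hi
    apply hz.2 i
    have := Cfsg.Agent.Lib.Helper24.BG.sigmaCore_conj_mem (H i) (hZ i (Z.inv_mem hn)) hi
    have e : n⁻¹ * (n * z * n⁻¹) * n⁻¹⁻¹ = z := by group
    rwa [e] at this
  have hTI : ∀ z ∈ Zh, ∀ g : G, g * z * g⁻¹ ∈ Zh → g ∈ Z :=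
    fun z hz g hg => ti z hz.1 hz.2 g hg.1
  have hA := Cfsg.Agent.Lib.Helper48.TICount.card_conjUnion Z Zh hinv hTI
  -- (c2): `Ẑ`-classes against `T l`
  have c2 : ∀ z ∈ Zh, ∀ (l : ι) (x r h : G), x ∈ sigmaCore (H l) → x ≠ 1 →
      r ∈ supportR (H l) x → h * z * h⁻¹ = x * r → False := by
    intro z hz l x r h hx hx1 hr heq
    have hrx : r * x = x * r := by
      have := supportR_le_centralizer (H l) x hr
      rw [mem_centralizer_iff] at this
      exact (this x rfl).symm
    -- x' := h⁻¹ x h commutes with z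
    set x' := h⁻¹ * x * h with hx'
    have hx'x : x = h * x' * h⁻¹ := by rw [hx']; group
    have hcomm : x' * z * x'⁻¹ = z := by
      have h1 : x * (h * z * h⁻¹) * x⁻¹ = h * z * h⁻¹ := by
        rw [heq]
        calc x * (x * r) * x⁻¹ = x * (r * x) * x⁻¹ := by rw [hrx]
          _ = x * r := by group
      calc x' * z * x'⁻¹ = h⁻¹ * (x * (h * z * h⁻¹) * x⁻¹) * h := by rw [hx']; group
        _ = h⁻¹ * (h * z * h⁻¹) * h := by rw [h1]
        _ = z := by group
    have hx'Z : x' ∈ Z := ti z hz.1 hz.2 x' (by rw [hcomm]; exact hz.1)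
    have hox : orderOf x' = orderOf x := by
      rw [hx'x]
      exact (orderOf_conj_sc h x').symm
    have hx'V : x' ∈ sigmaCore (H l) := by
      apply mem_sigmaCore_of_orderOf hG (hH l) (hZ l hx'Z)
      intro p hp hd
      rw [hox] at hd
      exact mem_sigma_of_dvd_orderOf hG (hH l) hx hp hd
    have hx'1 : x' ≠ 1 := by
      intro h1
      apply hx1
      rw [hx'x, h1]; group
    have hn1 : orderOf x' ≠ 1 := fun h1 => hx'1 (orderOf_eq_one_iff.mp h1)
    obtain ⟨p, hp, hpd⟩ := Nat.exists_prime_and_dvd hn1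
    have hpl : p ∈ sigma (H l) := mem_sigma_of_dvd_orderOf hG (hH l) hx'V hp hpd
    obtain ⟨hy1, hy2⟩ := hpow x' hx'Z p hp hpd l hpl
    set y := x' ^ (orderOf x' / p) with hy
    have hyp : (orderOf y).Prime := hy2 ▸ hp
    have hCy := hC l y hy1 hyp
    have hconj : h * y * h⁻¹ = x ^ (orderOf x' / p) := by
      rw [hy, hx'x]
      exact (conj_pow (a := h) (b := x') (i := orderOf x' / p)).symm
    have hhl : h ∈ H l := by
      apply mem_of_conj_mem hG (hH l) hy1.1 hyp hCy
      rw [hconj]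
      exact (H l).pow_mem (hVH l hx) _
    have hCx : centralizer ({x} : Set G) ≤ H l := by
      have h1 : centralizer ({x} : Set G) ≤ centralizer ({x ^ (orderOf x' / p)} : Set G) := by
        intro c hc
        rw [mem_centralizer_iff] at hc ⊢
        intro w hw
        rw [Set.mem_singleton_iff] at hw
        subst hw
        have := hc x rfl
        exact ((Commute.pow_left (show Commute x c from this) _).eq)
      have h2 : centralizer ({x ^ (orderOf x' / p)} : Set G) = cj h (centralizer ({y} : Set G)) := by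
        rw [← hconj, centralizer_singleton_cj]
      have h3 : cj h (centralizer ({y} : Set G)) ≤ cj h (H l) := cj_mono hCy
      rw [cj_eq_self_of_mem hhl] at h3
      exact h1.trans (h2 ▸ h3)
    have hr1 : r = 1 := by
      have := supportR_eq_bot_of_le hCx
      rw [this] at hr
      exact mem_bot.mp hr
    rw [hr1, mul_one] at heq
    apply hz.2 l
    have : z = x' := by
      rw [hx', ← heq]; group
    rw [this]; exact hx'V
  -- (c1): `T i` against `T j`
  have c1 : ∀ i j, i ≠ j → ∀ a r a' r' c : G, a ∈ sigmaCore (H i) → a ≠ 1 →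
      r ∈ supportR (H i) a → a' ∈ sigmaCore (H j) → a' ≠ 1 → r' ∈ supportR (H j) a' →
      c * (a * r) * c⁻¹ = a' * r' → False := by
    intro i j hij a r a' r' c ha ha1 hr ha' ha'1 hr' heq
    have hcoat : IsCoatom (cj c (H i)) := isCoatom_cj' c (hH i)
    have hoa : orderOf (c * a * c⁻¹) = orderOf a := orderOf_conj_sc c a
    have hca1 : c * a * c⁻¹ ≠ 1 := by
      intro h1
      apply ha1
      have : a = c⁻¹ * (c * a * c⁻¹) * c := by group
      rw [this, h1]; group
    have hcaV : c * a * c⁻¹ ∈ sigmaCore (cj c (H i)) := by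
      apply mem_sigmaCore_of_orderOf hG hcoat (conj_mem_cj (hVH i ha))
      intro p hp hd
      rw [hoa] at hd
      exact Cfsg.Agent.Lib.Helper63.BG13.sigma_cj c (mem_sigma_of_dvd_orderOf hG (hH i) ha hp hd)
    have hne : c * a * c⁻¹ ≠ a' := by
      intro h1
      have hn1 : orderOf a ≠ 1 := fun h2 => ha1 (orderOf_eq_one_iff.mp h2)
      obtain ⟨p, hp, hpd⟩ := Nat.exists_prime_and_dvd hn1
      have hpi := mem_sigma_of_dvd_orderOf hG (hH i) ha hp hpd
      have hpd' : p ∣ orderOf a' := by rw [← h1, hoa]; exact hpd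
      have hpj := mem_sigma_of_dvd_orderOf hG (hH j) ha' hp hpd'
      exact hdisj i j hij p hpi hpj
    have := h33 (cj c (H i)) (H j) hcoat (hH j) (c * a * c⁻¹) a' hcaV ha' hca1 ha'1 hne
      (c * r * c⁻¹) (supportR_cj_mem (H i) a r c hr) r' hr'
    apply this
    rw [← heq]; group
  -- the sets
  set T : ι → Set G := fun i => tildeOf (H i) ((sigmaCore (H i) : Set G) \ {1}) with hT
  set CZ : Set G := Cfsg.Agent.Lib.Helper48.TICount.conjUnion Zh with hCZ
  set s : Option ι → Set G := fun o => o.elim CZ T with hs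
  have hpair : Pairwise (Function.onFun Disjoint s) := by
    intro o o' hoo'
    rw [Function.onFun, Set.disjoint_left]
    intro w hw hw'
    rcases o with _ | i <;> rcases o' with _ | j
    · exact hoo' rfl
    · -- CZ vs T j
      obtain ⟨g, z, hz, rfl⟩ := hw
      obtain ⟨a, ha, r, hr, y, hy⟩ := hw'
      refine c2 z hz j a r (y⁻¹ * g) ha.1 (fun h => ha.2 h) hr ?_
      calc y⁻¹ * g * z * (y⁻¹ * g)⁻¹ = y⁻¹ * (g * z * g⁻¹) * y := by group
        _ = y⁻¹ * (y * (a * r) * y⁻¹) * y := by rw [hy]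
        _ = a * r := by group
    · obtain ⟨g, z, hz, rfl⟩ := hw'
      obtain ⟨a, ha, r, hr, y, hy⟩ := hw
      refine c2 z hz i a r (y⁻¹ * g) ha.1 (fun h => ha.2 h) hr ?_
      calc y⁻¹ * g * z * (y⁻¹ * g)⁻¹ = y⁻¹ * (g * z * g⁻¹) * y := by group
        _ = y⁻¹ * (y * (a * r) * y⁻¹) * y := by rw [hy]
        _ = a * r := by group
    · have hij : i ≠ j := fun h => hoo' (by rw [h])
      obtain ⟨a, ha, r, hr, y, hy⟩ := hw
      obtain ⟨a', ha', r', hr', y', hy'⟩ := hw'
      refine c1 i j hij a r a' r' (y'⁻¹ * y) ha.1 (fun h => ha.2 h) hr ha'.1 (fun h => ha'.2 h) hr' ?_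
      calc y'⁻¹ * y * (a * r) * (y'⁻¹ * y)⁻¹ = y'⁻¹ * (y * (a * r) * y⁻¹) * y' := by group
        _ = y'⁻¹ * (y' * (a' * r') * y'⁻¹) * y' := by rw [← hy, hy']
        _ = a' * r' := by group
  have hsum : (⋃ o, s o).ncard = CZ.ncard + ∑ i, (T i).ncard := by
    rw [Set.ncard_iUnion_of_finite (fun o => Set.toFinite _) hpair, finsum_eq_sum_of_fintype,
      Fintype.sum_option]
    rfl
  have hF : CZ.ncard + ∑ i, (T i).ncard ≤ Nat.card G := by
    rw [← hsum]; exact Set.ncard_le_card _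
  -- cardinalities
  have hζ : 0 < Nat.card Z := Nat.card_pos
  have hN : Nat.card G = Nat.card Z * Z.index := (Subgroup.card_mul_index Z).symm
  have hk : 0 < Z.index := Nat.pos_of_ne_zero Subgroup.index_ne_zero_of_finite
  have hA' : CZ.ncard * Nat.card Z = Nat.card G * Zh.ncard := by
    rw [← Nat.card_coe_set_eq CZ, ← Nat.card_coe_set_eq Zh]; exact hA
  have hCc : ∀ i, Nat.card (H i) * Nat.card (sigmaCore (H i) ⊓ Z : Subgroup G) =
      Nat.card (sigmaCore (H i)) * Nat.card Z := by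
    intro i
    have hnorm : Z ≤ normalizer ((sigmaCore (H i) : Subgroup G) : Set G) :=
      (hZ i).trans (Cfsg.Agent.Lib.Helper24.BG.le_normalizer_sigmaCore (H i))
    have h1 := Cfsg.Agent.Lib.Helper10.card_sup_mul_card_inf hnorm
    have h2 : Z ⊔ sigmaCore (H i) = H i :=
      le_antisymm (sup_le (hZ i) (hVH i)) (by rw [sup_comm]; exact hVZ i)
    rw [h2, inf_comm] at h1
    rw [h1]; ring
  have hNm : ∀ i, Nat.card G = Nat.card (H i) * (H i).index :=
    fun i => (Subgroup.card_mul_index (H i)).symm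
  have hfpos : ∀ i, 0 < Nat.card (sigmaCore (H i) ⊓ Z : Subgroup G) := fun i => Nat.card_pos
  have hE : ∀ i, 3 * Nat.card (sigmaCore (H i) ⊓ Z : Subgroup G) ≤ Nat.card (sigmaCore (H i)) := by
    intro i
    have hle : sigmaCore (H i) ⊓ Z ≤ sigmaCore (H i) := inf_le_left
    obtain ⟨t, ht⟩ := Subgroup.card_dvd_of_le hle
    have hVodd : Odd (Nat.card (sigmaCore (H i))) :=
      Odd.of_dvd_nat hodd (Subgroup.card_subgroup_dvd_card _)
    have htodd : Odd t := by
      rw [ht] at hVodd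
      exact (Nat.odd_mul.mp hVodd).2
    have ht1 : t ≠ 1 := by
      intro h1
      rw [h1, mul_one] at ht
      have heq : sigmaCore (H i) ⊓ Z = sigmaCore (H i) :=
        Subgroup.eq_of_le_of_card_ge hle (le_of_eq ht)
      have hVZ' : sigmaCore (H i) ≤ Z := by rw [← heq]; exact inf_le_right
      have hHZ : H i ≤ Z := (hVZ i).trans (sup_le hVZ' le_rfl)
      obtain ⟨j, hij⟩ : ∃ j, i ≠ j := by
        by_cases h : i = i₀
        · exact ⟨i₁, h ▸ h01⟩
        · exact ⟨i₀, h⟩
      have hHij : H i ≤ H j := hHZ.trans (hZ j)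
      have hHeq : H i = H j := by
        rcases eq_or_lt_of_le hHij with h | h
        · exact h
        · exact absurd ((hH i).2 _ h) (hH j).1
      apply hnc i j hij 1
      rw [← hHeq]
      exact (cj_one (H i)).symm
    have ht3 : 3 ≤ t := by
      obtain ⟨w, hw⟩ := htodd
      omega
    rw [ht]
    calc 3 * Nat.card (sigmaCore (H i) ⊓ Z : Subgroup G)
        = Nat.card (sigmaCore (H i) ⊓ Z : Subgroup G) * 3 := by ring
      _ ≤ Nat.card (sigmaCore (H i) ⊓ Z : Subgroup G) * t := Nat.mul_le_mul_left _ ht3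
  have hD : Nat.card Z + Fintype.card ι ≤
      Zh.ncard + 1 + ∑ i, Nat.card (sigmaCore (H i) ⊓ Z : Subgroup G) := by
    have hcov : (Z : Set G) ⊆ Zh ∪ ({1} ∪ ⋃ i, (((sigmaCore (H i) ⊓ Z : Subgroup G) : Set G) \ {1})) := by
      intro z hz
      by_cases h1 : z = 1
      · right; left; exact h1
      · by_cases h2 : ∀ i, z ∉ sigmaCore (H i)
        · left; exact ⟨hz, h2⟩
        · push Not at h2
          obtain ⟨i, hi⟩ := h2
          right; right
          rw [Set.mem_iUnion]
          exact ⟨i, ⟨hi, hz⟩, h1⟩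
    have h1 : (Z : Set G).ncard ≤ _ := Set.ncard_le_ncard hcov (Set.toFinite _)
    have h2 := Set.ncard_union_le Zh ({1} ∪ ⋃ i, (((sigmaCore (H i) ⊓ Z : Subgroup G) : Set G) \ {1}))
    have h3 := Set.ncard_union_le ({1} : Set G) (⋃ i, (((sigmaCore (H i) ⊓ Z : Subgroup G) : Set G) \ {1}))
    have h4 := Set.ncard_iUnion_le_of_fintype
      (fun i => (((sigmaCore (H i) ⊓ Z : Subgroup G) : Set G) \ {1}))
    have h5 : ∀ i, ((((sigmaCore (H i) ⊓ Z : Subgroup G) : Set G) \ {1})).ncard + 1 =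
        Nat.card (sigmaCore (H i) ⊓ Z : Subgroup G) := by
      intro i
      rw [Set.ncard_sdiff_singleton_add_one (Subgroup.one_mem _) (Set.toFinite _)]
      exact Nat.card_coe_set_eq _ |>.symm
    have h6 : ∑ i, ((((sigmaCore (H i) ⊓ Z : Subgroup G) : Set G) \ {1})).ncard + Fintype.card ι =
        ∑ i, Nat.card (sigmaCore (H i) ⊓ Z : Subgroup G) := by
      have : Fintype.card ι = ∑ _i : ι, 1 := by simp
      rw [this, ← Finset.sum_add_distrib]
      exact Finset.sum_congr rfl (fun i _ => h5 i)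
    have h7 : (Z : Set G).ncard = Nat.card Z := (Nat.card_coe_set_eq _).symm
    have h8 : ({1} : Set G).ncard = 1 := Set.ncard_singleton 1
    omega
  have hι : 2 ≤ Fintype.card ι := Fintype.one_lt_card_iff.mpr ⟨i₀, i₁, h01⟩
  have hF' : CZ.ncard + ∑ i, (Nat.card (sigmaCore (H i)) - 1) * (H i).index ≤ Nat.card G := by
    have : ∀ i, (T i).ncard = (Nat.card (sigmaCore (H i)) - 1) * (H i).index :=
      fun i => h77 (H i) (hH i)
    rw [← Finset.sum_congr rfl (fun i _ => this i)]
    exact hF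
  exact arith hι (Nat.card G) (Nat.card Z) Z.index Zh.ncard CZ.ncard
    (fun i => Nat.card (sigmaCore (H i))) (fun i => Nat.card (sigmaCore (H i) ⊓ Z : Subgroup G))
    (fun i => (H i).index) (fun i => Nat.card (H i)) hζ hN hk hA' hCc hNm hD hE hfpos hF'

end main

end Cfsg.Agent.Lib.Helper22.StarCount
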