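import Mathlib
import Cfsg.Prelude.Def_OddOrderLocal
import Cfsg.Agent.Lib.Helper47.BG147P
import Cfsg.Agent.S1353
import Cfsg.Agent.S1430
import Cfsg.Agent.S1431
import Cfsg.Agent.S1432
import Cfsg.Agent.Lib.Helper10.BG145c
import Cfsg.Agent.Lib.Helper64.BG127g
import Cfsg.Agent.Lib.Helper22.StarCount
import Cfsg.Agent.Lib.Helper35.HallFusion
import Cfsg.Agent.Lib.Helper23.LargeFitA

set_option autoImplicit false
set_option linter.style.haveILetI false
set_option linter.unusedSectionVars false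
set_option linter.unusedVariables false

/-!
# `F(M)` is a TI-subset for `M = K U M_σ` with `K ≠ 1`, `U ≠ 1` (S1372), directly

No use of B&G 15.7.  `W := M_σ` is nilpotent with `|W| = |K*| ^ |K|` (helper47, BG147P) and
`C_W(U) = 1` (S1360).  For `g ∉ M` and `y ∈ F(M)` of prime order `r` with `g y g⁻¹ ∈ F(M)`:
* `r ∉ σ(M)`: `y` centralizes `W`; S1432 makes `M` the only maximal subgroup over `C_G(y)`
  (the `κ` alternative is killed by S1430(1) + S1431(3)), the same for `g y g⁻¹`, so `g ∈ M`.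
* `r ∈ σ(M)`: `C_G(y) ≰ M` (S1404), so BG 14.4(a) gives a maximal `L ≠ M` over `C_G(y)` with
  `r ∈ τ₂(L)`; S1431(3) forces `W` to be an `r`-group, and `Ω₁(Z(W)) ≤ C_G(y) ≤ L` has order
  `|C_Ω(K)| ^ |K| ≥ r ^ 3` (S1446), against `r ∈ τ₂(L)`.
-/

namespace Cfsg.Agent.Lib.Helper22.BG1372

open Subgroup Cfsg Cfsg.Agent.Lib.Helper33

universe u

variable {G : Type u} [Group G] [Finite G]

/-- the hypotheses of S1372 -/
structure P2 (M K U : Subgroup G) : Prop where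
  hG : IsMinSimpleOddOrder G
  hM : IsCoatom M
  hKU : IsSigmaDecomposition M K U
  hK1 : K ≠ ⊥
  hU1 : U ≠ ⊥

/-- `Ω₁(Z(W))` for the exponent `r`: the elements `z` of `W` with `z ^ r = 1` commuting with
all of `W`. -/
def omegaZ (r : ℕ) (W : Subgroup G) : Subgroup G where
  carrier := {z | z ∈ W ∧ z ^ r = 1 ∧ ∀ w ∈ W, z * w = w * z}
  one_mem' := ⟨W.one_mem, one_pow _, fun w _ => by simp⟩
  mul_mem' := by
    rintro a b ⟨ha, har, hac⟩ ⟨hb, hbr, hbc⟩
    refine ⟨W.mul_mem ha hb, ?_, ?_⟩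
    · have hcm : Commute a b := hac b hb
      rw [hcm.mul_pow, har, hbr, one_mul]
    · intro w hw
      rw [mul_assoc, hbc w hw, ← mul_assoc, hac w hw, mul_assoc]
  inv_mem' := by
    rintro a ⟨ha, har, hac⟩
    refine ⟨W.inv_mem ha, by rw [inv_pow, har, inv_one], ?_⟩
    intro w hw
    have h1 := hac w hw
    calc a⁻¹ * w = a⁻¹ * (w * a) * a⁻¹ := by group
      _ = a⁻¹ * (a * w) * a⁻¹ := by rw [h1]
      _ = w * a⁻¹ := by group

theorem mem_omegaZ {r : ℕ} {W : Subgroup G} {z : G} :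
    z ∈ omegaZ r W ↔ z ∈ W ∧ z ^ r = 1 ∧ ∀ w ∈ W, z * w = w * z := Iff.rfl

theorem omegaZ_le (r : ℕ) (W : Subgroup G) : omegaZ r W ≤ W := fun _ hz => hz.1

theorem omegaZ_conj_mem {r : ℕ} {W : Subgroup G} {n z : G} (hn : n ∈ normalizer (W : Set G))
    (hz : z ∈ omegaZ r W) : n * z * n⁻¹ ∈ omegaZ r W := by
  obtain ⟨hzW, hzr, hzc⟩ := hz
  refine ⟨((mem_normalizer_iff.mp hn) z).mp hzW, ?_, ?_⟩
  · rw [conj_pow, hzr]; simp
  · intro w hw
    have hw' : n⁻¹ * w * n ∈ W := by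
      have h1 := ((mem_normalizer_iff.mp ((normalizer (W : Set G)).inv_mem hn)) w).mp hw
      simpa using h1
    have h2 := hzc _ hw'
    calc n * z * n⁻¹ * w = n * (z * (n⁻¹ * w * n)) * n⁻¹ := by group
      _ = n * ((n⁻¹ * w * n) * z) * n⁻¹ := by rw [h2]
      _ = w * (n * z * n⁻¹) := by group

theorem omegaZ_normal {r : ℕ} {W N : Subgroup G} (hN : N ≤ normalizer (W : Set G)) :
    N ≤ normalizer ((omegaZ r W : Subgroup G) : Set G) := by
  intro n hn
  rw [mem_normalizer_iff]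
  intro z
  constructor
  · exact omegaZ_conj_mem (hN hn)
  · intro hz
    have h1 := omegaZ_conj_mem (r := r) ((normalizer (W : Set G)).inv_mem (hN hn)) hz
    have h2 : n⁻¹ * (n * z * n⁻¹) * n⁻¹⁻¹ = z := by group
    rwa [h2] at h1

theorem omegaZ_isPGroup {r : ℕ} (W : Subgroup G) : IsPGroup r ↥(omegaZ r W) := by
  intro z
  refine ⟨1, ?_⟩
  apply Subtype.ext
  rw [pow_one, Subgroup.coe_pow]
  exact z.2.2.1

theorem omegaZ_ne_bot {r : ℕ} [hr : Fact r.Prime] {W : Subgroup G} (hW : IsPGroup r W)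
    (hW1 : W ≠ ⊥) : omegaZ r W ≠ ⊥ := by
  haveI : Nontrivial W := (Subgroup.nontrivial_iff_ne_bot W).mpr hW1
  haveI : Nontrivial (center W) := hW.center_nontrivial
  have hZp : IsPGroup r (center W) := hW.to_subgroup (center W)
  obtain ⟨n, hn⟩ := IsPGroup.iff_card.mp hZp
  have hn0 : n ≠ 0 := by
    intro h0
    rw [h0, pow_zero] at hn
    exact (Finite.one_lt_card (α := center W)).ne' hn
  have hd : r ∣ Nat.card (center W) := by rw [hn]; exact dvd_pow_self r hn0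
  obtain ⟨z, hz⟩ := exists_prime_orderOf_dvd_card' r hd
  intro hbot
  have hmem : ((z : W) : G) ∈ omegaZ r W := by
    refine ⟨(z : W).2, ?_, ?_⟩
    · have h1 : z ^ r = 1 := by rw [← hz]; exact pow_orderOf_eq_one z
      have h2 := congrArg (fun t : center W => ((t : W) : G)) h1
      simpa using h2
    · intro w hw
      have h1 := (Subgroup.mem_center_iff.mp z.2) ⟨w, hw⟩
      have h2 := congrArg Subtype.val h1
      simpa using h2.symm
  rw [hbot, Subgroup.mem_bot] at hmem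
  have h3 : z = 1 := Subtype.ext (Subtype.ext hmem)
  rw [h3, orderOf_one] at hz
  exact hr.out.one_lt.ne hz

namespace P2

variable {M K U : Subgroup G}

theorem hσ (h : P2 M K U) : IsPiHallOf (sigma M) (sigmaCore M) M :=
  Cfsg.Agent.Lib.Helper47.BG11.sigmaHallIn_of_coatom h.hG h.hM

theorem hWM (h : P2 M K U) : sigmaCore M ≤ M := h.hσ.1

theorem hNW (h : P2 M K U) : M ≤ normalizer ((sigmaCore M : Subgroup G) : Set G) :=
  Cfsg.Agent.Lib.Helper76.BGSigU.le_normalizer_sigmaCore' M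

theorem hW1 (h : P2 M K U) : sigmaCore M ≠ ⊥ :=
  Cfsg.Agent.Lib.Helper19.BG124.sigmaCore_ne_bot h.hG h.hM

theorem hreg (h : P2 M K U) : ∀ k ∈ K, k ≠ 1 → U ⊓ centralizer ({k} : Set G) = ⊥ :=
  Cfsg.Agent.S1353.result h.hG M h.hM K U h.hKU

theorem hsp (h : P2 M K U) : ∀ k ∈ K, k ≠ 1 → sigmaCore M ⊓ centralizer ({k} : Set G) =
    sigmaCore M ⊓ centralizer (K : Set G) :=
  (Cfsg.Agent.S1430.result h.hG M h.hM K h.hKU.hall h.hK1).1

theorem main (h : P2 M K U) : (Nat.card K).Prime ∧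
    Nat.card (sigmaCore M) =
      Nat.card ↥(sigmaCore M ⊓ centralizer (K : Set G)) ^ Nat.card K ∧
    Group.IsNilpotent (sigmaCore M) :=
  Cfsg.Agent.Lib.Helper47.BG147P.card_prime_of_U_ne_bot h.hG h.hM h.hKU h.hK1 h.hU1 h.hreg h.hsp

theorem W_le_fit (h : P2 M K U) : sigmaCore M ≤ fittingOf M :=
  Cfsg.Agent.Lib.Helper64.BG127.le_fittingOf_of_normal_nilpotent h.hWM h.hNW h.main.2.2

/-- conjugates by elements of `M` stay in `M_σ` -/
theorem conj_mem_W (h : P2 M K U) {m w : G} (hm : m ∈ M) (hw : w ∈ sigmaCore M) :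
    m * w * m⁻¹ ∈ sigmaCore M :=
  ((mem_normalizer_iff.mp (h.hNW hm)) w).mp hw

/-- `C_{M_σ}(U) = 1` -/
theorem cent_U (h : P2 M K U) : sigmaCore M ⊓ centralizer (U : Set G) = ⊥ := by
  obtain ⟨U₀, hU₀U, hexp, hU₀⟩ := Cfsg.Agent.S1360.result h.hG M h.hM K U h.hKU
  have hUM : U ≤ M := h.hKU.compl.1
  have hU₀1 : U₀ ≠ ⊥ := by
    intro h0
    have h1 : Monoid.exponent U = 1 := by
      rw [← hexp, h0]
      exact Monoid.exp_eq_one_iff.mpr inferInstance
    have h2 : Subsingleton U := Monoid.exp_eq_one_iff.mp h1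
    apply h.hU1
    rw [eq_bot_iff]
    intro z hz
    have h3 : (⟨z, hz⟩ : U) = 1 := Subsingleton.elim _ _
    rw [Subgroup.mem_bot]
    exact congrArg Subtype.val h3
  obtain ⟨u', hu'⟩ := (Subgroup.ne_bot_iff_exists_ne_one).mp hU₀1
  have hu : (u' : G) ∈ U₀ := u'.2
  have hu1 : (u' : G) ≠ 1 := fun h => hu' (Subtype.ext h)
  rw [eq_bot_iff]
  intro y hy
  rw [Subgroup.mem_bot]
  by_contra hy1
  apply hu1
  apply hU₀ (u' : G) hu
  refine ⟨hUM (hU₀U hu), y, hy.1, hy1, ?_⟩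
  exact mem_centralizer_iff.mp hy.2 (u' : G) (hU₀U hu)

/-- an element of `F(M)` of prime order outside `σ(M)` centralizes `M_σ` -/
theorem commute_of_nonsigma (h : P2 M K U) {y : G} (hy : y ∈ fittingOf M) {r : ℕ} (hr : r.Prime)
    (hyr : y ^ r = 1) (hrσ : r ∉ sigma M) {w : G} (hw : w ∈ sigmaCore M) : y * w = w * y := by
  haveI : Group.IsNilpotent ↥(fittingOf M) := Cfsg.Agent.Lib.Helper23.isNilpotent_fittingOf M
  have hcop : Nat.Coprime r (Nat.card (sigmaCore M)) :=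
    (Nat.Prime.coprime_iff_not_dvd hr).mpr (fun hd => hrσ (h.hσ.2.1 r hr hd))
  have hwc : w ^ Nat.card (sigmaCore M) = 1 := by
    have h1 : (⟨w, hw⟩ : sigmaCore M) ^ Nat.card (sigmaCore M) = 1 := pow_card_eq_one'
    have h2 := congrArg Subtype.val h1
    rwa [Subgroup.coe_pow] at h2
  have hc := Cfsg.Agent.Lib.Helper35.commute_of_coprime_of_isNilpotent ↥(fittingOf M)
    (⟨y, hy⟩ : fittingOf M) (⟨w, h.W_le_fit hw⟩ : fittingOf M) r (Nat.card (sigmaCore M))
    (Subtype.ext (by simpa using hyr)) (Subtype.ext (by simpa using hwc)) hcop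
  have := congrArg Subtype.val hc.eq
  simpa using this

theorem card_Ks_ne_one (h : P2 M K U) :
    Nat.card ↥(sigmaCore M ⊓ centralizer (K : Set G)) ≠ 1 := by
  intro h1
  have h2 := h.main.2.1
  rw [h1, one_pow] at h2
  exact h.hW1 (Subgroup.card_eq_one.mp h2)

/-- no non-identity element of `K` centralizes `M_σ` -/
theorem not_W_le_cent (h : P2 M K U) {k : G} (hk : k ∈ K) (hk1 : k ≠ 1)
    (hc : ∀ w ∈ sigmaCore M, k * w = w * k) : False := by
  have h1 : sigmaCore M ≤ sigmaCore M ⊓ centralizer (K : Set G) := by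
    rw [← h.hsp k hk hk1]
    intro w hw
    refine Subgroup.mem_inf.mpr ⟨hw, ?_⟩
    rw [mem_centralizer_iff]
    intro x hx
    rw [Set.mem_singleton_iff] at hx
    subst hx
    exact hc w hw
  obtain ⟨p, hp, hpd⟩ := Nat.exists_prime_and_dvd h.card_Ks_ne_one
  haveI : Fact p.Prime := ⟨hp⟩
  obtain ⟨S⟩ : Nonempty (Sylow p ↥(sigmaCore M)) := inferInstance
  have h3 := ((Cfsg.Agent.S1431.result h.hG M h.hM K h.hKU.hall h.hK1).2.2.1 p hp hpd S).2.2
  apply h3
  exact (Subgroup.map_subtype_le _).trans h1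

/-- for `y ∈ F(M)` of prime order outside `σ(M)`, `M` is the only maximal subgroup over
`C_G(y)` -/
theorem unique_of_nonsigma (h : P2 M K U) {y : G} (hy : y ∈ fittingOf M)
    (hyp : (orderOf y).Prime) (hrσ : orderOf y ∉ sigma M) :
    centralizer ({y} : Set G) ≤ M ∧
      ∀ L : Subgroup G, IsCoatom L → centralizer ({y} : Set G) ≤ L → L = M := by
  have hyM : y ∈ M := Cfsg.Agent.Lib.Helper23.fittingOf_le M hy
  have hy1 : y ≠ 1 := by
    intro h0
    rw [h0, orderOf_one] at hyp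
    exact Nat.not_prime_one hyp
  obtain ⟨x0', hx0'⟩ := (Subgroup.ne_bot_iff_exists_ne_one).mp h.hW1
  have hx0 : (x0' : G) ∈ sigmaCore M := x0'.2
  have hx01 : (x0' : G) ≠ 1 := fun h0 => hx0' (Subtype.ext h0)
  have hycent : ∀ w ∈ sigmaCore M, y * w = w * y := fun w hw =>
    h.commute_of_nonsigma hy hyp (pow_orderOf_eq_one y) hrσ hw
  have hy' : y ∈ M ⊓ centralizer ({(x0' : G)} : Set G) := by
    refine Subgroup.mem_inf.mpr ⟨hyM, ?_⟩
    rw [mem_centralizer_iff]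
    intro x hx
    rw [Set.mem_singleton_iff] at hx
    subst hx
    exact (hycent _ hx0).symm
  have hσ' : ∀ p : ℕ, p.Prime → p ∣ orderOf y → p ∉ sigma M := by
    intro p hp hd
    rw [(Nat.prime_dvd_prime_iff_eq hp hyp).mp hd]
    exact hrσ
  rcases Cfsg.Agent.S1432.result h.hG M h.hM (x0' : G) hx0 hx01 y hy' hy1 hσ' with h1 | h2
  · exfalso
    have hrκ : orderOf y ∈ kappa M := h1.1 _ hyp dvd_rfl
    haveI : Fact (orderOf y).Prime := ⟨hyp⟩
    have hQ : IsPGroup (orderOf y) (zpowers y) := by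
      apply IsPGroup.of_card (n := 1)
      rw [Nat.card_zpowers, pow_one]
    have hQM : zpowers y ≤ M := by
      rw [zpowers_le]; exact hyM
    obtain ⟨m, hmM, hm⟩ := Cfsg.Agent.Lib.Helper76.BGSigU.exists_conj_le_of_not_dvd
      h.hKU.hall.1 (h.hKU.hall.2.2 _ hyp hrκ) hQ hQM
    have hk : m⁻¹ * y * m ∈ K := hm y (mem_zpowers y)
    have hk1 : m⁻¹ * y * m ≠ 1 := by
      intro h0
      apply hy1
      have : y = m * (m⁻¹ * y * m) * m⁻¹ := by group
      rw [this, h0]; simp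
    refine h.not_W_le_cent hk hk1 ?_
    intro w hw
    have hw' : m * w * m⁻¹ ∈ sigmaCore M := h.conj_mem_W hmM hw
    have h3 := hycent _ hw'
    calc m⁻¹ * y * m * w = m⁻¹ * (y * (m * w * m⁻¹)) * m := by group
      _ = m⁻¹ * ((m * w * m⁻¹) * y) * m := by rw [h3]
      _ = w * (m⁻¹ * y * m) := by group
  · exact h2.2.2

/-- the case `r ∉ σ(M)` -/
theorem nonsigma_false (h : P2 M K U) {g y : G} (hg : g ∉ M) (hy : y ∈ fittingOf M)
    (hyp : (orderOf y).Prime) (hrσ : orderOf y ∉ sigma M) (hgy : g * y * g⁻¹ ∈ fittingOf M) :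
    False := by
  have ho : orderOf (g * y * g⁻¹) = orderOf y := StarCount.orderOf_conj_sc g y
  have h1 := h.unique_of_nonsigma hy hyp hrσ
  have h2 := h.unique_of_nonsigma hgy (by rw [ho]; exact hyp) (by rw [ho]; exact hrσ)
  have h3 : centralizer ({y} : Set G) ≤ cj g⁻¹ M := by
    rw [← cj_le_iff, ← StarCount.centralizer_singleton_cj]
    exact h2.1
  have h4 : cj g⁻¹ M = M := h1.2 _ (StarCount.isCoatom_cj' g⁻¹ h.hM) h3
  have h5 : g⁻¹ ∈ normalizer (M : Set G) := cj_eq_self_iff.mp h4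
  have hM1 : M ≠ ⊥ := fun h0 => h.hW1 (by rw [eq_bot_iff, ← h0]; exact h.hWM)
  have h6 : normalizer (M : Set G) = M :=
    Cfsg.Agent.Lib.Helper23.normalizer_eq_of_isCoatom h.hG h.hM hM1 le_rfl le_normalizer
  rw [h6] at h5
  exact hg (by simpa using M.inv_mem h5)

/-- `M_σ` is an `r`-group as soon as some `y ∈ M_σ` of prime order `r` has `C_G(y)` inside a
maximal subgroup other than `M` -/
theorem W_rgroup (h : P2 M K U) {y : G} (hy : y ∈ sigmaCore M) {r : ℕ} (hr : r.Prime)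
    (hyr : y ^ r = 1) {L : Subgroup G} (hL : IsCoatom L) (hLM : L ≠ M)
    (hCL : centralizer ({y} : Set G) ≤ L) :
    ∀ s : ℕ, s.Prime → s ∣ Nat.card (sigmaCore M) → s = r := by
  intro s hs hsd
  by_contra hsr
  haveI : Fact s.Prime := ⟨hs⟩
  have hsK : s ∣ Nat.card ↥(sigmaCore M ⊓ centralizer (K : Set G)) := by
    rw [h.main.2.1] at hsd
    exact hs.dvd_of_dvd_pow hsd
  obtain ⟨S⟩ : Nonempty (Sylow s ↥(sigmaCore M)) := inferInstance
  obtain ⟨huniq, hle, -⟩ :=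
    (Cfsg.Agent.S1431.result h.hG M h.hM K h.hKU.hall h.hK1).2.2.1 s hs hsK S
  haveI : Group.IsNilpotent ↥(sigmaCore M) := h.main.2.2
  have hSL : (S : Subgroup ↥(sigmaCore M)).map (sigmaCore M).subtype ≤ L := by
    refine le_trans ?_ hCL
    rintro _ ⟨z, hz, rfl⟩
    obtain ⟨n, hn⟩ := S.isPGroup' ⟨z, hz⟩
    have hzn : z ^ (s ^ n) = 1 := by
      have h1 := congrArg Subtype.val hn
      rwa [Subgroup.coe_pow] at h1
    have hcop : Nat.Coprime r (s ^ n) :=
      Nat.Coprime.pow_right n ((Nat.coprime_primes hr hs).mpr (Ne.symm hsr))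
    have hc := Cfsg.Agent.Lib.Helper35.commute_of_coprime_of_isNilpotent ↥(sigmaCore M)
      (⟨y, hy⟩ : sigmaCore M) z r (s ^ n) (Subtype.ext (by simpa using hyr)) hzn hcop
    rw [mem_centralizer_iff]
    intro x hx
    rw [Set.mem_singleton_iff] at hx
    subst hx
    have h2 := congrArg Subtype.val hc.eq
    simpa using h2
  obtain ⟨M', -, hM'⟩ := huniq
  have e1 := hM' M ⟨h.hM, hle⟩
  have e2 := hM' L ⟨hL, hSL⟩
  exact hLM (e2.trans e1.symm)

/-- the case `r ∈ σ(M)` -/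
theorem sigma_false (h : P2 M K U) {g y : G} (hg : g ∉ M) (hy : y ∈ fittingOf M)
    (hyp : (orderOf y).Prime) (hrσ : orderOf y ∈ sigma M) (hgy : g * y * g⁻¹ ∈ fittingOf M) :
    False := by
  haveI : Fact (orderOf y).Prime := ⟨hyp⟩
  have hyM : y ∈ M := Cfsg.Agent.Lib.Helper23.fittingOf_le M hy
  have hgyM : g * y * g⁻¹ ∈ M := Cfsg.Agent.Lib.Helper23.fittingOf_le M hgy
  have hy1 : y ≠ 1 := by
    intro h0
    rw [h0, orderOf_one] at hyp
    exact Nat.not_prime_one hyp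
  have hyW : y ∈ sigmaCore M := by
    apply StarCount.mem_sigmaCore_of_orderOf h.hG h.hM hyM
    intro p hp hd
    rw [(Nat.prime_dvd_prime_iff_eq hp hyp).mp hd]
    exact hrσ
  have hCy : ¬ centralizer ({y} : Set G) ≤ M := fun hC =>
    hg (StarCount.mem_of_conj_mem h.hG h.hM hyW hyp hC hgyM)
  obtain ⟨L, hctx, hτ⟩ := Cfsg.Agent.Lib.Helper10.BG145.exists_ctx2 h.hG h.hM hyW hy1
  have hLM : L ≠ M := fun h0 => hCy (h0 ▸ hctx.hCL)
  obtain ⟨q, hq, hqd, hqτ⟩ := hτ hLM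
  have hqr : q = orderOf y := (Nat.prime_dvd_prime_iff_eq hq hyp).mp hqd
  rw [hqr] at hqτ
  have hrank : PRankLE (orderOf y) 2 ↥L := hqτ.2.2.1
  have hyr : y ^ orderOf y = 1 := pow_orderOf_eq_one y
  have hWr := h.W_rgroup hyW hyp hyr hctx.hL hLM hctx.hCL
  have hWp : IsPGroup (orderOf y) ↥(sigmaCore M) := by
    have hc0 : Nat.card (sigmaCore M) ≠ 0 := Nat.card_pos.ne'
    have h1 := Nat.eq_prime_pow_of_unique_prime_dvd hc0 (fun {d} hd hdd => hWr d hd hdd)
    exact IsPGroup.of_card h1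
  have hΩ1 : omegaZ (orderOf y) (sigmaCore M) ≠ ⊥ := omegaZ_ne_bot hWp h.hW1
  have hΩW : omegaZ (orderOf y) (sigmaCore M) ≤ sigmaCore M := omegaZ_le _ _
  have hΩp : IsPGroup (orderOf y) ↥(omegaZ (orderOf y) (sigmaCore M)) := omegaZ_isPGroup _
  have hΩL : omegaZ (orderOf y) (sigmaCore M) ≤ L := by
    intro z hz
    apply hctx.hCL
    rw [mem_centralizer_iff]
    intro x hx
    rw [Set.mem_singleton_iff] at hx
    subst hx
    exact (hz.2.2 x hyW).symm
  have hMΩ : M ≤ normalizer ((omegaZ (orderOf y) (sigmaCore M) : Subgroup G) : Set G) :=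
    omegaZ_normal h.hNW
  have hUM : U ≤ M := h.hKU.compl.1
  have hKM : K ≤ M := h.hKU.hall.1
  have hE : IsComplIn (U ⊔ K) (sigmaCore M) M :=
    Cfsg.Agent.Lib.Helper76.BGSigU.isComplIn_UK h.hσ h.hKU
  have hcop : (Nat.card ↥(U ⊔ K)).Coprime (Nat.card (sigmaCore M)) :=
    Cfsg.Agent.Lib.Helper70.BG1216.coprime_card_compl h.hσ hE
  have hUKM : U ⊔ K ≤ M := sup_le hUM hKM
  have hUKtop : U ⊔ K ≠ ⊤ := fun h0 => h.hM.1 (top_le_iff.mp (h0 ▸ hUKM))
  have hsolv : Group.IsSolvable ↥(U ⊔ K) :=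
    Cfsg.Agent.Lib.Helper23.isSolvable_of_ne_top h.hG hUKtop
  have hodd : Odd (Nat.card ↥(U ⊔ K)) := Cfsg.Agent.Lib.Helper23.odd_card_subgroup h.hG _
  have hKR : U ⊓ K = ⊥ := by
    rw [eq_bot_iff, ← h.hKU.compl.2.2.1]
    exact inf_le_inf_left U le_sup_left
  have hcopΩ : (Nat.card ↥(U ⊔ K)).Coprime (Nat.card (omegaZ (orderOf y) (sigmaCore M))) :=
    Nat.Coprime.coprime_dvd_right (Subgroup.card_dvd_of_le hΩW) hcop
  have hCΩ : omegaZ (orderOf y) (sigmaCore M) ⊓ centralizer (U : Set G) = ⊥ := by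
    rw [eq_bot_iff, ← h.cent_U]
    exact inf_le_inf_right _ hΩW
  have hprΩ : ∀ x ∈ K, x ≠ 1 →
      omegaZ (orderOf y) (sigmaCore M) ⊓ centralizer ({x} : Set G) =
        omegaZ (orderOf y) (sigmaCore M) ⊓ centralizer (K : Set G) := by
    intro x hx hx1
    have h1 := h.hsp x hx hx1
    have e1 : ∀ C : Subgroup G, omegaZ (orderOf y) (sigmaCore M) ⊓ C =
        omegaZ (orderOf y) (sigmaCore M) ⊓ (sigmaCore M ⊓ C) := by
      intro C
      rw [← inf_assoc, inf_eq_left.mpr hΩW]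
    rw [e1, h1, ← e1]
  obtain ⟨hkp, hcard, -⟩ := Cfsg.Agent.S1446.result (X := G) U K
    (omegaZ (orderOf y) (sigmaCore M)) h.hU1 h.hK1 hKR h.hKU.normal h.hreg hsolv hodd hΩ1
    hΩp.isNilpotent (hUM.trans hMΩ) (hKM.trans hMΩ) hcopΩ hCΩ hprΩ
  have hkodd : Odd (Nat.card K) := Cfsg.Agent.Lib.Helper23.odd_card_subgroup h.hG K
  have hk3 : 3 ≤ Nat.card K := by
    have h2 := hkp.two_le
    rcases hkodd with ⟨t, ht⟩
    omega
  have hcp : IsPGroup (orderOf y)
      ↥(omegaZ (orderOf y) (sigmaCore M) ⊓ centralizer (K : Set G)) := hΩp.to_le inf_le_left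
  obtain ⟨a, ha⟩ := IsPGroup.iff_card.mp hcp
  have ha0 : a ≠ 0 := by
    intro h0
    rw [h0, pow_zero] at ha
    rw [ha, one_pow] at hcard
    exact hΩ1 (Subgroup.card_eq_one.mp hcard)
  have hrc : orderOf y ≤
      Nat.card ↥(omegaZ (orderOf y) (sigmaCore M) ⊓ centralizer (K : Set G)) := by
    rw [ha]; exact Nat.le_self_pow ha0 _
  have hle : Nat.card (omegaZ (orderOf y) (sigmaCore M)) ≤ orderOf y ^ 2 := by
    have h1 := hrank ((omegaZ (orderOf y) (sigmaCore M)).subgroupOf L)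
      ⟨⟨fun a b => by
        apply Subtype.ext
        apply Subtype.ext
        have ha : (a : L).1 ∈ omegaZ (orderOf y) (sigmaCore M) := a.2
        have hb : (b : L).1 ∈ omegaZ (orderOf y) (sigmaCore M) := b.2
        exact ha.2.2 _ hb.1⟩⟩
      (fun a ha => by
        apply Subtype.ext
        have ha' : a.1 ∈ omegaZ (orderOf y) (sigmaCore M) := ha
        rw [Subgroup.coe_pow]
        exact ha'.2.1)
    rwa [Nat.card_congr (Subgroup.subgroupOfEquivOfLe hΩL).toEquiv] at h1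
  have h3 : orderOf y ^ 3 ≤ Nat.card (omegaZ (orderOf y) (sigmaCore M)) := by
    rw [hcard]
    calc orderOf y ^ 3
        ≤ Nat.card ↥(omegaZ (orderOf y) (sigmaCore M) ⊓ centralizer (K : Set G)) ^ 3 :=
          Nat.pow_le_pow_left hrc 3
      _ ≤ Nat.card ↥(omegaZ (orderOf y) (sigmaCore M) ⊓ centralizer (K : Set G)) ^ Nat.card K :=
          Nat.pow_le_pow_right Nat.card_pos hk3
  have h23 : orderOf y ^ 2 < orderOf y ^ 3 := Nat.pow_lt_pow_right hyp.one_lt (by norm_num)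
  omega

/-- **S1372, TI clause.** -/
theorem ti (h : P2 M K U) : IsTISubset (fittingOf M : Set G) := by
  intro g hg x hx hgx
  by_contra hx1
  have hgM : g ∉ M := fun hgM => hg (Cfsg.Agent.Lib.Helper23.le_normalizer_fittingOf M hgM)
  have ho1 : orderOf x ≠ 1 := fun h0 => hx1 (orderOf_eq_one_iff.mp h0)
  have ho0 : orderOf x ≠ 0 := (orderOf_pos x).ne'
  have hr : (orderOf x).minFac.Prime := Nat.minFac_prime ho1
  have hrd : (orderOf x).minFac ∣ orderOf x := Nat.minFac_dvd _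
  have hoy : orderOf (x ^ (orderOf x / (orderOf x).minFac)) = (orderOf x).minFac :=
    orderOf_pow_orderOf_div ho0 hrd
  have hy : x ^ (orderOf x / (orderOf x).minFac) ∈ fittingOf M := pow_mem hx _
  have hgy : g * x ^ (orderOf x / (orderOf x).minFac) * g⁻¹ ∈ fittingOf M := by
    rw [← conj_pow]
    exact pow_mem hgx _
  by_cases hσ : (orderOf x).minFac ∈ sigma M
  · exact h.sigma_false hgM hy (by rw [hoy]; exact hr) (by rw [hoy]; exact hσ) hgy
  · exact h.nonsigma_false hgM hy (by rw [hoy]; exact hr) (by rw [hoy]; exact hσ) hgy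

end P2

end Cfsg.Agent.Lib.Helper22.BG1372
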