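import Mathlib
import Cfsg.Statements.S2924

/-! # Definitions for the S2924 hive ("Oc"): `th y = O(C_X(y))` as a subgroup of `X`. -/

set_option autoImplicit false
open Cfsg Subgroup

namespace Cfsg.Agent.Lib.Helper22.Oc

universe u

/-- `θ(y) = O(C_X(y))` as a subgroup of `X`. -/
abbrev th {X : Type u} [Group X] (y : X) : Subgroup X :=
  (oddCore ↥(centralizer ({y} : Set X))).map (centralizer ({y} : Set X)).subtype

end Cfsg.Agent.Lib.Helper22.Oc
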