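import Mathlib
import Cfsg.Prelude.Def_Local
import Cfsg.Agent.Lib.Helper33.Conj
import Cfsg.Agent.Lib.Helper21.Components
import Cfsg.Agent.S3747

set_option autoImplicit false
set_option linter.style.haveILetI false

/-!
# Subgroups of the alternating group supported on a subset, and standard subgroups
-/

namespace Cfsg.Agent.Lib.Helper22.AltStd

open Equiv Equiv.Perm Subgroup
open Cfsg.Agent.Lib.Helper33
open scoped Pointwise commutatorElement

variable {α : Type*} [Fintype α] [DecidableEq α]

/-- `R s`: the even permutations supported in `s`. -/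
def R (s : Finset α) : Subgroup (alternatingGroup α) := (alternatingGroup.ofSubtype s).range

theorem mem_R {s : Finset α} {k : alternatingGroup α} :
    k ∈ R s ↔ (k : Perm α).support ⊆ s :=
  alternatingGroup.mem_range_ofSubtype_iff s k

theorem R_mono {s t : Finset α} (h : s ⊆ t) : R s ≤ R t := by
  intro k hk
  rw [mem_R] at hk ⊢
  exact hk.trans h

theorem R_inf (s t : Finset α) : R s ⊓ R t = R (s ∩ t) := by
  ext k
  rw [Subgroup.mem_inf, mem_R, mem_R, mem_R, Finset.subset_inter_iff]

theorem map_conj_R (s : Finset α) (g : alternatingGroup α) :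
    (R s).map (MulAut.conj g).toMonoidHom = R (g • s) := by
  have h1 := alternatingGroup.conj_smul_range_ofSubtype s g
  have h2 : (R s).map (MulAut.conj g).toMonoidHom = MulAut.conj g • R s := by
    rw [← cj_def, cj_eq_smul]
  rw [h2]
  exact h1

/-- the 3-cycle `(a b c)` as an element of the alternating group. -/
def tcA (a b c : α) (hab : a ≠ b) (hbc : b ≠ c) : alternatingGroup α :=
  ⟨swap a b * swap b c, by
    rw [mem_alternatingGroup, Perm.sign_mul, sign_swap hab, sign_swap hbc]
    rfl⟩

theorem tcA_coe (a b c : α) (hab : a ≠ b) (hbc : b ≠ c) :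
    ((tcA a b c hab hbc : alternatingGroup α) : Perm α) = swap a b * swap b c := rfl

theorem tcA_apply_left (a b c : α) (hab : a ≠ b) (hbc : b ≠ c) (hac : a ≠ c) :
    (tcA a b c hab hbc : Perm α) a = b := by
  rw [tcA_coe, Perm.mul_apply, swap_apply_of_ne_of_ne hab hac, swap_apply_left]

theorem tcA_apply_right (a b c : α) (hab : a ≠ b) (hbc : b ≠ c) :
    (tcA a b c hab hbc : Perm α) c = a := by
  rw [tcA_coe, Perm.mul_apply, swap_apply_right, swap_apply_right]

theorem tcA_apply_of_ne (a b c x : α) (hab : a ≠ b) (hbc : b ≠ c) (hxa : x ≠ a) (hxb : x ≠ b)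
    (hxc : x ≠ c) : (tcA a b c hab hbc : Perm α) x = x := by
  rw [tcA_coe, Perm.mul_apply, swap_apply_of_ne_of_ne hxb hxc, swap_apply_of_ne_of_ne hxa hxb]

theorem tcA_mem_R {s : Finset α} (a b c : α) (hab : a ≠ b) (hbc : b ≠ c) (ha : a ∈ s)
    (hb : b ∈ s) (hc : c ∈ s) : tcA a b c hab hbc ∈ R s := by
  rw [mem_R]
  intro x hx
  rw [Perm.mem_support] at hx
  by_contra hxs
  apply hx
  apply tcA_apply_of_ne
  · rintro rfl; exact hxs ha
  · rintro rfl; exact hxs hb
  · rintro rfl; exact hxs hc

/-- in a set with at least three elements, one finds two more elements besides a given one -/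
theorem exists_two_of_three_le {s : Finset α} (hs : 3 ≤ s.card) (x : α) :
    ∃ y ∈ s, ∃ z ∈ s, y ≠ x ∧ z ≠ x ∧ y ≠ z := by
  have h1 : 1 < (s.erase x).card := by
    have := Finset.pred_card_le_card_erase (s := s) (a := x)
    omega
  obtain ⟨y, hy, z, hz, hyz⟩ := Finset.one_lt_card.mp h1
  rw [Finset.mem_erase] at hy hz
  exact ⟨y, hy.2, z, hz.2, hy.1, hz.1, hyz⟩

/-- every point of `s` is moved by some element of `R s` (for `|s| ≥ 3`). -/
theorem R_le_iff {s t : Finset α} (hs : 3 ≤ s.card) : R s ≤ R t ↔ s ⊆ t := by
  refine ⟨fun h x hx => ?_, R_mono⟩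
  obtain ⟨y, hy, z, hz, hyx, hzx, hyz⟩ := exists_two_of_three_le hs x
  have h1 := h (tcA_mem_R x y z hyx.symm hyz hx hy hz)
  rw [mem_R] at h1
  apply h1
  rw [Perm.mem_support, tcA_apply_left x y z hyx.symm hyz hzx.symm]
  exact hyx

theorem R_injective {s t : Finset α} (hs : 3 ≤ s.card) (ht : 3 ≤ t.card) (h : R s = R t) :
    s = t :=
  Finset.Subset.antisymm ((R_le_iff hs).mp h.le) ((R_le_iff ht).mp h.ge)

/-- the centralizer of `R s` is `R sᶜ` when `|s| ≥ 4`. -/
theorem centralizer_R {s : Finset α} (hs : 4 ≤ s.card) :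
    centralizer ((R s : Subgroup (alternatingGroup α)) : Set (alternatingGroup α)) = R sᶜ := by
  ext σ
  constructor
  · intro hσ
    rw [mem_R]
    intro x hx
    rw [Finset.mem_compl]
    intro hxs
    rw [Perm.mem_support] at hx
    set y := (σ : Perm α) x with hy
    have hcomm : ∀ τ ∈ R s, (σ : Perm α) ((τ : Perm α) x) = (τ : Perm α) y := by
      intro τ hτ
      have h1 := mem_centralizer_iff.mp hσ τ hτ
      have h2 : ((τ * σ : alternatingGroup α) : Perm α) x =
          ((σ * τ : alternatingGroup α) : Perm α) x := by rw [h1]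
      simpa [Perm.mul_apply] using h2.symm
    by_cases hys : y ∈ s
    · -- choose z, w in s different from x, y
      have h2 : 1 < ((s.erase x).erase y).card := by
        have h3 := Finset.pred_card_le_card_erase (s := s) (a := x)
        have h4 := Finset.pred_card_le_card_erase (s := s.erase x) (a := y)
        omega
      obtain ⟨z, hz, w, hw, hzw⟩ := Finset.one_lt_card.mp h2
      simp only [Finset.mem_erase] at hz hw
      have h5 := hcomm _ (tcA_mem_R y z w hz.1.symm hzw hys hz.2.2 hw.2.2)
      rw [tcA_apply_of_ne y z w x hz.1.symm hzw (Ne.symm hx) hz.2.1.symm hw.2.1.symm,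
        tcA_apply_left y z w hz.1.symm hzw hw.1.symm] at h5
      exact hz.1 h5.symm
    · obtain ⟨z, hz, w, hw, hzx, hwx, hzw⟩ := exists_two_of_three_le (by omega : 3 ≤ s.card) x
      have h5 := hcomm _ (tcA_mem_R x z w hzx.symm hzw hxs hz hw)
      have hyz : y ≠ z := by rintro rfl; exact hys hz
      have hyw : y ≠ w := by rintro rfl; exact hys hw
      rw [tcA_apply_left x z w hzx.symm hzw hwx.symm,
        tcA_apply_of_ne x z w y hzx.symm hzw hx hyz hyw] at h5
      -- σ z = y = σ x, so z = x
      exact hzx ((σ : Perm α).injective h5)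
  · intro hσ
    rw [mem_R] at hσ
    rw [mem_centralizer_iff]
    intro τ hτ
    rw [SetLike.mem_coe, mem_R] at hτ
    apply Subtype.ext
    have hdisj : Perm.Disjoint (τ : Perm α) (σ : Perm α) := by
      rw [Perm.disjoint_iff_disjoint_support]
      rw [Finset.disjoint_left]
      intro x hx1 hx2
      have := hσ hx2
      rw [Finset.mem_compl] at this
      exact this (hτ hx1)
    exact hdisj.commute.eq

/-- `R s` is isomorphic to the alternating group on `s`. -/
noncomputable def equivR (s : Finset α) : alternatingGroup s ≃* R s :=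
  MonoidHom.ofInjective (alternatingGroup.ofSubtype_injective (s := s))

theorem card_R (s : Finset α) : Nat.card (R s) = Nat.card (alternatingGroup s) :=
  (Nat.card_congr (equivR s).toEquiv).symm

theorem odd_card_R {s : Finset α} (hs : s.card ≤ 3) : Odd (Nat.card (R s)) := by
  rw [card_R]
  have hc : Nat.card s = s.card := by simp
  cases subsingleton_or_nontrivial s with
  | inl h =>
    have : Subsingleton (alternatingGroup s) := inferInstance
    rw [Nat.card_unique]
    exact odd_one
  | inr h =>
    rw [nat_card_alternatingGroup, hc]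
    have h1 : 1 < s.card := by
      rw [← hc]; exact Finite.one_lt_card
    interval_cases s.card <;> decide

theorem even_card_R {s : Finset α} (hs : s.card = 4) : Even (Nat.card (R s)) := by
  rw [card_R]
  have hc : Nat.card s = s.card := by simp
  haveI : Nontrivial s := by
    rw [← Finite.one_lt_card_iff_nontrivial, hc, hs]; norm_num
  rw [nat_card_alternatingGroup, hc, hs]
  decide

theorem isQuasisimple_R {s : Finset α} (hs : 5 ≤ s.card) : Cfsg.IsQuasisimple ↥(R s) := by
  have hc : Nat.card s = s.card := by simp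
  have hsimple : IsSimpleGroup (alternatingGroup s) :=
    alternatingGroup.isSimpleGroup (by rw [hc]; exact hs)
  have hq : Cfsg.IsQuasisimple (alternatingGroup s) := by
    apply Cfsg.Agent.S3747.isQuasisimple_of_simple hsimple
    intro hnil
    -- a nilpotent simple group is commutative
    have hsolv : Group.IsSolvable (alternatingGroup s) := inferInstance
    have hcomm := (IsSimpleGroup.comm_iff_isSolvable (G := alternatingGroup s)).mpr hsolv
    have hmc : IsMulCommutative (alternatingGroup s) := ⟨⟨hcomm⟩⟩
    have := alternatingGroup.isMulCommutative_iff_card_le_three.mp hmc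
    rw [hc] at this
    omega
  exact Cfsg.Agent.Lib.Helper21.quasisimple_of_mulEquiv (equivR s) hq

theorem card_smul_finset' (g : alternatingGroup α) (s : Finset α) : (g • s).card = s.card :=
  Finset.card_smul_finset g s

/-- `R s` is a standard subgroup of `alternatingGroup α` when `|sᶜ| = 4`, `|s| ≥ 5`. -/
theorem isStandardSubgroup_R {s : Finset α} (hs : 5 ≤ s.card) (hsc : sᶜ.card = 4) :
    Cfsg.IsStandardSubgroup (R s) := by
  have hn : Fintype.card α = s.card + 4 := by
    rw [← hsc, Finset.card_compl]; have := Finset.card_le_univ s; omega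
  have hcent := centralizer_R (by omega : 4 ≤ s.card)
  have hnorm : ∀ (t : Finset α), 3 ≤ t.card → ∀ g : alternatingGroup α,
      g ∈ normalizer ((R t : Subgroup (alternatingGroup α)) : Set (alternatingGroup α)) ↔
        g • t = t := by
    intro t ht g
    rw [← cj_eq_self_iff, cj_def, map_conj_R]
    constructor
    · intro h
      exact R_injective (by rw [card_smul_finset']; exact ht) ht h
    · intro h; rw [h]
  have hcompl : ∀ g : alternatingGroup α, g • sᶜ = sᶜ ↔ g • s = s := by
    intro g
    constructor
    · intro h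
      ext x
      have h1 : x ∈ g • sᶜ ↔ x ∈ sᶜ := by rw [h]
      rw [← Finset.inv_smul_mem_iff, Finset.mem_compl, Finset.mem_compl] at h1
      rw [← Finset.inv_smul_mem_iff]
      exact not_iff_not.mp h1
    · intro h
      ext x
      have h1 : x ∈ g • s ↔ x ∈ s := by rw [h]
      rw [← Finset.inv_smul_mem_iff] at h1
      rw [← Finset.inv_smul_mem_iff, Finset.mem_compl, Finset.mem_compl]
      exact not_congr h1
  refine ⟨isQuasisimple_R hs, ?_, ?_, ?_⟩
  · rw [hcent]
    refine ⟨even_card_R hsc, ?_⟩
    intro g hg
    rw [map_conj_R, R_inf]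
    apply odd_card_R
    rw [hnorm sᶜ (by omega)] at hg
    by_contra hlt
    push Not at hlt
    apply hg
    have h1 : sᶜ ∩ g • sᶜ ⊆ sᶜ := Finset.inter_subset_left
    have h2 : sᶜ ∩ g • sᶜ = sᶜ := Finset.eq_of_subset_of_card_le h1 (by omega)
    have h3 : sᶜ ⊆ g • sᶜ := by
      intro x hx
      have : x ∈ sᶜ ∩ g • sᶜ := by rw [h2]; exact hx
      exact (Finset.mem_inter.mp this).2
    exact (Finset.eq_of_subset_of_card_le h3 (by rw [card_smul_finset'])).symm
  · intro g hg
    rw [map_conj_R] at hg ⊢
    have hne : g • s ≠ s := by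
      intro h; rw [h] at hg; exact hg rfl
    have hcard : (g • s).card = s.card := card_smul_finset' g s
    -- a point of g • s outside s
    have hns : ¬ g • s ⊆ s := by
      intro h
      exact hne (Finset.eq_of_subset_of_card_le h (by omega))
    obtain ⟨a, hags, has⟩ := Finset.not_subset.mp hns
    -- a point in the intersection
    have hinter : (s ∩ g • s).Nonempty := by
      rw [← Finset.card_pos]
      have h1 := Finset.card_union_add_card_inter s (g • s)
      have h2 : (s ∪ g • s).card ≤ Fintype.card α := Finset.card_le_univ _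
      omega
    obtain ⟨c, hc⟩ := hinter
    rw [Finset.mem_inter] at hc
    have hca : c ≠ a := by rintro rfl; exact has hc.1
    -- e in g • s different from a, c
    have h2 : 0 < (((g • s).erase a).erase c).card := by
      have h3 := Finset.pred_card_le_card_erase (s := g • s) (a := a)
      have h4 := Finset.pred_card_le_card_erase (s := (g • s).erase a) (a := c)
      omega
    obtain ⟨e, he⟩ := Finset.card_pos.mp h2
    simp only [Finset.mem_erase] at he
    -- d, d' in s different from c
    obtain ⟨d, hd, d', hd', hdc, hd'c, hdd'⟩ := exists_two_of_three_le (by omega : 3 ≤ s.card) c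
    -- τ = (c a e) in R (g • s), σ = (c d d') in R s
    set τ := tcA c a e hca he.2.1.symm with hτ
    set σ := tcA c d d' hdc.symm hdd' with hσ
    have hτmem : τ ∈ R (g • s) := tcA_mem_R c a e hca he.2.1.symm hc.2 hags he.2.2
    have hσmem : σ ∈ R s := tcA_mem_R c d d' hdc.symm hdd' hc.1 hd hd'
    intro hbot
    have hcomm : σ * τ = τ * σ := by
      have h3 : ⁅σ, τ⁆ ∈ ⁅R s, R (g • s)⁆ := commutator_mem_commutator hσmem hτmem
      rw [hbot, mem_bot, commutatorElement_eq_one_iff_mul_comm] at h3
      exact h3
    have h4 : ((σ * τ : alternatingGroup α) : Perm α) c = ((τ * σ : alternatingGroup α) : Perm α) c := by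
      rw [hcomm]
    have hda : d ≠ a := by rintro rfl; exact has hd
    have hd'a : d' ≠ a := by rintro rfl; exact has hd'
    have h5 : (σ : Perm α) a = a := tcA_apply_of_ne c d d' a hdc.symm hdd' hca.symm hda.symm hd'a.symm
    have h6 : (τ : Perm α) c = a := tcA_apply_left c a e hca he.2.1.symm he.1.symm
    have h7 : (σ : Perm α) c = d := tcA_apply_left c d d' hdc.symm hdd' hd'c.symm
    simp only [Subgroup.coe_mul, Perm.mul_apply, h6, h5, h7] at h4
    -- τ d = a = τ c gives d = c
    have h8 : (τ : Perm α) d = (τ : Perm α) c := by rw [h6]; exact h4.symm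
    exact hdc ((τ : Perm α).injective h8)
  · rw [hcent]
    ext g
    rw [hnorm s (by omega), hnorm sᶜ (by omega), hcompl]

end Cfsg.Agent.Lib.Helper22.AltStd
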