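import Cfsg.Agent.Lib.Helper22.BG1214d
import Cfsg.Agent.Lib.Helper21.BG139Cfg

set_option autoImplicit false

/-!
# Piece T4 of the S1378 (= B&G 13.9) plan: `Cfg` forms of B&G 12.14(d)
-/

namespace Cfsg.Agent.Lib.Helper22.BG139

open Subgroup Cfsg Cfsg.Agent.Lib.Helper33 Cfsg.Agent.Lib.Helper21.BG139
open Cfsg.Agent.Lib.Helper22.BG1214d

universe u

variable {G : Type u} [Group G] [Finite G]
variable {M N : Subgroup G} {p : ℕ} [Fact p.Prime] {P : Sylow p G}

theorem normalizer_le_left (c : Cfg M N p P) : normalizer ((P : Subgroup G) : Set G) ≤ M :=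
  Cfsg.Agent.Lib.Helper47.BG11.normalizer_le_of_sigma c.hpM c.hPM P.2
    (fun h => P.not_dvd_index (h.trans (Subgroup.relIndex_dvd_index_of_le c.hPM)))

theorem normalizer_le_right (c : Cfg M N p P) : normalizer ((P : Subgroup G) : Set G) ≤ N :=
  normalizer_le_left c.symm

theorem ne_of_cfg (c : Cfg M N p P) : M ≠ N := by
  intro h
  apply c.hnc 1
  rw [← h]
  ext x
  simp

theorem not_alpha (hG : IsMinSimpleOddOrder G) (c : Cfg M N p P) : p ∉ alpha M :=
  (f3 hG c.hM c.hN (ne_of_cfg c) P (normalizer_le_left c) (normalizer_le_right c)).1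

theorem mul_eq (hG : IsMinSimpleOddOrder G) (c : Cfg M N p P) :
    ∀ m ∈ M, ∃ a ∈ alphaCore M, ∃ d ∈ M ⊓ N, m = a * d := by
  intro m hm
  obtain ⟨a, ha, n, hn, h⟩ := f2 hG c.hM P (normalizer_le_left c) m hm
  exact ⟨a, ha, n, ⟨normalizer_le_left c hn, normalizer_le_right c hn⟩, h⟩

theorem alpha_eq_beta (hG : IsMinSimpleOddOrder G) (c : Cfg M N p P) : alpha M = beta M := by
  ext s
  constructor
  · exact (f3 hG c.hM c.hN (ne_of_cfg c) P (normalizer_le_left c) (normalizer_le_right c)).2.1 s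
  · exact fun h => h.1

theorem alphaCore_ne_bot (hG : IsMinSimpleOddOrder G) (c : Cfg M N p P) : alphaCore M ≠ ⊥ :=
  (f3 hG c.hM c.hN (ne_of_cfg c) P (normalizer_le_left c) (normalizer_le_right c)).2.2

theorem tau1_subset (hG : IsMinSimpleOddOrder G) (c : Cfg M N p P) :
    tau1 N ⊆ tau1 M ∪ alpha M := by
  intro r hr
  by_cases hα : r ∈ alpha M
  · exact Or.inr hα
  · exact Or.inl (f4 hG c.hM c.hN P (normalizer_le_left c) (normalizer_le_right c) hr hα)

end Cfsg.Agent.Lib.Helper22.BG139
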