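import Mathlib
import Cfsg.Prelude
import Cfsg.Agent.Lib.Helper96.BG1435Defs
import Cfsg.Agent.Lib.Helper22.BG1372
import Cfsg.Agent.S1425

/-!
# Leaf [L-E] of the S1435 hive (helper96): the `κ(M*)` case is impossible
-/

set_option autoImplicit false
set_option linter.style.haveILetI false
set_option linter.unusedSectionVars false
set_option linter.unusedVariables false

open Subgroup Cfsg Cfsg.Agent.Lib.Helper33

namespace Cfsg.Agent.Lib.Helper96.BG1435

variable {G : Type*} [Group G] [Finite G]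

/-- [L-E] discharge of `Cfg.hκMs` in the situation of S1435. -/
theorem kappa_case_false (hG : IsMinSimpleOddOrder G)
    (M : Subgroup G) (hM : IsCoatom M) (K U : Subgroup G) (hKU : IsSigmaDecomposition M K U)
    (hK1 : K ≠ ⊥) (hU1 : U ≠ ⊥) (Mstar : Subgroup G) (hMstar : IsCoatom Mstar)
    (hKst : K = sigmaCore Mstar ⊓ centralizer ((sigmaCore M ⊓ centralizer (K : Set G)) : Set G))
    (hKstH : IsPiHallOf (kappa Mstar) (sigmaCore M ⊓ centralizer (K : Set G)) Mstar)
    (H : Subgroup G) (hH : IsCoatom H) (hHM : ∀ g : G, H ≠ M.map (MulAut.conj g).toMonoidHom)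
    (s : ℕ) (hs : s ∈ kappa Mstar) (S0 : Subgroup G) (hS0 : Nat.card S0 = s)
    (hC : centralizer (S0 : Set G) ≤ H)
    (hu : ∀ L : Subgroup G, IsCoatom L → centralizer (S0 : Set G) ≤ L → L = H) : False := by
  have h : Cfsg.Agent.Lib.Helper22.BG1372.P2 M K U := ⟨hG, hM, hKU, hK1, hU1⟩
  have hsp : s.Prime := hs.1
  -- `s ∣ |K*|`
  have hsK : s ∣ Nat.card ↥(sigmaCore M ⊓ centralizer (K : Set G)) := by
    have h1 : ¬ s ∣ (sigmaCore M ⊓ centralizer (K : Set G)).relIndex Mstar := hKstH.2.2 s hsp hs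
    have h2 : Nat.card ↥(sigmaCore M ⊓ centralizer (K : Set G)) *
        (sigmaCore M ⊓ centralizer (K : Set G)).relIndex Mstar = Nat.card Mstar := by
      exact Cfsg.Agent.Lib.Helper76.BGSigU.card_mul_relIndex hKstH.1
    have h3 : s ∣ Nat.card Mstar := hs.2.1
    rw [← h2] at h3
    rcases (Nat.Prime.dvd_mul hsp).mp h3 with h4 | h4
    · exact h4
    · exact absurd h4 h1
  -- `s ∈ σ(M)`
  have hsσ : s ∈ sigma M :=
    h.hσ.2.1 s hsp (hsK.trans (Subgroup.card_dvd_of_le inf_le_left))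
  have hS01 : S0 ≠ ⊥ := by
    intro h0
    rw [h0, Subgroup.card_bot] at hS0
    rw [← hS0] at hsp
    exact Nat.not_prime_one hsp
  obtain ⟨g, hg⟩ := Cfsg.Agent.S1425.result hG M hM S0 hS01 (by
    intro p hp hd
    rw [hS0] at hd
    rw [(Nat.prime_dvd_prime_iff_eq hp hsp).mp hd]
    exact hsσ)
  -- `C_G(g S0 g⁻¹) ≤ M`
  have hS1 : cj g S0 ≠ ⊥ := fun h0 => hS01 (cj_eq_bot_iff.mp h0)
  have hS1F : cj g S0 ≤ fittingOf M := le_trans hg h.W_le_fit
  have hF1 : fittingOf M ≠ ⊥ := fun h0 => h.hW1 (by rw [eq_bot_iff, ← h0]; exact h.W_le_fit)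
  have hNF : normalizer ((fittingOf M : Subgroup G) : Set G) = M :=
    Cfsg.Agent.Lib.Helper23.normalizer_eq_of_isCoatom hG hM hF1
      (Cfsg.Agent.Lib.Helper23.fittingOf_le M) (Cfsg.Agent.Lib.Helper23.le_normalizer_fittingOf M)
  have hC1 : centralizer ((cj g S0 : Subgroup G) : Set G) ≤ M := by
    intro c hc
    obtain ⟨x', hx'⟩ := (Subgroup.ne_bot_iff_exists_ne_one).mp hS1
    have hx : (x' : G) ∈ cj g S0 := x'.2
    have hx1 : (x' : G) ≠ 1 := fun h0 => hx' (Subtype.ext h0)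
    by_contra hcM
    apply hx1
    refine h.ti c ?_ (x' : G) (hS1F hx) ?_
    · intro hcn
      apply hcM
      rw [← hNF]
      exact hcn
    · have h1 := mem_centralizer_iff.mp hc (x' : G) hx
      have h2 : c * (x' : G) * c⁻¹ = (x' : G) := by
        rw [← h1]; group
      rw [h2]
      exact hS1F hx
  -- conjugate back
  have hC0 : centralizer (S0 : Set G) ≤ cj g⁻¹ M := by
    rw [← cj_le_iff, ← centralizer_cj]
    exact hC1
  have h5 : cj g⁻¹ M = H := hu _ (Cfsg.Agent.Lib.Helper22.StarCount.isCoatom_cj' g⁻¹ hM) hC0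
  exact hHM g⁻¹ h5.symm

end Cfsg.Agent.Lib.Helper96.BG1435
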