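import Mathlib
import Cfsg.Prelude.Def_OddOrderLocal
import Cfsg.Agent.S1351
import Cfsg.Agent.S1352
import Cfsg.Agent.S1354
import Cfsg.Agent.S1366
import Cfsg.Agent.S1367
import Cfsg.Agent.S1368
import Cfsg.Agent.S1369
import Cfsg.Agent.S1375
import Cfsg.Agent.S1378
import Cfsg.Agent.S1404
import Cfsg.Agent.Lib.Helper10.BG145c
import Cfsg.Agent.Lib.Helper81.BG142G0
import Cfsg.Agent.Lib.Helper48.NilHallA
import Cfsg.Agent.Lib.Helper56.BG147
import Cfsg.Agent.Lib.Helper70.BG1379b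
import Cfsg.Agent.Lib.Helper70.BG1216b
import Cfsg.Agent.Lib.Helper22.BG1372
import Cfsg.Agent.Lib.Helper23.TransCore

set_option autoImplicit false
set_option linter.style.haveILetI false
set_option linter.unusedSectionVars false
set_option linter.unusedVariables false

/-!
# B&G 14.4(d),(e): the parts that need no new input (for helper23's S1376 / S1436 assembly)

`Cfg M x N`: `x ∈ M_σ#`, `C_G(x) ⊄ M`, `N` maximal over `C_G(x)`.
* `Cfg.r1`: `κ(N) ≠ ∅` and `κ(M) ≠ ∅` is impossible (so `κ(N) ≠ ∅ ⟹ κ(M) = ∅`: S1376 clause 1);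
* `Cfg.s1436b`: S1436(b), `M`-conjugacy;
* `Cfg.s1436a_kappa`: S1436(a), `κ`-part: a prime of `σ(N)` dividing `|M|` forces `κ(M) = ∅`.
-/

namespace Cfsg.Agent.Lib.Helper22.BG144d

open Subgroup Cfsg Cfsg.Agent.Lib.Helper33
open Cfsg.Agent.Lib.Helper10.BG144T (Ctx)

universe u

variable {G : Type u} [Group G] [Finite G]

/-- conjugating a complement by an arbitrary element -/
theorem isComplIn_cj_all {A B C : Subgroup G} (h : IsComplIn A B C) (g : G) :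
    IsComplIn (cj g A) (cj g B) (cj g C) := by
  obtain ⟨hA, hB, hd, hp⟩ := h
  refine ⟨cj_mono hA, cj_mono hB, ?_, ?_⟩
  · rw [← cj_inf, hd, cj_bot]
  · intro m hm
    obtain ⟨c, hc, rfl⟩ := mem_cj'.mp hm
    obtain ⟨a, ha, b, hb, rfl⟩ := hp c hc
    refine ⟨g * a * g⁻¹, conj_mem_cj ha, g * b * g⁻¹, conj_mem_cj hb, ?_⟩
    group

/-- the 14.4-configuration -/
structure Cfg (M : Subgroup G) (x : G) (N : Subgroup G) : Prop where
  hG : IsMinSimpleOddOrder G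
  hM : IsCoatom M
  hx : x ∈ sigmaCore M
  hx1 : x ≠ 1
  hxM : ¬ centralizer ({x} : Set G) ≤ M
  hN : IsCoatom N
  hxN : centralizer ({x} : Set G) ≤ N

/-- a Hall `κ`-subgroup is nontrivial when `κ` is nonempty -/
theorem hall_kappa_ne_bot {L K : Subgroup G} (hK : IsPiHallOf (kappa L) K L)
    (hκ : (kappa L).Nonempty) : K ≠ ⊥ := by
  obtain ⟨p, hp⟩ := hκ
  intro h0
  have h1 : ¬ p ∣ K.relIndex L := hK.2.2 p hp.1 hp
  rw [h0, Subgroup.relIndex_bot_left] at h1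
  exact h1 hp.2.1

/-- `κ` is nonempty when a Hall `κ`-subgroup is nontrivial -/
theorem kappa_nonempty_of_hall {L K : Subgroup G} (hK : IsPiHallOf (kappa L) K L)
    (hK1 : K ≠ ⊥) : (kappa L).Nonempty := by
  have hc : Nat.card K ≠ 1 := fun h => hK1 (Subgroup.card_eq_one.mp h)
  obtain ⟨p, hp, hpd⟩ := Nat.exists_prime_and_dvd hc
  exact ⟨p, hK.2.1 p hp hpd⟩

/-- **(F0)**: in a maximal subgroup of type `P₂` every `x ∈ M_σ#` has `C_G(x) ≤ M`
(from `F(M)` TI, S1372). -/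
theorem p2_cent_le {M K U : Subgroup G} (h : Cfsg.Agent.Lib.Helper22.BG1372.P2 M K U) {x : G}
    (hx : x ∈ sigmaCore M) (hx1 : x ≠ 1) : centralizer ({x} : Set G) ≤ M := by
  have hF1 : fittingOf M ≠ ⊥ := fun h0 => h.hW1 (by rw [eq_bot_iff, ← h0]; exact h.W_le_fit)
  have hNF : normalizer ((fittingOf M : Subgroup G) : Set G) = M :=
    Cfsg.Agent.Lib.Helper23.normalizer_eq_of_isCoatom h.hG h.hM hF1
      (Cfsg.Agent.Lib.Helper23.fittingOf_le M) (Cfsg.Agent.Lib.Helper23.le_normalizer_fittingOf M)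
  intro c hc
  by_contra hcM
  apply hx1
  refine h.ti c ?_ x (h.W_le_fit hx) ?_
  · intro hcn
    apply hcM
    rw [← hNF]
    exact hcn
  · have h1 := mem_centralizer_iff.mp hc x rfl
    have h2 : c * x * c⁻¹ = x := by
      rw [← h1]; group
    rw [h2]
    exact h.W_le_fit hx

namespace Cfg

variable {M N : Subgroup G} {x : G}

theorem hNM (c : Cfg M x N) : N ≠ M := fun h => c.hxM (h ▸ c.hxN)

theorem hxMem (c : Cfg M x N) : x ∈ M :=
  (Cfsg.Agent.Lib.Helper47.BG11.sigmaHallIn_of_coatom c.hG c.hM).1 c.hx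

/-- helper10's context for `N` -/
theorem ctx (c : Cfg M x N) : Ctx M x N := by
  obtain ⟨L, hL, -⟩ := Cfsg.Agent.Lib.Helper10.BG145.exists_ctx2 c.hG c.hM c.hx c.hx1
  obtain ⟨N₀, -, huniq, -⟩ := Cfsg.Agent.S1375.result c.hG M c.hM x c.hx c.hx1 c.hxM
  have h1 : L = N₀ := huniq L hL.hL hL.hCL
  have h2 : N = N₀ := huniq N c.hN c.hxN
  rw [h2, ← h1]
  exact hL

theorem compl (c : Cfg M x N) : IsComplIn (M ⊓ N) (sigmaCore N) N := by
  rcases c.ctx.hcase with h | h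
  · exact absurd h c.hNM
  · exact h.2.1

theorem sigma_disj (c : Cfg M x N) : ∀ s : ℕ, s ∈ sigma M → s ∈ sigma N → False := by
  rcases c.ctx.hcase with h | h
  · exact absurd h c.hNM
  · exact h.2.2.1

theorem hσN (c : Cfg M x N) : IsPiHallOf (sigma N) (sigmaCore N) N :=
  Cfsg.Agent.Lib.Helper47.BG11.sigmaHallIn_of_coatom c.hG c.hN

theorem hσM (c : Cfg M x N) : IsPiHallOf (sigma M) (sigmaCore M) M :=
  Cfsg.Agent.Lib.Helper47.BG11.sigmaHallIn_of_coatom c.hG c.hM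

/-- a prime of `σ(M)` (from `x`) -/
theorem exists_sigma (c : Cfg M x N) : ∃ p : ℕ, p.Prime ∧ p ∈ sigma M := by
  have ho1 : orderOf x ≠ 1 := fun h => c.hx1 (orderOf_eq_one_iff.mp h)
  refine ⟨(orderOf x).minFac, Nat.minFac_prime ho1, ?_⟩
  exact Cfsg.Agent.Lib.Helper10.BG144T.sigma_of_mem_sigmaCore c.hG c.hM c.hx
    (Nat.minFac_prime ho1) (Nat.minFac_dvd _)

/-- any complement of `N_σ` in `N` is `N`-conjugate to `M ∩ N` -/
theorem compl_conj (c : Cfg M x N) {E : Subgroup G} (hE : IsComplIn E (sigmaCore N) N) :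
    ∃ n ∈ N, cj n E = M ⊓ N := by
  haveI : Group.IsSolvable ↥N := Cfsg.Agent.Lib.Helper23.isSolvable_of_ne_top c.hG c.hN.1
  have h1 := Cfsg.Agent.Lib.Helper23.card_isComplIn c.compl
  have h2 := Cfsg.Agent.Lib.Helper23.card_isComplIn hE
  have hpos : 0 < Nat.card (sigmaCore N) := Nat.card_pos
  have hcard : Nat.card E = Nat.card ↥(M ⊓ N) := by
    apply Nat.eq_of_mul_eq_mul_right hpos
    rw [h1, h2]
  have hcop := Cfsg.Agent.Lib.Helper70.BG1216.coprime_card_compl c.hσN c.compl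
  have hrel : (M ⊓ N).relIndex N = Nat.card (sigmaCore N) := by
    have h3 := Cfsg.Agent.Lib.Helper76.BGSigU.card_mul_relIndex (inf_le_right : M ⊓ N ≤ N)
    have hpos' : 0 < Nat.card ↥(M ⊓ N) := Nat.card_pos
    apply Nat.eq_of_mul_eq_mul_left hpos'
    rw [h3, h1]
  exact Cfsg.Agent.Lib.Helper48.NilHall.hall_conj_in N (M ⊓ N) E inf_le_right hE.1 hcard
    (by rw [hrel]; exact hcop)

/-- **S1436(b)**: `M`-conjugacy of the `N(y)`. -/
theorem s1436b (c : Cfg M x N) :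
    ∀ (y : G) (N' : Subgroup G) (g : G), y ∈ sigmaCore M → y ≠ 1 →
      ¬ centralizer ({y} : Set G) ≤ M → IsCoatom N' → centralizer ({y} : Set G) ≤ N' →
      N'.map (MulAut.conj g).toMonoidHom = N →
      ∃ m ∈ M, N'.map (MulAut.conj m).toMonoidHom = N := by
  intro y N' g hy hy1 hyM hN' hyN' hg
  have c' : Cfg M y N' := ⟨c.hG, c.hM, hy, hy1, hyM, hN', hyN'⟩
  have hgN : cj g N' = N := hg
  -- the conjugate complement
  have h1 : IsComplIn (cj g (M ⊓ N')) (sigmaCore N) N := by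
    have h2 := isComplIn_cj_all c'.compl g
    rwa [← Cfsg.Agent.Lib.Helper56.BG147.sigmaCore_cj, hgN] at h2
  obtain ⟨n, hn, hn2⟩ := c.compl_conj h1
  -- `g' = n g` maps `M ∩ N'` onto `M ∩ N`
  have hyMN' : y ∈ M ⊓ N' :=
    Subgroup.mem_inf.mpr ⟨c'.hxMem, hyN' (Cfsg.Agent.Lib.Helper10.BG144T.self_mem_centralizer y)⟩
  have h3 : (n * g) * y * (n * g)⁻¹ ∈ M := by
    have h4 : (n * g) * y * (n * g)⁻¹ ∈ cj (n * g) (M ⊓ N') := conj_mem_cj hyMN'
    rw [cj_mul, hn2] at h4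
    exact h4.1
  obtain ⟨m, hm, b, hb, hgmb, -⟩ := c'.ctx.control c'.hxMem h3
  refine ⟨m, hm, ?_⟩
  show cj m N' = N
  have h5 : cj (n * g) N' = N := by
    rw [cj_mul, hgN]
    exact cj_eq_self_of_mem hn
  rw [hgmb, cj_mul, cj_eq_self_of_mem (hyN' hb)] at h5
  exact h5

/-- **(R1)**: `κ(N) ≠ ∅` and `κ(M) ≠ ∅` cannot both hold. -/
theorem r1 (c : Cfg M x N) (hκN : (kappa N).Nonempty) (hκM : (kappa M).Nonempty) : False := by
  obtain ⟨⟨K₀, hK₀⟩, hcyc⟩ := Cfsg.Agent.S1351.result c.hG N c.hN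
  obtain ⟨E, hE, hK₀E⟩ := Cfsg.Agent.Lib.Helper32.BG142.exists_compl_ge_kappa c.hG c.hN hK₀
  obtain ⟨n, hn, hnE⟩ := c.compl_conj hE
  have hKD : cj n K₀ ≤ M ⊓ N := by rw [← hnE]; exact cj_mono hK₀E
  have hK : IsPiHallOf (kappa N) (cj n K₀) N := by
    refine ⟨hKD.trans inf_le_right, ?_, ?_⟩
    · intro p hp hd
      rw [card_cj] at hd
      exact hK₀.2.1 p hp hd
    · intro p hp hpκ
      have h1 := hK₀.2.2 p hp hpκ
      rwa [← relIndex_cj n K₀ N, cj_eq_self_of_mem hn] at h1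
  have hKc : IsCyclic ↥(cj n K₀) := hcyc _ hK
  have hK1 : cj n K₀ ≠ ⊥ := hall_kappa_ne_bot hK hκN
  obtain ⟨⟨U, hKU⟩, -⟩ := Cfsg.Agent.S1352.result c.hG N c.hN _ hKc hK
  obtain ⟨Ns, ⟨hNs, hKst, hKstH⟩, -⟩ := Cfsg.Agent.S1366.result c.hG N c.hN _ U hKU hK1
  obtain ⟨g, hg | hg⟩ :=
    (Cfsg.Agent.S1369.result c.hG N c.hN _ U hKU hK1 Ns hNs hKst hKstH).2 M c.hM hκM
  · -- `M = cj g N`
    obtain ⟨p, hp, hpM⟩ := c.exists_sigma
    have h1 : sigma M = sigma N := by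
      rw [hg]; exact Cfsg.Agent.Lib.Helper56.BG147.sigma_cj_eq g N
    exact c.sigma_disj p hpM (h1 ▸ hpM)
  · -- `M = cj g Ns`
    have hMg : M = cj g Ns := hg
    obtain ⟨t, y₀, ht, -, hy₀K, hy₀1, hy₀t⟩ :=
      Cfsg.Agent.Lib.Helper47.BG147P.exists_prime_orderOf hK1
    haveI : Fact t.Prime := ⟨ht⟩
    have hoy : orderOf y₀ = t := orderOf_eq_prime hy₀t hy₀1
    have hy₀σ : y₀ ∈ sigmaCore Ns := (Subgroup.mem_inf.mp (hKst.le hy₀K)).1
    have htσ : t ∈ sigma Ns :=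
      Cfsg.Agent.Lib.Helper10.BG144T.sigma_of_mem_sigmaCore c.hG hNs hy₀σ ht (by rw [hoy])
    have hYK : zpowers y₀ ≤ cj n K₀ := by rw [zpowers_le]; exact hy₀K
    have hYc : Nat.card (zpowers y₀) = t := by rw [Nat.card_zpowers, hoy]
    have hYp : IsPGroup t (zpowers y₀) := by
      apply IsPGroup.of_card (n := 1)
      rw [hYc, pow_one]
    have hY1 : zpowers y₀ ≠ ⊥ := by
      rw [Ne, zpowers_eq_bot]; exact hy₀1
    have hσNs : IsPiHallOf (sigma Ns) (sigmaCore Ns) Ns :=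
      Cfsg.Agent.Lib.Helper47.BG11.sigmaHallIn_of_coatom c.hG hNs
    have hYNs : zpowers y₀ ≤ Ns := by
      rw [zpowers_le]; exact hσNs.1 hy₀σ
    have hYM : zpowers y₀ ≤ cj g Ns := by
      rw [← hMg]; exact hYK.trans (hKD.trans inf_le_left)
    have hmap : (zpowers y₀).map (MulAut.conj g⁻¹).toMonoidHom ≤ Ns := by
      show cj g⁻¹ (zpowers y₀) ≤ Ns
      rw [cj_le_iff, inv_inv]
      exact hYM
    obtain ⟨m, hm, c', hc', hgm⟩ :=
      (Cfsg.Agent.S1404.result c.hG Ns hNs t htσ (zpowers y₀) hYp hY1 hYNs).1 g⁻¹ hmap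
    have hCY : centralizer ((zpowers y₀ : Subgroup G) : Set G) ≤ Ns :=
      ((Cfsg.Agent.S1367.result c.hG N c.hN _ U hKU hK1 Ns hNs hKst hKstH).2 (zpowers y₀) hYK
        (by rw [hYc]; exact ht)).1
    have hgNs : g⁻¹ ∈ Ns := by
      rw [hgm]; exact Ns.mul_mem hm (hCY hc')
    have hMNs : M = Ns := by
      rw [hMg]
      have := cj_eq_self_of_mem (Ns.inv_mem hgNs)
      rwa [inv_inv] at this
    -- `K* ≤ M ∩ N ∩ N_σ = 1`
    have hKs1 := (Cfsg.Agent.S1354.result c.hG N c.hN _ hKc hK).1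
    have h68 := (Cfsg.Agent.S1368.result c.hG N c.hN _ U hKU hK1 Ns hNs hKst hKstH).1
    apply hKs1
    rw [eq_bot_iff, ← c.compl.2.2.1]
    intro z hz
    refine Subgroup.mem_inf.mpr ⟨?_, hz.1⟩
    have h2 : z ∈ N ⊓ Ns := by
      rw [h68]; exact (le_sup_right : _ ≤ cj n K₀ ⊔ _) hz
    rw [hMNs]
    exact Subgroup.mem_inf.mpr ⟨h2.2, h2.1⟩

/-- **S1376, clause 1**: `κ(N) ≠ ∅ ⟹ κ(M) = ∅`. -/
theorem kappa_eq_empty (c : Cfg M x N) (hκN : (kappa N).Nonempty) : kappa M = ∅ := by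
  by_contra hne
  exact c.r1 hκN (Set.nonempty_iff_ne_empty.mpr hne)

/-- **S1436(a), `κ`-part**: a prime of `σ(N)` dividing `|M|` forces `κ(M) = ∅`. -/
theorem s1436a_kappa (c : Cfg M x N) (h : ∃ p ∈ sigma N, p ∣ Nat.card M) : kappa M = ∅ := by
  by_contra hne
  have hκM : (kappa M).Nonempty := Set.nonempty_iff_ne_empty.mpr hne
  obtain ⟨p, hpN, hpM⟩ := h
  have hp : p.Prime := hpN.1
  obtain ⟨⟨K, hK⟩, hcyc⟩ := Cfsg.Agent.S1351.result c.hG M c.hM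
  have hKc : IsCyclic ↥K := hcyc K hK
  have hK1 : K ≠ ⊥ := hall_kappa_ne_bot hK hκM
  obtain ⟨⟨U, hKU⟩, -⟩ := Cfsg.Agent.S1352.result c.hG M c.hM K hKc hK
  -- `U = ⊥` by (F0)
  have hU : U = ⊥ := by
    by_contra hU1
    exact c.hxM (p2_cent_le ⟨c.hG, c.hM, hKU, hK1, hU1⟩ c.hx c.hx1)
  have hpσM : p ∉ sigma M := fun h' => c.sigma_disj p h' hpN
  -- `p ∣ |K|`
  have hpK : p ∣ Nat.card K := by
    have h1 := Cfsg.Agent.Lib.Helper23.card_isComplIn hKU.compl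
    rw [hU, Subgroup.card_bot, one_mul] at h1
    have hKn : K ≤ normalizer ((sigmaCore M : Subgroup G) : Set G) :=
      hK.1.trans (Cfsg.Agent.Lib.Helper76.BGSigU.le_normalizer_sigmaCore' M)
    have h2 := Cfsg.Agent.Lib.Helper23.card_sup_dvd_of_le_normalizer K (sigmaCore M) hKn
    rw [h1] at h2
    rcases (Nat.Prime.dvd_mul hp).mp (hpM.trans h2) with h3 | h3
    · exact h3
    · exact absurd (c.hσM.2.1 p hp h3) hpσM
  obtain ⟨Ms, ⟨hMs, hKst, hKstH⟩, -⟩ := Cfsg.Agent.S1366.result c.hG M c.hM K U hKU hK1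
  have hσMs : IsPiHallOf (sigma Ms) (sigmaCore Ms) Ms :=
    Cfsg.Agent.Lib.Helper47.BG11.sigmaHallIn_of_coatom c.hG hMs
  have hKle : K ≤ sigmaCore Ms := by
    intro z hz
    exact (Subgroup.mem_inf.mp (hKst.le hz)).1
  have hpMs : p ∈ sigma Ms := hσMs.2.1 p hp (hpK.trans (Subgroup.card_dvd_of_le hKle))
  obtain ⟨g, hg⟩ := (Cfsg.Agent.S1378.result c.hG).2 N Ms c.hN hMs ⟨p, hpN, hpMs⟩
  have hKs1 := (Cfsg.Agent.S1354.result c.hG M c.hM K hKc hK).1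
  have hκMs : (kappa Ms).Nonempty := kappa_nonempty_of_hall hKstH hKs1
  have hκN : (kappa N).Nonempty := by
    have h1 : kappa Ms = kappa N := by
      rw [hg]; exact Cfsg.Agent.Lib.Helper70.BG1379.kappa_cj_eq g N
    rw [← h1]; exact hκMs
  exact c.r1 hκN hκM

end Cfg

end Cfsg.Agent.Lib.Helper22.BG144d
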