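import Mathlib
import Cfsg.Prelude.Def_OddOrderLocal
import Cfsg.Agent.Lib.Helper22.BG144d
import Cfsg.Agent.S1429

set_option autoImplicit false
set_option linter.style.haveILetI false
set_option linter.unusedSectionVars false
set_option linter.unusedVariables false

/-!
# B&G 14.4(d): `κ(N) ≠ ∅ ⟹ M_σ` nilpotent and `M_F` is not a TI-subset (S1376 clause 3)
-/

namespace Cfsg.Agent.Lib.Helper22.BG144d

open Subgroup Cfsg Cfsg.Agent.Lib.Helper33
open Cfsg.Agent.Lib.Helper10.BG144T (Ctx)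

universe u

variable {G : Type u} [Group G] [Finite G]

namespace Cfg

variable {M N : Subgroup G} {x : G}

/-- the pair `(N, N*)` with `K ≤ M ∩ N` -/
theorem exists_pair (c : Cfg M x N) (hκN : (kappa N).Nonempty) :
    ∃ K U Ns : Subgroup G, K ≤ M ⊓ N ∧ IsSigmaDecomposition N K U ∧ K ≠ ⊥ ∧ IsCoatom Ns ∧
      K = sigmaCore Ns ⊓ centralizer ((sigmaCore N ⊓ centralizer (K : Set G)) : Set G) ∧
      IsPiHallOf (kappa Ns) (sigmaCore N ⊓ centralizer (K : Set G)) Ns := by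
  obtain ⟨⟨K₀, hK₀⟩, hcyc⟩ := Cfsg.Agent.S1351.result c.hG N c.hN
  obtain ⟨E, hE, hK₀E⟩ := Cfsg.Agent.Lib.Helper32.BG142.exists_compl_ge_kappa c.hG c.hN hK₀
  obtain ⟨n, hn, hnE⟩ := c.compl_conj hE
  have hKD : cj n K₀ ≤ M ⊓ N := by rw [← hnE]; exact cj_mono hK₀E
  have hK : IsPiHallOf (kappa N) (cj n K₀) N := by
    refine ⟨hKD.trans inf_le_right, ?_, ?_⟩
    · intro p hp hd
      rw [card_cj] at hd
      exact hK₀.2.1 p hp hd
    · intro p hp hpκ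
      have h1 := hK₀.2.2 p hp hpκ
      rwa [← relIndex_cj n K₀ N, cj_eq_self_of_mem hn] at h1
  have hKc : IsCyclic ↥(cj n K₀) := hcyc _ hK
  have hK1 : cj n K₀ ≠ ⊥ := hall_kappa_ne_bot hK hκN
  obtain ⟨⟨U, hKU⟩, -⟩ := Cfsg.Agent.S1352.result c.hG N c.hN _ hKc hK
  obtain ⟨Ns, ⟨hNs, hKst, hKstH⟩, -⟩ := Cfsg.Agent.S1366.result c.hG N c.hN _ U hKU hK1
  exact ⟨cj n K₀, U, Ns, hKD, hKU, hK1, hNs, hKst, hKstH⟩

/-- a prime of `|M|` outside `σ(M)` (a prime of `K_N`), when `κ(N) ≠ ∅` -/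
theorem exists_prime_not_sigma (c : Cfg M x N) (hκN : (kappa N).Nonempty) :
    ∃ t : ℕ, t.Prime ∧ t ∣ Nat.card M ∧ t ∉ sigma M := by
  obtain ⟨K, U, Ns, hKD, hKU, hK1, hNs, hKst, hKstH⟩ := c.exists_pair hκN
  have hc : Nat.card K ≠ 1 := fun h => hK1 (Subgroup.card_eq_one.mp h)
  obtain ⟨t, ht, htK⟩ := Nat.exists_prime_and_dvd hc
  refine ⟨t, ht, htK.trans (Subgroup.card_dvd_of_le (hKD.trans inf_le_left)), ?_⟩
  intro htM
  -- `t ∈ σ(N*)`
  have hσNs : IsPiHallOf (sigma Ns) (sigmaCore Ns) Ns :=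
    Cfsg.Agent.Lib.Helper47.BG11.sigmaHallIn_of_coatom c.hG hNs
  have hKle : K ≤ sigmaCore Ns := fun z hz => (Subgroup.mem_inf.mp (hKst.le hz)).1
  have htNs : t ∈ sigma Ns := hσNs.2.1 t ht (htK.trans (Subgroup.card_dvd_of_le hKle))
  obtain ⟨g, hg⟩ := (Cfsg.Agent.S1378.result c.hG).2 M Ns c.hM hNs ⟨t, htM, htNs⟩
  -- `κ(N*) ≠ ∅`, so `κ(M) ≠ ∅`
  have hKs1 := (Cfsg.Agent.S1354.result c.hG N c.hN K hKU.cyclic hKU.hall).1
  have hκNs : (kappa Ns).Nonempty := kappa_nonempty_of_hall hKstH hKs1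
  have hκM : (kappa M).Nonempty := by
    have h1 : kappa Ns = kappa M := by
      rw [hg]; exact Cfsg.Agent.Lib.Helper70.BG1379.kappa_cj_eq g M
    rw [← h1]; exact hκNs
  exact c.r1 hκN hκM

/-- `M_σ` is nilpotent when `κ(N) ≠ ∅` -/
theorem sigmaCore_nilpotent (c : Cfg M x N) (hκN : (kappa N).Nonempty) :
    Group.IsNilpotent ↥(sigmaCore M) := by
  obtain ⟨t, ht, htM, htσ⟩ := c.exists_prime_not_sigma hκN
  have hκM : kappa M = ∅ := c.kappa_eq_empty hκN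
  haveI : Fact t.Prime := ⟨ht⟩
  obtain ⟨S⟩ : Nonempty (Sylow t M) := inferInstance
  refine (Cfsg.Agent.S1429.result c.hG M c.hM ?_ t htM ?_ S).2.2
  · intro h
    have h1 := h t ht htM htσ
    rw [hκM] at h1
    exact h1
  · rintro (h | h)
    · exact htσ h
    · rw [hκM] at h
      exact h

/-- `R(x) = C_{N_σ}(x)` contains an element outside `M` -/
theorem exists_R (c : Cfg M x N) :
    ∃ r : G, r ∈ sigmaCore N ∧ r * x = x * r ∧ r ∉ M := by
  have hcompl := c.ctx.isComplIn c.hNM c.hxMem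
  -- some element of `C_G(x)` is outside `M`
  obtain ⟨g, hg, hgM⟩ := Set.not_subset.mp c.hxM
  obtain ⟨a, ha, b, hb, rfl⟩ := hcompl.2.2.2 g hg
  refine ⟨b, hb.1, ?_, ?_⟩
  · have h1 := mem_centralizer_iff.mp hb.2 x rfl
    exact h1.symm
  · intro hbM
    exact hgM (M.mul_mem ha.1 hbM)

/-- **S1376 clause 3**: `M_F` is not a TI-subset when `κ(N) ≠ ∅`. -/
theorem fittingHallOf_not_TI (c : Cfg M x N) (hκN : (kappa N).Nonempty) :
    ¬ IsTISubset (fittingHallOf M : Set G) := by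
  intro hTI
  have hnil := c.sigmaCore_nilpotent hκN
  have heq : sigmaCore M = fittingHallOf M :=
    Cfsg.Agent.Lib.Helper10.BG145.sigmaCore_eq_fittingHallOf c.hG c.hM hnil
  obtain ⟨r, hrN, hrx, hrM⟩ := c.exists_R
  have hW1 : sigmaCore M ≠ ⊥ := Cfsg.Agent.Lib.Helper19.BG124.sigmaCore_ne_bot c.hG c.hM
  have hnorm : normalizer ((fittingHallOf M : Subgroup G) : Set G) = M := by
    rw [← heq]
    exact Cfsg.Agent.Lib.Helper23.normalizer_eq_of_isCoatom c.hG c.hM hW1 c.hσM.1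
      (Cfsg.Agent.Lib.Helper76.BGSigU.le_normalizer_sigmaCore' M)
  apply c.hx1
  refine hTI r ?_ x ?_ ?_
  · intro h
    apply hrM
    rw [← hnorm]
    exact h
  · show x ∈ fittingHallOf M
    rw [← heq]; exact c.hx
  · have h2 : r * x * r⁻¹ = x := by
      rw [hrx]; group
    rw [h2]
    show x ∈ fittingHallOf M
    rw [← heq]; exact c.hx

end Cfg

end Cfsg.Agent.Lib.Helper22.BG144d
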