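import Mathlib
import Cfsg.Prelude.Def_OddOrderLocal
import Cfsg.Agent.Lib.Helper22.BG144e
import Cfsg.Agent.Lib.Helper70.BG14Final
import Cfsg.Agent.Lib.Helper76.BG159D
import Cfsg.Agent.Lib.Helper90.BG1435a
import Cfsg.Agent.Lib.Helper29.SympTools
import Cfsg.Agent.Lib.Helper63.BG14b
import Cfsg.Agent.S1420
import Cfsg.Agent.Lib.Helper24.BG152D

set_option autoImplicit false
set_option linter.style.haveILetI false
set_option linter.unusedSectionVars false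
set_option linter.unusedVariables false

/-!
# S1376 (B&G 14.4(d)): the call of S1435 with `H := M`

For a 14.4-configuration `(M, x, N)` with `κ(N) ≠ ∅` we choose the standard factorisation
`N = K U N_σ` inside `M ∩ N = U K`, the partner `N*`, and a prime `q ∣ o(x)`, `q ∈ τ₂(N) ∩ σ(M)`,
such that `N_G(R) ≤ M` for the Sylow `q`-subgroup `R` of `U`: these are exactly the hypotheses of
S1435 for `(N, K, U, N*, q, R, H := M)`.
-/

namespace Cfsg.Agent.Lib.Helper22.BG144d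

open Subgroup Cfsg Cfsg.Agent.Lib.Helper33
open Cfsg.Agent.Lib.Helper10.BG144T (Ctx)

universe u

variable {G : Type u} [Group G] [Finite G]

/-- the statement of S1435, as a hypothesis -/
def Stmt1435 (G : Type u) [Group G] [Finite G] : Prop :=
  ∀ (M : Subgroup G) (_ : IsCoatom M) (K U : Subgroup G) (_ : IsSigmaDecomposition M K U)
    (_ : K ≠ ⊥) (_ : U ≠ ⊥) (Mstar : Subgroup G) (_ : IsCoatom Mstar)
    (_ : K = sigmaCore Mstar ⊓ centralizer ((sigmaCore M ⊓ centralizer (K : Set G)) : Set G))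
    (_ : IsPiHallOf (kappa Mstar) (sigmaCore M ⊓ centralizer (K : Set G)) Mstar)
    (r : ℕ) [Fact r.Prime] (_ : r ∣ Nat.card U) (R : Sylow r U) (H : Subgroup G) (_ : IsCoatom H)
    (_ : normalizer (((R : Subgroup U).map U.subtype : Subgroup G) : Set G) ≤ H),
    kappa H = ∅ ∧ U ≤ sigmaCore H ∧ M ⊓ H = U ⊔ K ∧ ¬ H ⊓ normalizer (U : Set G) ≤ M ∧
      K ≤ fittingOf (H ⊓ Mstar) ∧ IsComplIn (H ⊓ Mstar) (sigmaCore H) H

/-- conjugating a standard factorisation by an element of `N` -/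
theorem isSigmaDecomposition_cj {N K U : Subgroup G} (hKU : IsSigmaDecomposition N K U) {n : G}
    (hn : n ∈ N) : IsSigmaDecomposition N (cj n K) (cj n U) := by
  have hNN : cj n N = N := cj_eq_self_of_mem hn
  have hWW : cj n (sigmaCore N) = sigmaCore N :=
    cj_eq_self_iff.mpr (Cfsg.Agent.Lib.Helper76.BGSigU.le_normalizer_sigmaCore' N hn)
  refine ⟨?_, ?_, ?_, ?_⟩
  · haveI := hKU.cyclic
    exact isCyclic_of_surjective (cjEquiv n K) (cjEquiv n K).surjective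
  · refine ⟨?_, ?_, ?_⟩
    · rw [← hNN]; exact cj_mono hKU.hall.1
    · intro p hp hd
      rw [card_cj] at hd
      exact hKU.hall.2.1 p hp hd
    · intro p hp hpκ
      have h1 := hKU.hall.2.2 p hp hpκ
      rwa [← relIndex_cj n K N, hNN] at h1
  · have h1 := isComplIn_cj_all hKU.compl n
    rwa [hNN, cj_sup, hWW] at h1
  · rw [normalizer_cj]
    exact cj_mono hKU.normal

namespace Cfg

variable {M N : Subgroup G} {x : G}

/-- the standard factorisation of `N` inside `M ∩ N`, with the partner `N*` -/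
theorem exists_decomp (c : Cfg M x N) (hκN : (kappa N).Nonempty) :
    ∃ K U Ns : Subgroup G, IsSigmaDecomposition N K U ∧ K ≠ ⊥ ∧ U ≠ ⊥ ∧ U ⊔ K = M ⊓ N ∧
      IsCoatom Ns ∧
      K = sigmaCore Ns ⊓ centralizer ((sigmaCore N ⊓ centralizer (K : Set G)) : Set G) ∧
      IsPiHallOf (kappa Ns) (sigmaCore N ⊓ centralizer (K : Set G)) Ns := by
  obtain ⟨⟨K₀, hK₀⟩, hcyc⟩ := Cfsg.Agent.S1351.result c.hG N c.hN
  obtain ⟨⟨U₀, hKU₀⟩, -⟩ := Cfsg.Agent.S1352.result c.hG N c.hN K₀ (hcyc K₀ hK₀) hK₀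
  have hE := Cfsg.Agent.Lib.Helper76.BGSigU.isComplIn_UK c.hσN hKU₀
  obtain ⟨n, hn, hnE⟩ := c.compl_conj hE
  have hKU := isSigmaDecomposition_cj hKU₀ hn
  have hK1 : cj n K₀ ≠ ⊥ := hall_kappa_ne_bot hKU.hall hκN
  have hU1 : cj n U₀ ≠ ⊥ :=
    ((Cfsg.Agent.S1375.result c.hG M c.hM x c.hx c.hx1 c.hxM).choose_spec.2.2.2.2.2.2
      _ _ (by
        have h2 : N = (Cfsg.Agent.S1375.result c.hG M c.hM x c.hx c.hx1 c.hxM).choose :=
          (Cfsg.Agent.S1375.result c.hG M c.hM x c.hx c.hx1 c.hxM).choose_spec.2.1 N c.hN c.hxN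
        rw [← h2]; exact hKU)).1
  obtain ⟨Ns, ⟨hNs, hKst, hKstH⟩, -⟩ := Cfsg.Agent.S1366.result c.hG N c.hN _ _ hKU hK1
  refine ⟨cj n K₀, cj n U₀, Ns, hKU, hK1, hU1, ?_, hNs, hKst, hKstH⟩
  rw [← cj_sup]; exact hnE

/-- a power of `x` of prime order gives the same configuration -/
theorem pow_cfg (c : Cfg M x N) {q : ℕ} (hq : q.Prime) (hqx : q ∣ orderOf x) :
    Cfg M (x ^ (orderOf x / q)) N ∧ orderOf (x ^ (orderOf x / q)) = q := by
  have ho0 : orderOf x ≠ 0 := (orderOf_pos x).ne'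
  have hoy : orderOf (x ^ (orderOf x / q)) = q := orderOf_pow_orderOf_div ho0 hqx
  have hy1 : x ^ (orderOf x / q) ≠ 1 := by
    intro h
    rw [h, orderOf_one] at hoy
    exact hq.one_lt.ne hoy
  have hcc : centralizer ({x} : Set G) ≤ centralizer ({x ^ (orderOf x / q)} : Set G) := by
    intro g hg
    rw [mem_centralizer_iff] at hg ⊢
    intro z hz
    rw [Set.mem_singleton_iff] at hz
    subst hz
    have h1 : Commute x g := hg x rfl
    exact (h1.pow_left _).eq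
  have hyM : ¬ centralizer ({x ^ (orderOf x / q)} : Set G) ≤ M := fun h => c.hxM (hcc.trans h)
  have hy : x ^ (orderOf x / q) ∈ sigmaCore M := pow_mem c.hx _
  obtain ⟨Ny, ⟨hNy, hyNy⟩, -, -⟩ :=
    Cfsg.Agent.S1375.result c.hG M c.hM _ hy hy1 hyM
  obtain ⟨N₀, -, huniq, -⟩ := Cfsg.Agent.S1375.result c.hG M c.hM x c.hx c.hx1 c.hxM
  have h1 : Ny = N₀ := huniq Ny hNy (hcc.trans hyNy)
  have h2 : N = N₀ := huniq N c.hN c.hxN
  refine ⟨⟨c.hG, c.hM, hy, hy1, hyM, c.hN, ?_⟩, hoy⟩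
  rw [h2, ← h1]; exact hyNy

/-- `N_G(⟨x⟩) ≤ N` -/
theorem normalizer_zpowers_le (c : Cfg M x N) : normalizer ((zpowers x : Subgroup G) : Set G) ≤ N := by
  intro g hg
  have hgx : g * x * g⁻¹ ∈ zpowers x := ((mem_normalizer_iff.mp hg) x).mp (mem_zpowers x)
  have h1 : centralizer ({x} : Set G) ≤ cj g N := by
    have h2 : centralizer ({x} : Set G) ≤ centralizer ({g * x * g⁻¹} : Set G) := by
      intro z hz
      rw [mem_centralizer_iff] at hz ⊢
      intro w hw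
      rw [Set.mem_singleton_iff] at hw
      subst hw
      obtain ⟨k, hk⟩ := mem_zpowers_iff.mp hgx
      rw [← hk]
      have h3 : Commute x z := hz x rfl
      exact (h3.zpow_left k).eq
    rw [StarCount.centralizer_singleton_cj] at h2
    exact h2.trans (cj_mono c.hxN)
  obtain ⟨N₀, -, huniq, -⟩ := Cfsg.Agent.S1375.result c.hG M c.hM x c.hx c.hx1 c.hxM
  have h4 : cj g N = N₀ := huniq _ (StarCount.isCoatom_cj' g c.hN) h1
  have h5 : N = N₀ := huniq N c.hN c.hxN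
  have h6 : cj g N = N := by rw [h4, h5]
  have h7 : g ∈ normalizer (N : Set G) := cj_eq_self_iff.mp h6
  have hN1 : N ≠ ⊥ := by
    intro h0
    have : x ∈ N := c.hxN (Cfsg.Agent.Lib.Helper10.BG144T.self_mem_centralizer x)
    rw [h0, Subgroup.mem_bot] at this
    exact c.hx1 this
  rw [Cfsg.Agent.Lib.Helper23.normalizer_eq_of_isCoatom c.hG c.hN hN1 le_rfl le_normalizer] at h7
  exact h7

end Cfg

/-- the hypotheses of S1435 for `(N, K, U, N*, q, R, H := M)` -/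
structure Setup (M N K U Ns : Subgroup G) (x : G) (q : ℕ) : Prop where
  hKU : IsSigmaDecomposition N K U
  hK1 : K ≠ ⊥
  hU1 : U ≠ ⊥
  hUK : U ⊔ K = M ⊓ N
  hNs : IsCoatom Ns
  hKst : K = sigmaCore Ns ⊓ centralizer ((sigmaCore N ⊓ centralizer (K : Set G)) : Set G)
  hKstH : IsPiHallOf (kappa Ns) (sigmaCore N ⊓ centralizer (K : Set G)) Ns
  hq : q.Prime
  hqx : q ∣ orderOf x
  hqτ : q ∈ tau2 N
  hqσ : q ∈ sigma M
  hqU : q ∣ Nat.card U
  hUab : IsMulCommutative U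
  hnc : ¬ IsCyclic ↥(Cfsg.Agent.Lib.Helper76.BG159.tPart U q)
  hNR : normalizer ((Cfsg.Agent.Lib.Helper76.BG159.tPart U q : Subgroup G) : Set G) ≤ M

namespace Cfg

variable {M N : Subgroup G} {x : G}

theorem exists_setup (c : Cfg M x N) (hκN : (kappa N).Nonempty) :
    ∃ (K U Ns : Subgroup G) (q : ℕ), Setup M N K U Ns x q := by
  obtain ⟨K, U, Ns, hKU, hK1, hU1, hUK, hNs, hKst, hKstH⟩ := c.exists_decomp hκN
  have ho1 : orderOf x ≠ 1 := fun h => c.hx1 (orderOf_eq_one_iff.mp h)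
  have hq : (orderOf x).minFac.Prime := Nat.minFac_prime ho1
  have hqx : (orderOf x).minFac ∣ orderOf x := Nat.minFac_dvd _
  haveI : Fact (orderOf x).minFac.Prime := ⟨hq⟩
  have hqσ : (orderOf x).minFac ∈ sigma M :=
    Cfsg.Agent.Lib.Helper10.BG144T.sigma_of_mem_sigmaCore c.hG c.hM c.hx hq hqx
  obtain ⟨cy, hoy⟩ := c.pow_cfg hq hqx
  have hXq : IsPGroup (orderOf x).minFac (zpowers (x ^ (orderOf x / (orderOf x).minFac))) := by
    apply IsPGroup.of_card (n := 1)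
    rw [Nat.card_zpowers, hoy, pow_one]
  have hX1 : zpowers (x ^ (orderOf x / (orderOf x).minFac)) ≠ ⊥ := by
    rw [Ne, zpowers_eq_bot]; exact cy.hx1
  have hXM : zpowers (x ^ (orderOf x / (orderOf x).minFac)) ≤ M := by
    rw [zpowers_le]; exact cy.hxMem
  obtain ⟨hqτ, -, -, A, hAD, hAe, hAc, hNA⟩ :=
    Cfsg.Agent.Lib.Helper70.BG14.tau2_of_sigma_normalizer_final c.hG c.hM c.hN c.hNM hqσ hXq hX1
      hXM cy.normalizer_zpowers_le
  have hUab : IsMulCommutative U := Cfsg.Agent.Lib.Helper90.BG1435.abU_of c.hG c.hN hKU hK1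
  -- `A` is conjugate into `U` inside `U ⊔ K`
  have hqK : ¬ (orderOf x).minFac ∣ Nat.card K := fun hd =>
    Cfsg.Agent.Lib.Helper63.BG14.not_kappa_of_tau2 hqτ (hKU.hall.2.1 _ hq hd)
  have hrel : ¬ (orderOf x).minFac ∣ U.relIndex (U ⊔ K) := by
    intro hd
    apply hqK
    have h1 := Cfsg.Agent.Lib.Helper76.BGSigU.card_mul_relIndex (le_sup_left : U ≤ U ⊔ K)
    have h2 := Cfsg.Agent.Lib.Helper23.card_sup_dvd_of_le_normalizer K U hKU.normal
    rw [sup_comm, ← h1, mul_comm] at h2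
    have h3 : U.relIndex (U ⊔ K) ∣ Nat.card K :=
      Nat.dvd_of_mul_dvd_mul_right Nat.card_pos h2
    exact hd.trans h3
  have hAq : IsPGroup (orderOf x).minFac A := by
    intro a
    refine ⟨1, ?_⟩
    apply Subtype.ext
    rw [pow_one, Subgroup.coe_pow]
    exact hAe.2 a.1 a.2
  obtain ⟨m, hm, hmA⟩ := Cfsg.Agent.Lib.Helper76.BGSigU.exists_conj_le_of_not_dvd
    (le_sup_left : U ≤ U ⊔ K) hrel hAq (by rw [hUK]; exact hAD)
  have hA'U : cj m⁻¹ A ≤ U := by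
    intro z hz
    obtain ⟨a, ha, rfl⟩ := mem_cj'.mp hz
    have := hmA a ha
    rwa [inv_inv]
  have hA'T : cj m⁻¹ A ≤ Cfsg.Agent.Lib.Helper76.BG159.tPart U (orderOf x).minFac :=
    Cfsg.Agent.Lib.Helper76.BG159.le_tPart_of_isPGroup hUab hA'U (isPGroup_cj hAq)
  have hA'c : Nat.card ↥(cj m⁻¹ A) = (orderOf x).minFac ^ 2 := by rw [card_cj, hAc]
  have hA'e : ∀ w ∈ cj m⁻¹ A, w ^ (orderOf x).minFac = 1 := by
    intro w hw
    obtain ⟨a, ha, rfl⟩ := mem_cj'.mp hw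
    rw [conj_pow, hAe.2 a ha]; simp
  have hnc : ¬ IsCyclic ↥(Cfsg.Agent.Lib.Helper76.BG159.tPart U (orderOf x).minFac) :=
    Cfsg.Agent.Lib.Helper29.not_isCyclic_of_le hq hA'T hA'c hA'e
  have hUM : U ≤ M := le_sup_left.trans (hUK.le.trans inf_le_left)
  have hqU : (orderOf x).minFac ∣ Nat.card U := by
    have h1 : Nat.card ↥(cj m⁻¹ A) ∣ Nat.card U := Subgroup.card_dvd_of_le hA'U
    rw [hA'c] at h1
    exact (dvd_pow_self _ (by norm_num)).trans h1
  obtain ⟨E, hE⟩ := Cfsg.Agent.Lib.Helper24.BG152.d_exists_compl c.hG c.hM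
  have hNR := (Cfsg.Agent.S1420.result c.hG M c.hM E hE).2.2.1 (orderOf x).minFac
    (Cfsg.Agent.Lib.Helper76.BG159.tPart U (orderOf x).minFac) hqσ
    (Cfsg.Agent.Lib.Helper76.BG159.isPGroup_tPart hUab _)
    ((Cfsg.Agent.Lib.Helper76.BG159.tPart_le U _).trans hUM) hnc
  exact ⟨K, U, Ns, (orderOf x).minFac,
    ⟨hKU, hK1, hU1, hUK, hNs, hKst, hKstH, hq, hqx, hqτ, hqσ, hqU, hUab, hnc, hNR⟩⟩

end Cfg

namespace Setup

variable {M N K U Ns : Subgroup G} {x : G} {q : ℕ}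

/-- the six conclusions of S1435 for `H := M` -/
theorem facts (s : Setup M N K U Ns x q) (c : Cfg M x N) (h35 : Stmt1435 G) :
    kappa M = ∅ ∧ U ≤ sigmaCore M ∧ N ⊓ M = U ⊔ K ∧ ¬ M ⊓ normalizer (U : Set G) ≤ N ∧
      K ≤ fittingOf (M ⊓ Ns) ∧ IsComplIn (M ⊓ Ns) (sigmaCore M) M := by
  haveI : Fact q.Prime := ⟨s.hq⟩
  obtain ⟨R⟩ : Nonempty (Sylow q U) := inferInstance
  have hNR : normalizer (((R : Subgroup U).map U.subtype : Subgroup G) : Set G) ≤ M := by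
    rw [Cfsg.Agent.Lib.Helper76.BG159.sylow_map_eq_tPart s.hUab R]
    exact s.hNR
  exact h35 N c.hN K U s.hKU s.hK1 s.hU1 Ns s.hNs s.hKst s.hKstH q s.hqU R M c.hM hNR

end Setup

end Cfsg.Agent.Lib.Helper22.BG144d
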