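import Mathlib
import Cfsg.Prelude.Def_OddOrderLocal
import Cfsg.Agent.Lib.Helper22.BG144f
import Cfsg.Agent.Lib.Helper32.BG159Defs
import Cfsg.Agent.Lib.Helper24.InvCompl

set_option autoImplicit false
set_option linter.style.haveILetI false
set_option linter.unusedSectionVars false
set_option linter.unusedVariables false

/-!
# S1376 (B&G 14.4(d)): from a 14.4-configuration to helper32's context `CtxF` of CLAIM F

Given S1435 (as the hypothesis `Stmt1435 G`), a 14.4-configuration `(M, x, N)` with `κ(N) ≠ ∅`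
yields `K, U, N*` with `CtxF N K U N* M x`.
-/

namespace Cfsg.Agent.Lib.Helper22.BG144d

open Subgroup Cfsg Cfsg.Agent.Lib.Helper33

universe u

variable {G : Type u} [Group G] [Finite G]

namespace Setup

variable {M N K U Ns : Subgroup G} {x : G} {q : ℕ}

/-- helper90's `Facts` for `(N, K, U, N*, H := M)` -/
theorem facts90 (s : Setup M N K U Ns x q) (c : Cfg M x N) :
    Cfsg.Agent.Lib.Helper90.BG1435.Facts N K U Ns M := by
  haveI : Fact q.Prime := ⟨s.hq⟩
  obtain ⟨R⟩ : Nonempty (Sylow q U) := inferInstance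
  have hNR : normalizer (((R : Subgroup U).map U.subtype : Subgroup G) : Set G) ≤ M := by
    rw [Cfsg.Agent.Lib.Helper76.BG159.sylow_map_eq_tPart s.hUab R]
    exact s.hNR
  exact Cfsg.Agent.Lib.Helper90.BG1435.facts c.hG N c.hN K U s.hKU s.hK1 s.hU1 Ns s.hNs s.hKst
    s.hKstH q s.hqU R M c.hM hNR

/-- `x ∈ U` -/
theorem x_mem_U (s : Setup M N K U Ns x q) (c : Cfg M x N) (hUW : U ≤ sigmaCore M) : x ∈ U := by
  have hF := s.facts90 c
  have hxMN : x ∈ K ⊔ U := by
    rw [sup_comm, s.hUK]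
    exact ⟨c.hxMem, c.hxN (mem_centralizer_singleton_iff.mpr rfl)⟩
  obtain ⟨k, hk, u, hu, hxku⟩ :=
    Cfsg.Agent.Lib.Helper24.exists_mul_of_mem_sup_of_le_normalizer K U s.hKU.normal x hxMN
  have hk' : k = x * u⁻¹ := by rw [hxku]; group
  have hkW : k ∈ sigmaCore M := by
    rw [hk']
    exact mul_mem c.hx (inv_mem (hUW hu))
  have hkC : k ∈ centralizer (K : Set G) := by
    haveI := s.hKU.cyclic
    obtain ⟨g, hg⟩ := IsCyclic.exists_generator (α := K)
    intro y hy
    obtain ⟨i, hi⟩ := Subgroup.mem_zpowers_iff.mp (hg ⟨y, hy⟩)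
    obtain ⟨j, hj⟩ := Subgroup.mem_zpowers_iff.mp (hg ⟨k, hk⟩)
    have hy' : y = (g : G) ^ i := by
      have := congrArg Subtype.val hi; simpa using this.symm
    have hk'' : k = (g : G) ^ j := by
      have := congrArg Subtype.val hj; simpa using this.symm
    rw [hy', hk'']
    exact ((Commute.refl (g : G)).zpow_zpow i j).eq
  have hk1 : k = 1 := by
    have : k ∈ sigmaCore M ⊓ centralizer (K : Set G) := ⟨hkW, hkC⟩
    rw [hF.centK] at this
    exact mem_bot.mp this
  rw [hxku, hk1, one_mul]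
  exact hu

/-- helper32's context of CLAIM F -/
theorem ctxF (s : Setup M N K U Ns x q) (c : Cfg M x N) (h35 : Stmt1435 G) :
    Cfsg.Agent.Lib.Helper32.BG159.CtxF N K U Ns M x := by
  obtain ⟨-, hUW, hNM, -, hKF, hE⟩ := s.facts c h35
  exact ⟨c.hN, c.hM, s.hNs, s.hKU, s.hK1, s.hU1, s.hKst, s.hKstH, s.facts90 c, hUW, hNM, hKF, hE,
    s.x_mem_U c hUW, c.hx1, c.hxN⟩

end Setup

namespace Cfg

variable {M N : Subgroup G} {x : G}

/-- a 14.4-configuration with `κ(N) ≠ ∅` gives a context of CLAIM F (given S1435) -/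
theorem exists_ctxF (c : Cfg M x N) (hκN : (kappa N).Nonempty) (h35 : Stmt1435 G) :
    ∃ K U Ns : Subgroup G, Cfsg.Agent.Lib.Helper32.BG159.CtxF N K U Ns M x := by
  obtain ⟨K, U, Ns, q, s⟩ := c.exists_setup hκN
  exact ⟨K, U, Ns, s.ctxF c h35⟩

end Cfg

end Cfsg.Agent.Lib.Helper22.BG144d
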