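import Mathlib
import Cfsg.Prelude
import Cfsg.Agent.Lib.Helper32.BG159Defs
import Cfsg.Agent.Lib.Helper24.InvCompl
import Cfsg.Agent.Lib.Helper47.BG11a

set_option autoImplicit false
set_option linter.unusedVariables false
open Subgroup Cfsg

namespace Cfsg.Agent.Lib.Helper32.BG159

variable {G : Type*} [Group G] [Finite G]

/-- [F1] `C_E(M_σ) = 1`. -/
theorem cent_E (hG : IsMinSimpleOddOrder G) {N K U Nstar M : Subgroup G} {x : G}
    (c : CtxF N K U Nstar M x) :
    (M ⊓ Nstar) ⊓ centralizer (sigmaCore M : Set G) = ⊥ := by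
  rw [eq_bot_iff]
  rintro e ⟨⟨heM, heNs⟩, heC⟩
  rw [mem_bot]
  have hxW : x ∈ sigmaCore M := c.hUW c.hxU
  have hex : e ∈ centralizer ({x} : Set G) := by
    rw [mem_centralizer_singleton_iff]
    exact (heC x hxW).symm
  have heN : e ∈ N := c.hCx hex
  have heKU : e ∈ K ⊔ U := by
    rw [sup_comm, ← c.hNM]; exact ⟨heN, heM⟩
  obtain ⟨k, hk, u, hu, heku⟩ :=
    Cfsg.Agent.Lib.Helper24.exists_mul_of_mem_sup_of_le_normalizer K U c.hKU.normal e heKU
  have hKE : K ≤ M ⊓ Nstar :=
    le_inf c.facts.K_le (c.facts.K_le_Ms.trans (Cfsg.Agent.Lib.Helper47.BG11.sigmaCore_le Nstar))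
  have hu' : u = k⁻¹ * e := by rw [heku]; group
  have huE : u ∈ M ⊓ Nstar := by
    rw [hu']; exact mul_mem (inv_mem (hKE hk)) ⟨heM, heNs⟩
  have hu1 : u = 1 := by
    have : u ∈ (M ⊓ Nstar) ⊓ sigmaCore M := ⟨huE, c.hUW hu⟩
    rw [c.hE.2.2.1] at this
    exact mem_bot.mp this
  have hek : e = k := by rw [heku, hu1, mul_one]
  by_contra he1
  -- `K = zpowers e`
  have hKz : K = zpowers e := by
    have hzle : zpowers e ≤ K := by rw [zpowers_le, hek]; exact hk
    have hcard : Nat.card (zpowers e) = Nat.card K := by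
      have h1 : Nat.card (zpowers e) ∣ Nat.card K := Subgroup.card_dvd_of_le hzle
      rcases (Nat.dvd_prime c.facts.cardK).mp h1 with h | h
      · exfalso
        rw [Nat.card_zpowers, orderOf_eq_one_iff] at h
        exact he1 h
      · exact h
    exact (Subgroup.eq_of_le_of_card_ge hzle hcard.ge).symm
  have hWC : sigmaCore M ≤ centralizer (K : Set G) := by
    intro w hw y hy
    rw [hKz] at hy
    obtain ⟨i, rfl⟩ := Subgroup.mem_zpowers_iff.mp hy
    have h1 : Commute e w := (heC w hw).symm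
    exact ((h1.zpow_left i).eq)
  have : sigmaCore M = ⊥ := by
    rw [← c.facts.centK]
    exact (inf_eq_left.mpr hWC).symm
  exact c.facts.neH this

end Cfsg.Agent.Lib.Helper32.BG159
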