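import Mathlib
import Cfsg.Agent.Lib.Helper22.LBal
import Cfsg.Agent.Lib.Helper22.FStar
import Cfsg.Prelude.Def_KGroupFacts

/-!
# `L_{p'}`-balance under the Schreier property: the Schreier step

If `O_{p'}(G) = 1`, `J` is a perfect subgroup centralizing `O_p(G)` and normalizing every
component of `G`, and every component `L` has `Out(L/Z(L))` solvable, then `J ≤ E(G)`.
-/

set_option autoImplicit false

namespace Cfsg.Agent.Lib.Helper22.LBalS

open Subgroup Cfsg
open scoped commutatorElement

section aut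

variable (A : Type*) [Group A]

/-- The action of `Aut(A)` on `A / Z(A)`. -/
def autQuotCenter : MulAut A →* MulAut (A ⧸ Subgroup.center A) where
  toFun e := QuotientGroup.congr (Subgroup.center A) (Subgroup.center A) e
    (Subgroup.characteristic_iff_map_eq.mp Subgroup.centerCharacteristic e)
  map_one' := by
    ext q
    induction q using QuotientGroup.induction_on with
    | H x => rfl
  map_mul' e₁ e₂ := by
    ext q
    induction q using QuotientGroup.induction_on with
    | H x => rfl

theorem autQuotCenter_mk (e : MulAut A) (x : A) :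
    autQuotCenter A e (QuotientGroup.mk x) = QuotientGroup.mk (e x) := rfl

end aut

section solv

theorem eq_bot_of_perfect_of_isSolvable {Γ : Type*} [Group Γ] [hΓ : Group.IsSolvable Γ]
    (M : Subgroup Γ) (h : ⁅M, M⁆ = M) : M = ⊥ := by
  obtain ⟨n, hn⟩ := hΓ.solvable
  have key : ∀ k : ℕ, M ≤ derivedSeries Γ k := by
    intro k
    induction k with
    | zero => exact le_top
    | succ k ih =>
      rw [derivedSeries_succ, ← h]
      exact Subgroup.commutator_mono ih ih
  rw [eq_bot_iff, ← hn]
  exact key n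

end solv

section step1

variable {G : Type*} [Group G]

/-- The action of `N_G(L)` on `L / Z(L)`. -/
def actQuot (L : Subgroup G) :
    ↥(normalizer (L : Set G)) →* MulAut (↥L ⧸ Subgroup.center ↥L) :=
  (autQuotCenter ↥L).comp L.normalizerMonoidHom

theorem actQuot_mk (L : Subgroup G) (g : ↥(normalizer (L : Set G))) (x : ↥L) :
    actQuot L g (QuotientGroup.mk x) =
      QuotientGroup.mk (⟨(g : G) * (x : G) * (g : G)⁻¹, (g.2 x).mp x.2⟩ : ↥L) := rfl

theorem actQuot_of_mem (L : Subgroup G) (l : ↥L) :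
    actQuot L ⟨(l : G), le_normalizer l.2⟩ = MulAut.conj (QuotientGroup.mk l : ↥L ⧸ Subgroup.center ↥L) := by
  ext q
  induction q using QuotientGroup.induction_on with
  | H x =>
    rw [actQuot_mk, MulAut.conj_apply, ← QuotientGroup.mk_mul, ← QuotientGroup.mk_inv,
      ← QuotientGroup.mk_mul]
    rfl

/-- The kernel of the action on `L / Z(L)` centralizes `L` when `L` is perfect. -/
theorem ker_actQuot_le_centralizer {L : Subgroup G} (hL : ⁅L, L⁆ = L) :
    (actQuot L).ker.map (normalizer (L : Set G)).subtype ≤ centralizer (L : Set G) := by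
  set B : Subgroup G := (actQuot L).ker.map (normalizer (L : Set G)).subtype with hB
  set ZL : Subgroup G := (Subgroup.center ↥L).map L.subtype with hZL
  have hZc : ZL ≤ centralizer (L : Set G) := by
    rintro _ ⟨z, hz, rfl⟩
    rw [Subgroup.mem_centralizer_iff]
    intro m hm
    have := Subgroup.mem_center_iff.mp hz ⟨m, hm⟩
    exact congrArg Subtype.val this
  have h1 : ⁅B, L⁆ ≤ ZL := by
    rw [Subgroup.commutator_le]
    rintro _ ⟨g, hg, rfl⟩ x hx
    have hk : actQuot L g (QuotientGroup.mk (⟨x, hx⟩ : ↥L)) = QuotientGroup.mk ⟨x, hx⟩ := by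
      rw [MonoidHom.mem_ker.mp hg]; rfl
    rw [actQuot_mk] at hk
    have hz := QuotientGroup.eq.mp hk.symm
    -- `z = x⁻¹ (g x g⁻¹)` is central in `L`
    have hzG : x⁻¹ * ((g : G) * x * (g : G)⁻¹) ∈ ZL := Subgroup.mem_map.mpr ⟨_, hz, rfl⟩
    have hcomm := Subgroup.mem_centralizer_iff.mp (hZc hzG) x hx
    have e : ⁅((normalizer (L : Set G)).subtype g), x⁆ = x⁻¹ * ((g : G) * x * (g : G)⁻¹) := by
      rw [commutatorElement_def]
      have : (normalizer (L : Set G)).subtype g = (g : G) := rfl
      rw [this]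
      calc (g : G) * x * (g : G)⁻¹ * x⁻¹
          = x * (x⁻¹ * ((g : G) * x * (g : G)⁻¹)) * x⁻¹ := by group
        _ = (x⁻¹ * ((g : G) * x * (g : G)⁻¹)) * x * x⁻¹ := by rw [hcomm]
        _ = x⁻¹ * ((g : G) * x * (g : G)⁻¹) := by group
    rw [e]
    exact hzG
  have h2 : ⁅⁅B, L⁆, L⁆ = ⊥ := by
    rw [eq_bot_iff]
    refine le_trans (Subgroup.commutator_mono h1 le_rfl) ?_
    rw [Subgroup.commutator_eq_bot_iff_le_centralizer.mpr hZc]
  have h3 := Cfsg.Agent.Lib.Helper21.commutator_eq_bot_of_perfect hL h2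
  exact Subgroup.commutator_eq_bot_iff_le_centralizer.mp h3

/-- A perfect group normalizing the perfect subgroup `L` with `Out(L/Z(L))` solvable induces
inner automorphisms: `J ≤ L C_G(L)`. -/
theorem le_sup_centralizer_of_out_solvable {J L : Subgroup G} (hperf : ⁅J, J⁆ = J)
    (hJL : J ≤ normalizer (L : Set G)) (hL : ⁅L, L⁆ = L)
    (hS : Group.IsSolvable (Cfsg.Out (↥L ⧸ Subgroup.center ↥L))) :
    J ≤ L ⊔ centralizer (L : Set G) := by
  set Φ : ↥(normalizer (L : Set G)) →* Cfsg.Out (↥L ⧸ Subgroup.center ↥L) :=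
    (QuotientGroup.mk' (Cfsg.Inn (↥L ⧸ Subgroup.center ↥L))).comp (actQuot L) with hΦ
  set J' : Subgroup ↥(normalizer (L : Set G)) := J.subgroupOf (normalizer (L : Set G)) with hJ'
  have hJ'perf : ⁅J', J'⁆ = J' := by
    apply Subgroup.map_injective (Subgroup.subtype_injective (normalizer (L : Set G)))
    rw [Subgroup.map_commutator, hJ', Subgroup.subgroupOf_map_subtype, inf_eq_left.mpr hJL, hperf]
  have hM : J'.map Φ = ⊥ := by
    apply eq_bot_of_perfect_of_isSolvable
    rw [← Subgroup.map_commutator, hJ'perf]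
  intro j hj
  have hj' : (⟨j, hJL hj⟩ : ↥(normalizer (L : Set G))) ∈ J' := Subgroup.mem_subgroupOf.mpr hj
  have h1 : Φ ⟨j, hJL hj⟩ = 1 := by
    have : Φ ⟨j, hJL hj⟩ ∈ J'.map Φ := Subgroup.mem_map_of_mem Φ hj'
    rw [hM] at this
    exact Subgroup.mem_bot.mp this
  have h2 : actQuot L ⟨j, hJL hj⟩ ∈ Cfsg.Inn (↥L ⧸ Subgroup.center ↥L) :=
    (QuotientGroup.eq_one_iff _).mp h1
  obtain ⟨a, ha⟩ := h2
  obtain ⟨l, rfl⟩ := QuotientGroup.mk_surjective a
  have h3 : actQuot L (⟨(l : G), le_normalizer l.2⟩⁻¹ * ⟨j, hJL hj⟩) = 1 := by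
    rw [map_mul, map_inv, actQuot_of_mem, ← ha]
    exact inv_mul_cancel _
  have h4 : (l : G)⁻¹ * j ∈ centralizer (L : Set G) := by
    apply ker_actQuot_le_centralizer hL
    exact Subgroup.mem_map.mpr ⟨_, MonoidHom.mem_ker.mpr h3, rfl⟩
  have : j = (l : G) * ((l : G)⁻¹ * j) := by group
  rw [this]
  exact Subgroup.mul_mem_sup l.2 h4

end step1

section step2

variable {G : Type*} [Group G]

theorem exists_mul_of_finset {J : Subgroup G}
    (h : ∀ L : Subgroup G, IsComponent L → J ≤ L ⊔ centralizer (L : Set G)) :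
    ∀ s : Finset (Subgroup G), (∀ L ∈ s, IsComponent L) → ∀ j ∈ J,
      ∃ e ∈ (⨆ L ∈ s, L : Subgroup G), ∃ c : G,
        (∀ L ∈ s, c ∈ centralizer (L : Set G)) ∧ j = e * c := by
  classical
  intro s
  induction s using Finset.induction_on with
  | empty =>
    intro _ j _
    exact ⟨1, one_mem _, j, by simp, by simp⟩
  | insert L' s hL's ih =>
    intro hs j hj
    have hs' : ∀ L ∈ s, IsComponent L := fun L hL => hs L (Finset.mem_insert_of_mem hL)
    have hL' : IsComponent L' := hs L' (Finset.mem_insert_self _ _)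
    obtain ⟨e, he, c, hc, rfl⟩ := ih hs' j hj
    -- `⨆ s ≤ C(L')`
    have hsC : (⨆ L ∈ s, L : Subgroup G) ≤ centralizer (L' : Set G) := by
      apply iSup₂_le
      intro L hL
      have hne : L ≠ L' := fun heq => hL's (heq ▸ hL)
      exact Subgroup.commutator_eq_bot_iff_le_centralizer.mp
        (Cfsg.Agent.Lib.Helper22.components_commute (hs' L hL) hL' hne)
    have hcm : c ∈ L' ⊔ centralizer (L' : Set G) := by
      have h1 : e⁻¹ ∈ L' ⊔ centralizer (L' : Set G) := le_sup_right (α := Subgroup G) (inv_mem (hsC he))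
      have h2 := mul_mem h1 (h L' hL' hj)
      simpa using h2
    have hLn : L' ≤ normalizer ((centralizer (L' : Set G) : Subgroup G) : Set G) := by
      intro g hg
      rw [← Cfsg.Agent.Lib.Helper33.cj_eq_self_iff, ← Cfsg.Agent.Lib.Helper33.centralizer_cj,
        Cfsg.Agent.Lib.Helper33.cj_eq_self_of_mem hg]
    have hcm' : c ∈ (↑(L' ⊔ centralizer (L' : Set G)) : Set G) := hcm
    rw [Subgroup.coe_mul_of_left_le_normalizer_right L' _ hLn] at hcm'
    obtain ⟨l', hl', c', hc', rfl⟩ := hcm'
    refine ⟨e * l', ?_, c', ?_, by group⟩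
    · apply mul_mem
      · refine (iSup₂_le fun L hL => ?_ : (⨆ L ∈ s, L : Subgroup G) ≤ ⨆ L ∈ insert L' s, L) he
        exact le_iSup₂ (f := fun (L : Subgroup G) (_ : L ∈ insert L' s) => L) L
          (Finset.mem_insert_of_mem hL)
      · exact le_iSup₂ (f := fun (L : Subgroup G) (_ : L ∈ insert L' s) => L) L'
          (Finset.mem_insert_self _ _) hl'
    · intro L hL
      rcases Finset.mem_insert.mp hL with rfl | hL
      · exact hc'
      · have hne : L ≠ L' := fun heq => hL's (heq ▸ hL)
        have h1 : L' ≤ centralizer (L : Set G) :=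
          Subgroup.commutator_eq_bot_iff_le_centralizer.mp
            (Cfsg.Agent.Lib.Helper22.components_commute hL' (hs' L hL) hne.symm)
        have h2 := mul_mem (inv_mem (h1 hl')) (hc L hL)
        simpa using h2

theorem le_layer_sup_centralizer [Finite G] {J : Subgroup G}
    (h : ∀ L : Subgroup G, IsComponent L → J ≤ L ⊔ centralizer (L : Set G)) :
    J ≤ layer G ⊔ centralizer (layer G : Set G) := by
  classical
  intro j hj
  have hfin : {L : Subgroup G | IsComponent L}.Finite := Set.toFinite _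
  obtain ⟨e, he, c, hc, rfl⟩ := exists_mul_of_finset h hfin.toFinset
    (fun L hL => by simpa using hL) j hj
  apply Subgroup.mul_mem_sup
  · refine (iSup₂_le fun L hL => ?_ : (⨆ L ∈ hfin.toFinset, L : Subgroup G) ≤ layer G) he
    exact le_sSup (by simpa using hL)
  · have : zpowers c ≤ centralizer (layer G : Set G) := by
      rw [Subgroup.le_centralizer_iff]
      apply sSup_le
      intro L hL
      rw [← Subgroup.le_centralizer_iff, Subgroup.zpowers_le]
      exact hc L (by simpa using hL)
    exact this (Subgroup.mem_zpowers c)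

end step2

section step3

universe u

variable {G : Type u} [Group G] [Finite G] {p : ℕ} [hp : Fact p.Prime]

/-- **The Schreier step.** -/
theorem le_layer_of_schreier (hO : pPrimeCore p G = ⊥) {J : Subgroup G} (hperf : ⁅J, J⁆ = J)
    (hJQ : J ≤ centralizer (pCore p G : Set G))
    (hJN : ∀ L : Subgroup G, IsComponent L → J ≤ normalizer (L : Set G))
    (hS : ∀ L : Subgroup G, IsComponent L →
      Group.IsSolvable (Cfsg.Out (↥L ⧸ Subgroup.center ↥L))) : J ≤ layer G := by
  have hEn : (layer G).Normal := Cfsg.Agent.Lib.Helper22.layer_normal G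
  have hF : fittingSubgroup G = pCore p G :=
    Cfsg.Agent.Lib.Helper91.fittingSubgroup_eq_pCore_of_pPrimeCore_eq_bot hO
  have hEQ : layer G ≤ centralizer (pCore p G : Set G) := by
    rw [← hF]; exact Cfsg.Agent.Lib.Helper22.layer_le_centralizer_fitting G
  have h1 : ∀ L : Subgroup G, IsComponent L → J ≤ L ⊔ centralizer (L : Set G) := fun L hL =>
    le_sup_centralizer_of_out_solvable hperf (hJN L hL) (Subgroup.isPerfect_iff.mp hL.2.1)
      (hS L hL)
  have h2 := le_layer_sup_centralizer h1
  -- `A = Z(F*(G))`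
  set A : Subgroup G := generalizedFittingSubgroup G ⊓
    centralizer (generalizedFittingSubgroup G : Set G) with hA
  have h3 : J ≤ layer G ⊔ A := by
    intro j hj
    obtain ⟨e, he, c, hc, rfl⟩ := Subgroup.mem_sup_of_normal_left.mp (h2 hj)
    apply Subgroup.mul_mem_sup he
    have hcQ : c ∈ centralizer (pCore p G : Set G) := by
      have := mul_mem (inv_mem (hEQ he)) (hJQ hj)
      simpa using this
    have hcF : c ∈ centralizer (generalizedFittingSubgroup G : Set G) := by
      have : zpowers c ≤ centralizer (generalizedFittingSubgroup G : Set G) := by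
        rw [Subgroup.le_centralizer_iff]
        unfold generalizedFittingSubgroup
        rw [hF]
        apply sup_le
        · rw [← Subgroup.le_centralizer_iff, Subgroup.zpowers_le]; exact hc
        · rw [← Subgroup.le_centralizer_iff, Subgroup.zpowers_le]; exact hcQ
      exact this (Subgroup.mem_zpowers c)
    exact ⟨Cfsg.Agent.Lib.Helper22.centralizer_generalizedFitting_le G hcF, hcF⟩
  have hAc : A ≤ centralizer ((layer G ⊔ A : Subgroup G) : Set G) := by
    refine le_trans inf_le_right (Subgroup.centralizer_le ?_)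
    have : layer G ⊔ A ≤ generalizedFittingSubgroup G :=
      sup_le (Cfsg.Agent.Lib.Helper22.layer_le_generalizedFitting G) inf_le_left
    exact_mod_cast this
  have h4 : ⁅(layer G ⊔ A : Subgroup G), (layer G ⊔ A : Subgroup G)⁆ ≤ layer G := by
    rw [Subgroup.commutator_le]
    intro g₁ hg₁ g₂ hg₂
    obtain ⟨e, he, a, ha, rfl⟩ := Subgroup.mem_sup_of_normal_left.mp hg₁
    have hcomm : a * g₂ = g₂ * a := (Subgroup.mem_centralizer_iff.mp (hAc ha) g₂ hg₂).symm
    have e1 : ⁅e * a, g₂⁆ = e * (g₂ * e⁻¹ * g₂⁻¹) := by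
      rw [commutatorElement_def]
      calc e * a * g₂ * (e * a)⁻¹ * g₂⁻¹ = e * (a * g₂) * a⁻¹ * e⁻¹ * g₂⁻¹ := by group
        _ = e * (g₂ * a) * a⁻¹ * e⁻¹ * g₂⁻¹ := by rw [hcomm]
        _ = e * (g₂ * e⁻¹ * g₂⁻¹) := by group
    rw [e1]
    exact mul_mem he (hEn.conj_mem _ (inv_mem he) g₂)
  calc J = ⁅J, J⁆ := hperf.symm
    _ ≤ ⁅(layer G ⊔ A : Subgroup G), (layer G ⊔ A : Subgroup G)⁆ := Subgroup.commutator_mono h3 h3
    _ ≤ layer G := h4

end step3

section quot

open Cfsg.Agent.Lib.Helper23 (pUp pUp_le)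
open Cfsg.Agent.Lib.Helper22.LBal

variable {A B : Type*} [Group A] [Group B] [Finite A] [Finite B] {p : ℕ} [hp : Fact p.Prime]

/-- The image of a `p`-component under a surjection with `p'`-kernel is a `p`-component. -/
theorem isPComponent_map_of_coprime_ker (f : A →* B) (hf : Function.Surjective f)
    (hker : (Nat.card f.ker).Coprime p) {J₀ : Subgroup A} (hJ : IsPComponent p J₀) :
    IsPComponent p (J₀.map f) := by
  have hqs := Cfsg.Agent.Lib.Helper23.isQuasisimple_quotient_pPrimeCore p hJ
  have hgen := pUp_eq_of_isPComponent hJ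
  apply isPComponent_of_intrinsic (hJ.1.map hf)
  · -- quasisimple quotient
    set g : ↥J₀ →* ↥(J₀.map f) := f.subgroupMap J₀ with hg
    have hgs : Function.Surjective g := MonoidHom.subgroupMap_surjective _ _
    have hgker : (Nat.card g.ker).Coprime p := by
      have h1 : g.ker.map J₀.subtype ≤ f.ker := by
        rintro _ ⟨x, hx, rfl⟩
        rw [MonoidHom.mem_ker]
        have h2 := congrArg Subtype.val (MonoidHom.mem_ker.mp hx)
        simpa [hg] using h2
      rw [← Subgroup.card_subtype J₀ g.ker]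
      exact Nat.Coprime.coprime_dvd_left (Subgroup.card_dvd_of_le h1) hker
    have hle : pPrimeCore p ↥J₀ ≤ (pPrimeCore p ↥(J₀.map f)).comap g := by
      rw [← Subgroup.map_le_iff_le_comap]
      have hn : ((pPrimeCore p ↥J₀).map g).Normal :=
        (inferInstance : (pPrimeCore p ↥J₀).Normal).map g hgs
      apply Cfsg.Agent.Lib.Helper30.le_pPrimeCore p
      exact Nat.Coprime.coprime_dvd_left (Subgroup.card_map_dvd _ g)
        (Cfsg.Agent.Lib.Helper30.pPrimeCore_card_coprime p)
    set gq := QuotientGroup.map (pPrimeCore p ↥J₀) (pPrimeCore p ↥(J₀.map f)) g hle with hgq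
    have hgqs : Function.Surjective gq := by
      apply QuotientGroup.map_surjective_of_surjective
      exact (QuotientGroup.mk_surjective).comp hgs
    have hnt : Nontrivial (↥(J₀.map f) ⧸ pPrimeCore p ↥(J₀.map f)) := by
      rw [← not_subsingleton_iff_nontrivial]
      intro hs
      have htop : pPrimeCore p ↥(J₀.map f) = ⊤ := by
        rw [eq_top_iff]
        intro x _
        have := Subsingleton.elim (QuotientGroup.mk x : ↥(J₀.map f) ⧸ pPrimeCore p ↥(J₀.map f)) 1
        exact (QuotientGroup.eq_one_iff x).mp this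
      have hc1 : (Nat.card ↥(J₀.map f)).Coprime p := by
        have := Cfsg.Agent.Lib.Helper30.pPrimeCore_card_coprime (G := ↥(J₀.map f)) p
        rwa [htop, Subgroup.card_top] at this
      have hc2 : (Nat.card ↥J₀).Coprime p := by
        rw [← Subgroup.card_mul_index g.ker, Subgroup.index_ker,
          MonoidHom.range_eq_top.mpr hgs, Subgroup.card_top]
        exact Nat.Coprime.mul_left hgker hc1
      have htop' : pPrimeCore p ↥J₀ = ⊤ := by
        rw [eq_top_iff]
        apply Cfsg.Agent.Lib.Helper30.le_pPrimeCore p (⊤ : Subgroup ↥J₀)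
        rw [Subgroup.card_top]
        exact hc2
      have hnt := Cfsg.Agent.Lib.Helper21.quasisimple_nontrivial hqs
      have hss : Subsingleton (↥J₀ ⧸ pPrimeCore p ↥J₀) := by
        rw [htop']
        exact QuotientGroup.subsingleton_quotient_top
      exact not_subsingleton _ hss
    exact Cfsg.Agent.S2020.isQuasisimple_of_surjective hqs gq hgqs
  · apply le_antisymm (pUp_le p _)
    have := pUp_map_le p f J₀
    rwa [hgen] at this

end quot

section final

open Cfsg.Agent.Lib.Helper23 (pUp pUp_le)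
open Cfsg.Agent.Lib.Helper22.LBal

universe u

variable {G : Type u} [Group G] [Finite G] {p : ℕ} [hp : Fact p.Prime]

/-- With `O_{p'}(G) = 1` and the Schreier property, a `p`-component of a `p`-local subgroup
lies in `E(G)`. -/
theorem pComp_le_layer (hO : pPrimeCore p G = ⊥)
    (hS : ∀ L : Subgroup G, IsComponent L →
      Group.IsSolvable (Cfsg.Out (↥L ⧸ Subgroup.center ↥L)))
    {P : Subgroup G} (hP : IsPGroup p P) {J₀ : Subgroup ↥(normalizer (P : Set G))}
    (hJ : IsPComponent p J₀) :
    J₀.map (normalizer (P : Set G)).subtype ≤ layer G :=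
  le_layer_of_schreier hO (pComp_perfect hJ) (pComp_le_centralizer_pCore hP hJ)
    (fun _ hL => pComp_le_normalizer_component hO hP hJ hL) hS

/-- `E(X / O_{p'}(X))` is the image of `L_{p'}(X)`. -/
theorem layer_quotient_le_map_pLayer :
    layer (G ⧸ pPrimeCore p G) ≤ (pLayer p G).map (QuotientGroup.mk' (pPrimeCore p G)) := by
  unfold layer
  apply sSup_le
  intro Kbar hK
  obtain ⟨h1, h2⟩ := Cfsg.Agent.Lib.Helper23.isPComponent_pUp p (hK : IsComponent Kbar)
  rw [← h2]
  apply Subgroup.map_mono
  exact le_sSup h1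

/-- **`L_{p'}`-balance under the Schreier property**, for a single `p`-component. -/
theorem pComp_le_pLayer
    (hS : ∀ K : Subgroup (G ⧸ pPrimeCore p G), IsComponent K →
      Group.IsSolvable (Cfsg.Out (↥K ⧸ Subgroup.center ↥K)))
    {R : Subgroup G} (hR : IsPGroup p R) {J₀ : Subgroup ↥(normalizer (R : Set G))}
    (hJ : IsPComponent p J₀) :
    J₀.map (normalizer (R : Set G)).subtype ≤ pLayer p G := by
  have hπ : Function.Surjective (QuotientGroup.mk' (pPrimeCore p G)) :=
    QuotientGroup.mk'_surjective _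
  have hOc : (Nat.card (pPrimeCore p G)).Coprime p :=
    Cfsg.Agent.Lib.Helper30.pPrimeCore_card_coprime p
  have hker : (Nat.card (QuotientGroup.mk' (pPrimeCore p G)).ker).Coprime p := by
    rw [QuotientGroup.ker_mk']; exact hOc
  -- the map between the normalizers
  let f : ↥(normalizer (R : Set G)) →*
      ↥(normalizer ((R.map (QuotientGroup.mk' (pPrimeCore p G)) : Subgroup _) : Set _)) :=
    ((QuotientGroup.mk' (pPrimeCore p G)).comp (normalizer (R : Set G)).subtype).codRestrict _
      (fun x => Subgroup.le_normalizer_map (QuotientGroup.mk' (pPrimeCore p G))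
        ⟨x.1, x.2, rfl⟩)
  have hfval : ∀ x, ((f x : G ⧸ pPrimeCore p G)) = QuotientGroup.mk' (pPrimeCore p G) x.1 :=
    fun x => rfl
  have hfs : Function.Surjective f := by
    rintro ⟨n', hn'⟩
    obtain ⟨n, hn, hfn⟩ := Cfsg.Agent.Lib.Helper54.exists_mem_normalizer_map_eq p
      (QuotientGroup.mk' (pPrimeCore p G)) hπ hker R hR n' hn'
    exact ⟨⟨n, hn⟩, Subtype.ext hfn⟩
  have hfker : (Nat.card f.ker).Coprime p := by
    have h1 : f.ker.map (normalizer (R : Set G)).subtype ≤ pPrimeCore p G := by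
      rintro _ ⟨x, hx, rfl⟩
      have h2 := congrArg Subtype.val (MonoidHom.mem_ker.mp hx)
      rw [hfval] at h2
      have h3 : (x.1 : G) ∈ (QuotientGroup.mk' (pPrimeCore p G)).ker := by
        rw [MonoidHom.mem_ker]; simpa using h2
      rwa [QuotientGroup.ker_mk'] at h3
    rw [← Subgroup.card_subtype (normalizer (R : Set G)) f.ker]
    exact Nat.Coprime.coprime_dvd_left (Subgroup.card_dvd_of_le h1) hOc
  have hJ' : IsPComponent p (J₀.map f) := isPComponent_map_of_coprime_ker f hfs hfker hJ
  have hObar : pPrimeCore p (G ⧸ pPrimeCore p G) = ⊥ :=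
    Cfsg.Agent.Lib.Helper30.pPrimeCore_quotient_eq_bot p
  have h1 := pComp_le_layer hObar hS (hR.map (QuotientGroup.mk' (pPrimeCore p G))) hJ'
  have h2 : (J₀.map f).map
      (normalizer ((R.map (QuotientGroup.mk' (pPrimeCore p G)) : Subgroup _) : Set _)).subtype =
      (J₀.map (normalizer (R : Set G)).subtype).map (QuotientGroup.mk' (pPrimeCore p G)) := by
    rw [Subgroup.map_map, Subgroup.map_map]
    rfl
  rw [h2] at h1
  have h3 : J₀.map (normalizer (R : Set G)).subtype ≤ pLayer p G ⊔ pPrimeCore p G := by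
    have := le_trans h1 layer_quotient_le_map_pLayer
    rw [Subgroup.map_le_iff_le_comap, Subgroup.comap_map_eq, QuotientGroup.ker_mk'] at this
    exact this
  haveI : (pLayer p G).Normal := Cfsg.Agent.Lib.Helper23.pLayer_normal p
  exact le_of_le_sup_of_pUp (Subgroup.normalizer_eq_top (H := pLayer p G) ▸ le_top) hOc
    (pComp_gen hJ) h3

/-- **`L_{p'}`-balance under the Schreier property.** -/
theorem pLayer_normalizer_le_pLayer
    (hS : ∀ K : Subgroup (G ⧸ pPrimeCore p G), IsComponent K →
      Group.IsSolvable (Cfsg.Out (↥K ⧸ Subgroup.center ↥K)))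
    {R : Subgroup G} (hR : IsPGroup p R) :
    (pLayer p ↥(normalizer (R : Set G))).map (normalizer (R : Set G)).subtype ≤ pLayer p G := by
  rw [Subgroup.map_le_iff_le_comap]
  unfold pLayer
  apply sSup_le
  intro J₀ hJ
  rw [← Subgroup.map_le_iff_le_comap]
  exact pComp_le_pLayer hS hR hJ

end final

end Cfsg.Agent.Lib.Helper22.LBalS
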