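import Mathlib
import Cfsg.Agent.Lib.Helper22.BP6

/-!
# A `p`-component of `C_Y(x)` whose core is centralized modulo `O_{p'}(Y)` becomes a component of
`C_{Y/O_{p'}(Y)}(x)`
-/

set_option autoImplicit false

namespace Cfsg.Agent.Lib.Helper22.BP

open Subgroup Cfsg
open scoped commutatorElement
open Cfsg.Agent.Lib.Helper33 (cj cj_def mem_cj mem_cj' cj_mul cj_one cj_eq_self_iff cj_mono
  centralizer_cj cj_inv_cj cj_cj_inv cjEquiv)
open Cfsg.Agent.Lib.Helper23 (pUp pUp_le mem_pUp_of_pow)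
open Cfsg.Agent.Lib.Helper22.LBal

section modcore

variable {Y : Type*} [Group Y] [Finite Y] {p : ℕ} [hp : Fact p.Prime]

/-- Coprime action: `C_{Y/O_{p'}(Y)}(x̄)` is the image of `C_Y(x)` for `x ^ p = 1`. -/
theorem map_centralizer_mk_core {x₀ : Y} (hx : x₀ ^ p = 1) :
    (centralizer ({x₀} : Set Y)).map (QuotientGroup.mk' (pPrimeCore p Y)) =
      centralizer ({QuotientGroup.mk' (pPrimeCore p Y) x₀} : Set (Y ⧸ pPrimeCore p Y)) := by
  set π := QuotientGroup.mk' (pPrimeCore p Y) with hπ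
  apply le_antisymm
  · rintro _ ⟨c, hc, rfl⟩
    rw [SetLike.mem_coe, Subgroup.mem_centralizer_singleton_iff] at hc
    rw [Subgroup.mem_centralizer_singleton_iff, ← map_mul, ← map_mul, hc]
  · intro γ hγ
    obtain ⟨c, rfl⟩ := QuotientGroup.mk'_surjective (pPrimeCore p Y) γ
    rw [Subgroup.mem_centralizer_singleton_iff] at hγ
    have hstab : ∀ z, c⁻¹ * z ∈ pPrimeCore p Y → c⁻¹ * (x₀ * z * x₀⁻¹) ∈ pPrimeCore p Y := by
      intro z hz
      have h1 : π z = π c := by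
        rw [← QuotientGroup.ker_mk' (pPrimeCore p Y), MonoidHom.mem_ker, ← hπ, map_mul, map_inv,
          inv_mul_eq_one] at hz
        exact hz.symm
      rw [← QuotientGroup.ker_mk' (pPrimeCore p Y), MonoidHom.mem_ker, ← hπ, map_mul, map_inv,
        inv_mul_eq_one, map_mul, map_mul, map_inv, h1]
      calc π c = π c * π x₀ * (π x₀)⁻¹ := by group
        _ = π x₀ * π c * (π x₀)⁻¹ := by rw [hγ]
    obtain ⟨z, hz, hfix⟩ := Cfsg.Agent.S2020.exists_fixed_in_coset p x₀ hx (pPrimeCore p Y) c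
      (Cfsg.Agent.Lib.Helper30.pPrimeCore_card_coprime p) hstab
    refine ⟨z, ?_, ?_⟩
    · rw [SetLike.mem_coe, Subgroup.mem_centralizer_singleton_iff]
      calc z * x₀ = (x₀ * z * x₀⁻¹) * x₀ := by rw [hfix]
        _ = x₀ * z := by group
    · rw [← QuotientGroup.ker_mk' (pPrimeCore p Y), MonoidHom.mem_ker, ← hπ, map_mul, map_inv,
        inv_mul_eq_one] at hz
      exact hz.symm

/-- The image in `Y / O_{p'}(Y)` of a `p`-component `J₁` of `C_Y(x)` with
`[J₁, O_{p'}(J₁)] ≤ O_{p'}(Y)` is quasisimple. -/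
theorem isQuasisimple_map_mk_core {J₁ : Subgroup Y} (hI : Intr p J₁) (hperf : ⁅J₁, J₁⁆ = J₁)
    (hKC : ∀ j ∈ J₁, ∀ o : ↥J₁, o ∈ pPrimeCore p ↥J₁ → ⁅j, (o : Y)⁆ ∈ pPrimeCore p Y) :
    IsQuasisimple ↥(J₁.map (QuotientGroup.mk' (pPrimeCore p Y))) := by
  set π := QuotientGroup.mk' (pPrimeCore p Y) with hπ
  set Jq := J₁.map π with hJq
  have hJqne : Jq ≠ ⊥ := by
    intro h
    rw [hJq, Subgroup.map_eq_bot_iff, hπ, QuotientGroup.ker_mk'] at h
    exact hI.not_coprime (Nat.Coprime.coprime_dvd_left (Subgroup.card_dvd_of_le h)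
      (Cfsg.Agent.Lib.Helper30.pPrimeCore_card_coprime p))
  have hIq : Intr p Jq := hI.map π hJqne
  set ψ : ↥J₁ →* ↥Jq := π.subgroupMap J₁ with hψ
  have hψs : Function.Surjective ψ := π.subgroupMap_surjective J₁
  set Z : Subgroup ↥Jq := (pPrimeCore p ↥J₁).map ψ with hZ
  haveI hZn : Z.Normal := Subgroup.Normal.map inferInstance _ hψs
  have hZc : Z ≤ Subgroup.center ↥Jq := by
    rintro _ ⟨o, ho, rfl⟩
    rw [Subgroup.mem_center_iff]
    intro w
    obtain ⟨j, rfl⟩ := hψs w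
    apply Subtype.ext
    show π (j : Y) * π (o : Y) = π (o : Y) * π (j : Y)
    have h1 := hKC j j.2 o ho
    rw [← QuotientGroup.ker_mk' (pPrimeCore p Y), MonoidHom.mem_ker, ← hπ,
      map_commutatorElement, commutatorElement_eq_one_iff_commute] at h1
    exact h1
  have hle : pPrimeCore p ↥J₁ ≤ Z.comap ψ := by
    intro o ho
    exact Subgroup.mem_comap.mpr (Subgroup.mem_map_of_mem ψ ho)
  set χ : ↥J₁ ⧸ pPrimeCore p ↥J₁ →* ↥Jq ⧸ Z := QuotientGroup.map _ _ ψ hle with hχ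
  have hχs : Function.Surjective χ := by
    intro q
    obtain ⟨w, rfl⟩ := QuotientGroup.mk'_surjective Z q
    obtain ⟨j, rfl⟩ := hψs w
    exact ⟨QuotientGroup.mk j, rfl⟩
  haveI : Nontrivial (↥Jq ⧸ Z) := by
    by_contra hnt
    rw [not_nontrivial_iff_subsingleton] at hnt
    have h1 : Z = ⊤ := QuotientGroup.subgroup_eq_top_of_subsingleton _ hnt
    apply hIq.not_coprime
    have h2 : Nat.card Z = Nat.card ↥Jq := by rw [h1, Subgroup.card_top]
    rw [← h2]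
    exact Nat.Coprime.coprime_dvd_left (Subgroup.card_map_dvd _ _)
      (Cfsg.Agent.Lib.Helper30.pPrimeCore_card_coprime p)
  have hq' : IsQuasisimple (↥Jq ⧸ Z) := Cfsg.Agent.S2020.isQuasisimple_of_surjective hI.1 χ hχs
  haveI : Group.IsPerfect ↥Jq := by
    rw [Subgroup.isPerfect_iff, hJq, ← Subgroup.map_commutator, hperf]
  exact isQuasisimple_of_quotient_central Z hZc hq'

/-- Part (i): the image of `J₁` is a component of `C_{Y/O_{p'}(Y)}(x̄)`. -/
theorem isComponent_map_mk_core {x₀ : Y} (hx : x₀ ^ p = 1) {J₁ : Subgroup Y}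
    (hJ : PC p (centralizer ({x₀} : Set Y)) J₁)
    (hKC : ∀ j ∈ J₁, ∀ o : ↥J₁, o ∈ pPrimeCore p ↥J₁ → ⁅j, (o : Y)⁆ ∈ pPrimeCore p Y) :
    IsComponent ((J₁.map (QuotientGroup.mk' (pPrimeCore p Y))).subgroupOf
      (centralizer ({QuotientGroup.mk' (pPrimeCore p Y) x₀} : Set (Y ⧸ pPrimeCore p Y)))) := by
  have hsn := isSubnormal_map_subgroupOf (QuotientGroup.mk' (pPrimeCore p Y)) hJ.1 hJ.2.1
  rw [map_centralizer_mk_core hx] at hsn
  refine ⟨hsn, ?_⟩
  have hle : J₁.map (QuotientGroup.mk' (pPrimeCore p Y)) ≤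
      centralizer ({QuotientGroup.mk' (pPrimeCore p Y) x₀} : Set (Y ⧸ pPrimeCore p Y)) := by
    rw [← map_centralizer_mk_core hx]
    exact Subgroup.map_mono hJ.1
  exact Cfsg.Agent.Lib.Helper21.quasisimple_of_mulEquiv (Subgroup.subgroupOfEquivOfLe hle).symm
    (isQuasisimple_map_mk_core hJ.2.2 hJ.perfect hKC)

/-- Part (ii): `J₁` centralizes modulo `O_{p'}(Y)` every `J₁`-invariant `p'`-subgroup of `C_Y(x)`. -/
theorem commutator_le_core_of_invariant {x₀ : Y} (hx : x₀ ^ p = 1) {J₁ : Subgroup Y}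
    (hJ : PC p (centralizer ({x₀} : Set Y)) J₁)
    (hKC : ∀ j ∈ J₁, ∀ o : ↥J₁, o ∈ pPrimeCore p ↥J₁ → ⁅j, (o : Y)⁆ ∈ pPrimeCore p Y)
    {E₁ : Subgroup Y} (hE : E₁ ≤ centralizer ({x₀} : Set Y)) (hEc : (Nat.card E₁).Coprime p)
    (hinv : ∀ j ∈ J₁, ∀ e ∈ E₁, j * e * j⁻¹ ∈ E₁) : ⁅J₁, E₁⁆ ≤ pPrimeCore p Y := by
  set π := QuotientGroup.mk' (pPrimeCore p Y) with hπ
  set Jq := J₁.map π with hJq
  set Eq := E₁.map π with hEq
  set Cq := centralizer ({π x₀} : Set (Y ⧸ pPrimeCore p Y)) with hCq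
  have hcomp := isComponent_map_mk_core hx hJ hKC
  have hJC : Jq ≤ Cq := by
    rw [hCq, ← map_centralizer_mk_core hx]; exact Subgroup.map_mono hJ.1
  have hEC : Eq ≤ Cq := by
    rw [hCq, ← map_centralizer_mk_core hx]; exact Subgroup.map_mono hE
  have hEqc : (Nat.card Eq).Coprime p :=
    Nat.Coprime.coprime_dvd_left (Subgroup.card_map_dvd _ _) hEc
  have hJN : Jq ≤ normalizer (Eq : Set (Y ⧸ pPrimeCore p Y)) := by
    rintro _ ⟨j, hj, rfl⟩
    rw [← cj_eq_self_iff]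
    apply Cfsg.Agent.Lib.Helper22.LocalCore.cj_eq_of_le'
    rw [cj_def]
    rintro _ ⟨_, ⟨e, he, rfl⟩, rfl⟩
    refine ⟨j * e * j⁻¹, hinv j hj e he, ?_⟩
    simp [MulAut.conj_apply]
  set M := Jq ⊔ Eq with hM
  have hMC : M ≤ Cq := sup_le hJC hEC
  have hJM : Jq ≤ M := le_sup_left
  have hEM : Eq ≤ M := le_sup_right
  have hsnM : (Jq.subgroupOf M).IsSubnormal := by
    have h1 : ((Jq.subgroupOf Cq).subgroupOf (M.subgroupOf Cq)).IsSubnormal := hcomp.1.subgroupOf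
    exact (isSubnormal_subgroupOf_subgroupOf_iff hMC).mp h1
  have hqM : IsQuasisimple ↥(Jq.subgroupOf M) :=
    Cfsg.Agent.Lib.Helper21.quasisimple_of_mulEquiv
      ((Subgroup.subgroupOfEquivOfLe hJC).trans (Subgroup.subgroupOfEquivOfLe hJM).symm) hcomp.2
  have hEn : (Eq.subgroupOf M).Normal :=
    Subgroup.normal_subgroupOf_of_le_normalizer (sup_le hJN le_normalizer)
  have hcomm : ⁅Eq, Jq⁆ = ⊥ := by
    rcases Cfsg.Agent.Lib.Helper21.component_le_or_commutes_normal ⟨hsnM, hqM⟩ hEn with h | h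
    · exfalso
      have h1 : Jq ≤ Eq := (subgroupOf_le_subgroupOf_iff' hJM).mp h
      have hJqne : Jq ≠ ⊥ := by
        intro h2
        rw [hJq, Subgroup.map_eq_bot_iff, hπ, QuotientGroup.ker_mk'] at h2
        exact hJ.not_coprime (Nat.Coprime.coprime_dvd_left (Subgroup.card_dvd_of_le h2)
          (Cfsg.Agent.Lib.Helper30.pPrimeCore_card_coprime p))
      exact (hJ.2.2.map π hJqne).not_coprime
        (Nat.Coprime.coprime_dvd_left (Subgroup.card_dvd_of_le h1) hEqc)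
    · have h2 := congrArg (Subgroup.map M.subtype) h
      rwa [Subgroup.map_commutator, subgroupOf_map_subtype_of_le hEM,
        subgroupOf_map_subtype_of_le hJM, Subgroup.map_bot] at h2
  rw [Subgroup.commutator_comm, ← QuotientGroup.ker_mk' (pPrimeCore p Y), ← hπ,
    ← Subgroup.map_eq_bot_iff, Subgroup.map_commutator]
  exact hcomm

end modcore

end Cfsg.Agent.Lib.Helper22.BP
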