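import Mathlib
import Cfsg.Agent.Lib.Helper22.CgDefs
import Cfsg.Agent.Lib.Helper90.CgCG1
import Cfsg.Agent.Lib.Helper70.CgCG2
import Cfsg.Agent.Lib.Helper49.CgCG3a
import Cfsg.Agent.Lib.Helper95.CgCG3b
import Cfsg.Agent.Lib.Helper69.CgCG3c
import Cfsg.Agent.Lib.Helper24.CgCG5
import Cfsg.Agent.Lib.Helper64.CgCG6b
import Cfsg.Agent.Lib.Helper34.CgCG6c
import Cfsg.Agent.Lib.Helper27.CgCG7
import Cfsg.Agent.Lib.Helper54.CgCG8
import Cfsg.Agent.Lib.Helper8.CgCG8b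
import Cfsg.Agent.Lib.Helper49.CgCG8c
import Cfsg.Agent.Lib.Helper9.CgCG8d
import Cfsg.Agent.Lib.Helper29.CgCG9a

/-!
# Cg hive (S4257): leaf CG9 (HALF).
-/

set_option autoImplicit false

namespace Cfsg.Agent.Lib.Helper22.CgH

open Subgroup Cfsg.Agent.Lib.Helper22.Cg

universe u

/-- CG7b (inline copy). centralizer of a product of two powers. -/
theorem cgh_cent {G : Type u} [Group G] (g a b : G) (hab : a * b = g) (ha : a ∈ zpowers g)
    (hb : b ∈ zpowers g) :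
    centralizer ({g} : Set G) = centralizer ({a} : Set G) ⊓ centralizer ({b} : Set G) := by
  ext y
  rw [mem_inf, mem_centralizer_singleton_iff, mem_centralizer_singleton_iff,
    mem_centralizer_singleton_iff]
  constructor
  · intro h
    have hc : Commute y g := h
    obtain ⟨n, rfl⟩ := mem_zpowers_iff.mp ha
    obtain ⟨m, rfl⟩ := mem_zpowers_iff.mp hb
    exact ⟨(hc.zpow_right n).eq, (hc.zpow_right m).eq⟩
  · rintro ⟨h1, h2⟩
    rw [← hab, ← mul_assoc, h1, mul_assoc, h2, mul_assoc]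

/-- CG6 (inline copy): CG6b + CG6c. -/
theorem cgh_cs_dvd {G : Type u} [Group G] [Finite G] (q : ℕ) [Fact q.Prime] (N : Subgroup G)
    [N.Normal] (hqN : ¬ q ∣ Nat.card N) (Q : Sylow q G)
    (hcen : ∀ y ∈ Q, ∀ g : G, y⁻¹ * g⁻¹ * y * g ∈ N) : ∀ y ∈ Q, cs y ∣ Nat.card N := by
  intro y hy
  apply cg6c (centralizer ({y} : Set G)) N
  intro g
  obtain ⟨c, n, hn, hc, hg⟩ := cg6b q N hqN Q hcen g
  exact ⟨c, mem_centralizer_singleton_iff.mpr (hc y hy), n, hn, hg⟩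

/-- CG9. HALF: the contradiction on the side of the smaller maximal class. -/
theorem cg9 {G : Type u} [Group G] [Finite G] (p q t : ℕ) (hp : p.Prime) (hq : q.Prime)
    (ht : t.Prime)
    (hH1 : ∀ u v : ℕ, u.Prime → v.Prime → Nb G p u → Nb G q v → u ≠ v ∧ ¬ Adj G u v)
    (a0 : G) (hpa : p ∣ cs a0) (hmax : ∀ e : G, q ∣ cs e → cs e < cs a0)
    (hqv : ∃ e : G, q ∣ cs e)
    (c : G) (htc : t ∣ cs c) (hqc : ¬ q ∣ cs c)
    (htp : ∀ u : ℕ, u.Prime → Nb G p u → u ≠ t ∧ ¬ Adj G u t) : False := by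
  classical
  haveI : Fact q.Prime := ⟨hq⟩
  set N : Subgroup G := rstab a0 with hN
  haveI hNn : N.Normal := cg3a a0
  have hNcard : Nat.card N ∣ cs a0 := cg3c a0
  have hNb : ∀ u : ℕ, u.Prime → u ∣ cs a0 → Nb G p u := by
    intro u hu hua
    by_cases hup : u = p
    · exact Or.inl hup
    · right
      exact ⟨a0, Nat.Coprime.mul_dvd_of_dvd_of_dvd
        ((Nat.coprime_primes hp hu).mpr (Ne.symm hup)) hpa hua⟩
  have hq_a0 : ¬ q ∣ cs a0 := by
    intro h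
    exact (hH1 q q hq hq (hNb q hq h) (Or.inl rfl)).1 rfl
  have hqN : ¬ q ∣ Nat.card N := fun h => hq_a0 (dvd_trans h hNcard)
  have hcentral : ∀ e : G, q ∣ cs e → ∀ h : G, e⁻¹ * h⁻¹ * e * h ∈ N := by
    intro e hqe h
    obtain ⟨hcop, hC⟩ := cg9a p q hH1 hp hq a0 e hpa hqe
    have hlt := hmax e hqe
    have hmem : (h⁻¹ * e * h⁻¹⁻¹) * (1 * e * 1⁻¹)⁻¹ ∈ N := by
      apply cg3b
      intro k
      exact cg2_core a0 e (cg1a a0 e hcop) (cg1b a0 e hcop) hlt hC h⁻¹ 1 k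
    have h2 := hNn.conj_mem _ hmem e⁻¹
    have h3 : e⁻¹ * (h⁻¹ * e * h⁻¹⁻¹ * (1 * e * 1⁻¹)⁻¹) * e⁻¹⁻¹ = e⁻¹ * h⁻¹ * e * h := by group
    rw [h3] at h2
    exact h2
  have hdich : ∀ g : G, (¬ q ∣ cs g) ∨ (∀ h : G, g⁻¹ * h⁻¹ * g * h ∈ N) := by
    intro g
    by_cases hg : q ∣ cs g
    · exact Or.inr (hcentral g hg)
    · exact Or.inl hg
  obtain ⟨Q, hQc⟩ := cg8c q c hqc
  have hcen := cg5 q N Q hdich
  have hcsN := cgh_cs_dvd q N hqN Q hcen
  obtain ⟨a, b, hab, ha, hb, ⟨n, han⟩, hbq⟩ := cg7 q c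
  have hcent := cgh_cent c a b hab ha hb
  have hQab : ∀ y ∈ Q, y ∈ centralizer ({a} : Set G) ⊓ centralizer ({b} : Set G) := by
    intro y hy
    rw [← hcent]
    exact mem_centralizer_singleton_iff.mpr (hQc y hy).symm
  have hQa : ∀ y ∈ Q, a * y = y * a := fun y hy =>
    (mem_centralizer_singleton_iff.mp (hQab y hy).1).symm
  have hQb : ∀ y ∈ Q, b * y = y * b := fun y hy =>
    (mem_centralizer_singleton_iff.mp (hQab y hy).2).symm
  have haQ : a ∈ Q := cg8b q Q a ⟨n, han⟩ hQa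
  have key : ∀ w : G, t ∣ cs w → ∀ m : ℕ, 1 < m → m ∣ Nat.card N → m ∣ cs w → False := by
    intro w htw m hm hmN hmw
    obtain ⟨u, hu, hum⟩ := Nat.exists_prime_and_dvd (ne_of_gt hm)
    have hua0 : u ∣ cs a0 := dvd_trans hum (dvd_trans hmN hNcard)
    obtain ⟨hne, hnadj⟩ := htp u hu (hNb u hu hua0)
    exact hnadj ⟨w, Nat.Coprime.mul_dvd_of_dvd_of_dvd ((Nat.coprime_primes hu ht).mpr hne)
      (dvd_trans hum hmw) htw⟩
  by_cases hcsa : cs a = 1
  · have hcb : cs b = cs c := by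
      have h1 : centralizer ({a} : Set G) = ⊤ := Subgroup.index_eq_one.mp hcsa
      show (centralizer ({b} : Set G)).index = (centralizer ({c} : Set G)).index
      rw [hcent, h1, top_inf_eq]
    obtain ⟨y, hyQ, hy1⟩ := cg8d q Q hqv
    obtain ⟨m, hm⟩ := IsPGroup.iff_orderOf.mp Q.isPGroup' ⟨y, hyQ⟩
    have hyord : orderOf y = q ^ m := by
      rw [← hm]
      exact (Subgroup.orderOf_mk y hyQ).symm
    have hcop' : (orderOf b).Coprime (orderOf y) := by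
      rw [hyord]
      exact Nat.Coprime.pow_right m ((Nat.Prime.coprime_iff_not_dvd hq).mpr hbq).symm
    obtain ⟨h1, h2⟩ := cg8 b y (hQb y hyQ) hcop'
    have htb : t ∣ cs b := by rw [hcb]; exact htc
    exact key (b * y) (dvd_trans htb h1) (cs y) hy1 (hcsN y hyQ) h2
  · have hcsa0 : cs a ≠ 0 := Subgroup.index_ne_zero_of_finite
    have hcsa1 : 1 < cs a := by omega
    have hac : cs a ∣ cs c := Subgroup.index_dvd_of_le (by rw [hcent]; exact inf_le_left)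
    exact key c htc (cs a) hcsa1 (hcsN a haQ) hac

end Cfsg.Agent.Lib.Helper22.CgH
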