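import Mathlib
import Cfsg.Agent.Lib.Helper22.CgDefs
import Cfsg.Agent.Lib.Helper29.CgCG9a
import Cfsg.Agent.Lib.Helper22.CgH

/-!
# Cg hive (S4257): leaf CG10 (CORE).
-/

set_option autoImplicit false

namespace Cfsg.Agent.Lib.Helper22.CgI

open Subgroup Cfsg.Agent.Lib.Helper22.Cg

universe u

/-- CG10. CORE: no path `p - r - s - t - q` with `d(p,q) ≥ 4`. -/
theorem cg10 {G : Type u} [Group G] [Finite G] (p r s t q : ℕ) (hp : p.Prime) (hr : r.Prime)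
    (hs : s.Prime) (ht : t.Prime) (hq : q.Prime)
    (hpr : Adj G p r) (hrs : Adj G r s) (hst : Adj G s t) (htq : Adj G t q)
    (hH1 : ∀ u v : ℕ, u.Prime → v.Prime → Nb G p u → Nb G q v → u ≠ v ∧ ¬ Adj G u v) :
    False := by
  classical
  have adj_symm : ∀ a b : ℕ, Adj G a b → Adj G b a := by
    rintro a b ⟨g, hg⟩
    exact ⟨g, by rwa [mul_comm]⟩
  have hH1' : ∀ u v : ℕ, u.Prime → v.Prime → Nb G q u → Nb G p v → u ≠ v ∧ ¬ Adj G u v := by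
    intro u v hu hv hqu hpv
    obtain ⟨h1, h2⟩ := hH1 v u hv hu hpv hqu
    exact ⟨fun h => h1 h.symm, fun h => h2 (adj_symm _ _ h)⟩
  obtain ⟨gpr, hgpr⟩ := hpr
  obtain ⟨grs, hgrs⟩ := hrs
  obtain ⟨gst, hgst⟩ := hst
  obtain ⟨gtq, hgtq⟩ := htq
  have hpgpr : p ∣ cs gpr := dvd_of_mul_right_dvd hgpr
  have hqgtq : q ∣ cs gtq := dvd_of_mul_left_dvd hgtq
  -- maximal elements
  haveI : Nonempty {x : G // p ∣ cs x} := ⟨⟨gpr, hpgpr⟩⟩
  haveI : Nonempty {x : G // q ∣ cs x} := ⟨⟨gtq, hqgtq⟩⟩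
  obtain ⟨⟨a0, hpa0⟩, hmaxA⟩ := Finite.exists_max (fun x : {x : G // p ∣ cs x} => cs (x : G))
  obtain ⟨⟨e0, hqe0⟩, hmaxE⟩ := Finite.exists_max (fun x : {x : G // q ∣ cs x} => cs (x : G))
  have hmaxA' : ∀ x : G, p ∣ cs x → cs x ≤ cs a0 := fun x hx => hmaxA ⟨x, hx⟩
  have hmaxE' : ∀ x : G, q ∣ cs x → cs x ≤ cs e0 := fun x hx => hmaxE ⟨x, hx⟩
  have hcop := (cg9a p q hH1 hp hq a0 e0 hpa0 hqe0).1
  have hne : cs a0 ≠ cs e0 := by
    intro h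
    rw [← h] at hcop
    have h1 : cs a0 = 1 := (Nat.coprime_self _).mp hcop
    rw [h1] at hpa0
    exact hp.one_lt.ne' (Nat.dvd_one.mp hpa0)
  rcases lt_or_gt_of_ne hne with hlt | hlt
  · -- cs a0 < cs e0 : use the q side
    refine Cfsg.Agent.Lib.Helper22.CgH.cg9 q p r hq hp hr hH1' e0 hqe0
      (fun x hx => lt_of_le_of_lt (hmaxA' x hx) hlt) ⟨a0, hpa0⟩ grs (dvd_of_mul_right_dvd hgrs) ?_ ?_
    · intro hpd
      have hsd : s ∣ cs grs := dvd_of_mul_left_dvd hgrs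
      have hNbps : Nb G p s := by
        by_cases hsp : s = p
        · exact Or.inl hsp
        · exact Or.inr ⟨grs, Nat.Coprime.mul_dvd_of_dvd_of_dvd
            ((Nat.coprime_primes hp hs).mpr (Ne.symm hsp)) hpd hsd⟩
      exact (hH1 s t hs ht hNbps (Or.inr (adj_symm t q ⟨gtq, hgtq⟩))).2 ⟨gst, hgst⟩
    · intro u hu hqu
      exact hH1' u r hu hr hqu (Or.inr ⟨gpr, hgpr⟩)
  · -- cs e0 < cs a0
    refine Cfsg.Agent.Lib.Helper22.CgH.cg9 p q t hp hq ht hH1 a0 hpa0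
      (fun x hx => lt_of_le_of_lt (hmaxE' x hx) hlt) ⟨e0, hqe0⟩ gst (dvd_of_mul_left_dvd hgst) ?_ ?_
    · intro hqd
      have hsd : s ∣ cs gst := dvd_of_mul_right_dvd hgst
      have hNbqs : Nb G q s := by
        by_cases hsq : s = q
        · exact Or.inl hsq
        · exact Or.inr ⟨gst, Nat.Coprime.mul_dvd_of_dvd_of_dvd
            ((Nat.coprime_primes hq hs).mpr (Ne.symm hsq)) hqd hsd⟩
      exact (hH1 r s hr hs (Or.inr ⟨gpr, hgpr⟩) hNbqs).2 ⟨grs, hgrs⟩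
    · intro u hu hpu
      exact hH1 u t hu ht hpu (Or.inr (adj_symm t q ⟨gtq, hgtq⟩))

end Cfsg.Agent.Lib.Helper22.CgI
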