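import Mathlib
import Cfsg.Agent.Lib.Helper22.CgDefs

set_option autoImplicit false

namespace Cfsg.Agent.Lib.Helper22.CgX

open Subgroup Cfsg.Agent.Lib.Helper22.Cg

universe u

theorem cg3c_card {G : Type u} [Group G] [Finite G] (x : G) :
    Nat.card (Set.range (fun k : G => k * x * k⁻¹)) = cs x := by
  classical
  show _ = (centralizer ({x} : Set G)).index
  rw [Subgroup.index]
  symm
  let f : G ⧸ centralizer ({x} : Set G) → Set.range (fun k : G => k * x * k⁻¹) :=
    fun c => Quotient.liftOn' c (fun k => (⟨k * x * k⁻¹, ⟨k, rfl⟩⟩ : Set.range (fun k : G => k * x * k⁻¹)))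
      (by
        intro k1 k2 h
        rw [QuotientGroup.leftRel_apply, mem_centralizer_singleton_iff] at h
        apply Subtype.ext
        show k1 * x * k1⁻¹ = k2 * x * k2⁻¹
        have h2 : k2 = k1 * (k1⁻¹ * k2) := by group
        rw [h2]
        have h3 : k1 * (k1⁻¹ * k2) * x * (k1 * (k1⁻¹ * k2))⁻¹ = k1 * ((k1⁻¹ * k2) * x) * (k1⁻¹ * k2)⁻¹ * k1⁻¹ := by group
        rw [h3, h]
        group)
  refine Nat.card_congr (Equiv.ofBijective f ⟨?_, ?_⟩)
  · intro c1 c2
    induction c1 using Quotient.inductionOn' with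
    | h k1 =>
      induction c2 using Quotient.inductionOn' with
      | h k2 =>
        intro h
        have h' : k1 * x * k1⁻¹ = k2 * x * k2⁻¹ := congrArg Subtype.val h
        apply Quotient.sound'
        rw [QuotientGroup.leftRel_apply, mem_centralizer_singleton_iff]
        have : k1⁻¹ * k2 * x = k1⁻¹ * (k2 * x * k2⁻¹) * k2 := by group
        rw [this, ← h']
        group
  · rintro ⟨_, k, rfl⟩
    exact ⟨Quotient.mk'' k, rfl⟩

theorem cg3c {G : Type u} [Group G] [Finite G] (x : G) : Nat.card (rstab x) ∣ cs x := by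
  classical
  have hpre : Set.range (fun k : G => k * x * k⁻¹) =
      (QuotientGroup.mk : G → G ⧸ rstab x) ⁻¹'
        ((QuotientGroup.mk : G → G ⧸ rstab x) '' Set.range (fun k : G => k * x * k⁻¹)) := by
    ext g
    constructor
    · intro hg
      exact ⟨g, hg, rfl⟩
    · rintro ⟨g', hg', hgg'⟩
      have hmem : g'⁻¹ * g ∈ rstab x := QuotientGroup.eq.mp hgg'
      obtain ⟨k, rfl⟩ := hg'
      obtain ⟨k', hk'⟩ := hmem.1 k
      refine ⟨k', ?_⟩
      show k' * x * k'⁻¹ = g
      rw [← hk']
      group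
  rw [← cg3c_card x, hpre, QuotientGroup.card_preimage_mk]
  exact dvd_mul_right _ _

end Cfsg.Agent.Lib.Helper22.CgX
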