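import Mathlib

/-!
# Kb hive (S1299, owner helper22): the `k`-balanced signalizer functor, solvable case.
Definitions for part 1 (Mathlib only): `kbCov`, `KbSys`, `kbSeries`.

`A` acts (by conjugation) on the solvable `p'`-group `W`; `ℱ` is a family of subgroups of `A` ("hyperplanes"),
`Y F ≤ C_W(F)` are `A`-invariant, `W = ⟨Y F⟩`, any two `Y F, Y F'` lie in a common `A`-invariant `Z` all of whose
`A`-invariant subgroups are covered (`X ≤ ⨆ X ⊓ Y F''`), and `Y F' ⊓ C(F) ≤ Y F`. Then `C_W(F) ≤ Y F`.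
-/

set_option autoImplicit false

namespace Cfsg.Agent.Lib.Helper22.Kb

open Subgroup
open scoped commutatorElement

variable {G : Type*} [Group G]

/-- the part of `N` covered by the `Y F` -/
def kbCov (ℱ : Set (Subgroup G)) (Y : Subgroup G → Subgroup G) (N : Subgroup G) : Subgroup G :=
  ⨆ F ∈ ℱ, N ⊓ Y F

/-- the hypotheses of the abstract theorem -/
structure KbSys (p : ℕ) (A W : Subgroup G) (ℱ : Set (Subgroup G)) (Y : Subgroup G → Subgroup G) :
    Prop where
  hAp : IsPGroup p A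
  hFA : ∀ F ∈ ℱ, F ≤ A
  hW : ¬ p ∣ Nat.card W
  hYW : ∀ F ∈ ℱ, Y F ≤ W
  hYC : ∀ F ∈ ℱ, Y F ≤ centralizer (F : Set G)
  hYA : ∀ F ∈ ℱ, A ≤ normalizer (Y F : Set G)
  hcross : ∀ F ∈ ℱ, ∀ F' ∈ ℱ, Y F' ⊓ centralizer (F : Set G) ≤ Y F
  hpair : ∀ F ∈ ℱ, ∀ F' ∈ ℱ, ∃ Z : Subgroup G, Y F ≤ Z ∧ Y F' ≤ Z ∧ A ≤ normalizer (Z : Set G) ∧
    ∀ X : Subgroup G, X ≤ Z → A ≤ normalizer (X : Set G) → X ≤ kbCov ℱ Y X

/-- the derived series of `W` inside `G` -/
def kbSeries (W : Subgroup G) : ℕ → Subgroup G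
  | 0 => W
  | (n + 1) => ⁅kbSeries W n, kbSeries W n⁆

theorem kbSeries_le (W : Subgroup G) (n : ℕ) : kbSeries W n ≤ W := by
  induction n with
  | zero => exact le_rfl
  | succ n ih =>
    show ⁅kbSeries W n, kbSeries W n⁆ ≤ W
    exact (commutator_mono ih ih).trans (by
      rw [commutator_le]
      intro a ha b hb
      exact W.mul_mem (W.mul_mem (W.mul_mem ha hb) (W.inv_mem ha)) (W.inv_mem hb))

theorem kbSeries_eq_map (W : Subgroup G) (n : ℕ) :
    kbSeries W n = (derivedSeries ↥W n).map W.subtype := by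
  induction n with
  | zero =>
    show W = (⊤ : Subgroup ↥W).map W.subtype
    rw [← MonoidHom.range_eq_map, W.range_subtype]
  | succ n ih =>
    show ⁅kbSeries W n, kbSeries W n⁆ = _
    rw [ih, derivedSeries_succ, map_commutator]

theorem kbSeries_normalizer {A W : Subgroup G} (hAW : A ≤ normalizer (W : Set G)) (n : ℕ) :
    A ≤ normalizer (kbSeries W n : Set G) := by
  induction n with
  | zero => exact hAW
  | succ n ih =>
    intro a ha
    have h1 := ih ha
    rw [mem_normalizer_iff] at h1 ⊢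
    -- conjugation by `a` maps `⁅K, K⁆` to itself
    have key : ∀ b : G, (∀ x, x ∈ kbSeries W n ↔ b * x * b⁻¹ ∈ kbSeries W n) →
        ∀ x ∈ ⁅kbSeries W n, kbSeries W n⁆, b * x * b⁻¹ ∈ ⁅kbSeries W n, kbSeries W n⁆ := by
      intro b hb x hx
      have : ⁅kbSeries W n, kbSeries W n⁆ ≤
          (⁅kbSeries W n, kbSeries W n⁆).comap (MulAut.conj b).toMonoidHom := by
        rw [commutator_le]
        intro g₁ h₁ g₂ h₂
        rw [mem_comap]
        have e : (MulAut.conj b).toMonoidHom ⁅g₁, g₂⁆ = ⁅b * g₁ * b⁻¹, b * g₂ * b⁻¹⁆ := by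
          simp only [commutatorElement_def, MulEquiv.coe_toMonoidHom, MulAut.conj_apply]
          group
        rw [e]
        exact commutator_mem_commutator ((hb g₁).mp h₁) ((hb g₂).mp h₂)
      have := this hx
      simpa [mem_comap, MulAut.conj_apply] using this
    intro x
    constructor
    · exact key a h1 x
    · intro hx
      have h2 : ∀ x, x ∈ kbSeries W n ↔ a⁻¹ * x * a⁻¹⁻¹ ∈ kbSeries W n := by
        intro y
        rw [h1 (a⁻¹ * y * a⁻¹⁻¹)]
        have : a * (a⁻¹ * y * a⁻¹⁻¹) * a⁻¹ = y := by group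
        rw [this]
      have := key a⁻¹ h2 _ hx
      have e : a⁻¹ * (a * x * a⁻¹) * a⁻¹⁻¹ = x := by group
      rwa [e] at this

end Cfsg.Agent.Lib.Helper22.Kb
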