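import Mathlib
import Cfsg.Agent.Lib.Helper22.KbDefs
import Cfsg.Agent.Lib.Helper32.KbK2
import Cfsg.Agent.Lib.Helper55.KbK4

/-!
# Kb hive (S1299, owner helper22): the abstract covering theorem `kb_core` (assembly of KB-K2 + KB-K4).
-/

set_option autoImplicit false

namespace Cfsg.Agent.Lib.Helper22.Kb

open Subgroup
open scoped commutatorElement

variable {G : Type*} [Group G]

variable {p : ℕ} {A W : Subgroup G} {ℱ : Set (Subgroup G)} {Y : Subgroup G → Subgroup G}

/-- ASSEMBLY: the abstract covering theorem. -/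
theorem kb_core [Finite G] [Fact p.Prime] (h : KbSys p A W ℱ Y) (hWs : Group.IsSolvable ↥W)
    (hAW : A ≤ normalizer (W : Set G)) (hgen : W ≤ ⨆ F ∈ ℱ, Y F) :
    ∀ F ∈ ℱ, W ⊓ centralizer (F : Set G) ≤ Y F := by
  intro F hF
  -- all terms of the derived series are covered
  have hcov : ∀ n, kbSeries W n ≤ kbCov ℱ Y (kbSeries W n) := by
    intro n
    induction n with
    | zero =>
      show W ≤ ⨆ F ∈ ℱ, W ⊓ Y F
      refine hgen.trans (iSup₂_le fun F' hF' => ?_)
      exact le_trans (le_inf (h.hYW F' hF') le_rfl) (le_iSup₂ (f := fun F _ => W ⊓ Y F) F' hF')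
    | succ n ih => exact kb_cov_commutator h ih (kbSeries_normalizer hAW n)
  obtain ⟨n, hn⟩ := (Group.isSolvable_def ↥W).mp hWs
  have hbot : kbSeries W n = ⊥ := by rw [kbSeries_eq_map, hn, Subgroup.map_bot]
  -- downward induction
  have hdown : ∀ j i, i + j = n → kbSeries W i ⊓ centralizer (F : Set G) ≤ Y F := by
    intro j
    induction j with
    | zero =>
      intro i hi
      have : i = n := by omega
      rw [this, hbot]
      exact inf_le_left.trans bot_le
    | succ j ih =>
      intro i hi
      exact kb_step h (kbSeries_le W i) (hcov i) (kbSeries_normalizer hAW i) hF (ih (i + 1) (by omega))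
  exact hdown n 0 (by omega)

end Cfsg.Agent.Lib.Helper22.Kb
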