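import Mathlib
import Cfsg.Prelude.Def_Balance

/-!
# Kb hive (S1299, owner helper22): definitions for part 2 (`kbTheta`, `kbHyp`).
-/

set_option autoImplicit false

namespace Cfsg.Agent.Lib.Helper22.Kb

open Subgroup Cfsg

variable {G : Type*} [Group G]

/-- the `k`-balanced functor of S1299 -/
def kbTheta (p k : ℕ) (A : Subgroup G) (a : G) : Subgroup G :=
  ⨆ D : {D : Subgroup G // D ≤ A ∧ Nat.card ↥D = p ^ k},
    Cfsg.signalizerDelta p (D : Subgroup G) ⊓ Subgroup.centralizer {a}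

/-- the hyperplanes of `A` through `a` -/
def kbHyp (p : ℕ) (A : Subgroup G) (a : G) : Set (Subgroup G) :=
  {F | F ≤ A ∧ a ∈ F ∧ p * Nat.card F = Nat.card A}

end Cfsg.Agent.Lib.Helper22.Kb
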