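import Mathlib
import Cfsg.Statements.S1299
import Cfsg.Agent.S1861
import Cfsg.Agent.Lib.Helper22.KbDefs2
import Cfsg.Agent.Lib.Helper22.KbCore
import Cfsg.Agent.Lib.Helper95.KbTC
import Cfsg.Agent.Lib.Helper95.KbTN
import Cfsg.Agent.Lib.Helper43.KbAB
import Cfsg.Agent.Lib.Helper80.KbGEN
import Cfsg.Agent.Lib.Helper91.KbHG
import Cfsg.Agent.Lib.Helper90.KbSYS
import Cfsg.Agent.Lib.Helper86.KbDL

/-!
# Kb hive (S1299, owner helper22): the `k`-balanced functor is a signalizer functor (solvable cores).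
-/

set_option autoImplicit false

namespace Cfsg.Agent.Lib.Helper22.Kb

open Subgroup Cfsg
open scoped commutatorElement

variable {G : Type*} [Group G]

variable {p k : ℕ} {A : Subgroup G}

/-- ASSEMBLY: balance. -/
theorem kb_balance [Finite G] [Fact p.Prime] (hk : 1 ≤ k) (hbal : Cfsg.IsKBalanced p k G)
    (hA : Cfsg.IsElementaryAbelian p A) (hAk : p ^ (k + 2) ≤ Nat.card ↥A)
    (hsolv : ∀ a ∈ A, a ≠ 1 → Group.IsSolvable ↥(Cfsg.centralizerPPrimeCore p a))
    {a b : G} (haA : a ∈ A) (ha1 : a ≠ 1) (hbA : b ∈ A) :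
    kbTheta p k A a ⊓ centralizer {b} ≤ kbTheta p k A b := by
  classical
  have hp : p.Prime := Fact.out
  have hcore := kb_theta_le_core hk hbal hA haA ha1
  have hsys := kb_sys hk hbal hA hAk haA ha1
  have hWs : Group.IsSolvable ↥(kbTheta p k A a) := by
    have := hsolv a haA ha1
    exact Group.isSolvable_of_isSolvable_injective (Subgroup.inclusion_injective hcore)
  have hAW := kb_theta_normalizer (p := p) (k := k) hA haA
  have hmain := kb_core hsys hWs hAW (kb_theta_le hk hbal hA hAk haA ha1)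
  -- the subgroup `X` and the generation
  set X : Subgroup G := kbTheta p k A a ⊓ centralizer {b} with hX
  have hA3 : p ^ 3 ≤ Nat.card A :=
    le_trans (Nat.pow_le_pow_right hp.pos (by omega)) hAk
  obtain ⟨F₀, hF₀A, haF₀, hbF₀, hF₀c⟩ := kb_exists_hyp hA hA3 haA hbA
  set D : Subgroup G := zpowers a ⊔ zpowers b with hD
  have hDF₀ : D ≤ F₀ := sup_le (zpowers_le.mpr haF₀) (zpowers_le.mpr hbF₀)
  have hDA : D ≤ A := hDF₀.trans hF₀A
  have hDne : D ≠ A := by
    intro h
    have h1 : Nat.card A ≤ Nat.card F₀ := by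
      rw [← h]; exact Subgroup.card_le_of_le hDF₀
    have h2 : 0 < Nat.card F₀ := Nat.card_pos
    have h3 : 2 ≤ p := hp.two_le
    nlinarith
  have hAb : A ≤ normalizer (centralizer ({b} : Set G) : Set G) := by
    refine le_trans ?_ le_normalizer
    intro x hx
    rw [mem_centralizer_iff]
    intro y hy
    rw [Set.mem_singleton_iff] at hy
    subst hy
    have := hA.1.is_comm.comm ⟨y, hbA⟩ ⟨x, hx⟩
    exact congrArg Subtype.val this
  have hAX : A ≤ normalizer (X : Set G) := by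
    intro x hx
    have h1 := hAW hx
    have h2 := hAb hx
    rw [mem_normalizer_iff] at h1 h2 ⊢
    intro y
    rw [hX, mem_inf, mem_inf, h1 y, h2 y]
  have hXp : ¬ p ∣ Nat.card X := by
    intro hdvd
    have h1 : Nat.card X ∣ Nat.card (Cfsg.centralizerPPrimeCore p a) :=
      Subgroup.card_dvd_of_le (inf_le_left.trans hcore)
    exact Cfsg.Agent.S1861.cppc_card a (hdvd.trans h1)
  have hthC : kbTheta p k A a ≤ centralizer ({a} : Set G) :=
    hcore.trans (Cfsg.Agent.S1861.cppc_le a)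
  have hDX : X ≤ centralizer (D : Set G) := by
    rw [Subgroup.le_centralizer_iff]
    refine sup_le (zpowers_le.mpr ?_) (zpowers_le.mpr ?_)
    · rw [mem_centralizer_iff]
      intro x hx
      have hxa : x ∈ centralizer ({a} : Set G) := hthC hx.1
      exact (mem_centralizer_iff.mp hxa a rfl).symm
    · rw [mem_centralizer_iff]
      intro x hx
      have hxb : x ∈ centralizer ({b} : Set G) := hx.2
      exact (mem_centralizer_iff.mp hxb b rfl).symm
  refine (kb_gen_over hA hAX hXp hDA hDne hDX).trans (iSup₂_le fun F hF => ?_)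
  obtain ⟨hDF, hFA, hFc⟩ := hF
  have haF : a ∈ F := hDF (mem_sup_left (mem_zpowers a))
  have hbF : b ∈ F := hDF (mem_sup_right (mem_zpowers b))
  have h1 : X ⊓ centralizer (F : Set G) ≤ signalizerDelta p F :=
    (inf_le_inf_right _ inf_le_left).trans (hmain F ⟨hFA, haF, hFc⟩)
  exact h1.trans (kb_delta_le_theta hA hAk ⟨hFA, hbF, hFc⟩)

/-- ASSEMBLY: S1299. -/
theorem kb_result [Finite G] (p k : ℕ) [Fact p.Prime] (hk : 1 ≤ k) (hbal : Cfsg.IsKBalanced p k G)
    (A : Subgroup G) (hA : Cfsg.IsElementaryAbelian p A) (hAk : p ^ (k + 2) ≤ Nat.card ↥A)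
    (hsolv : ∀ a ∈ A, a ≠ 1 → Group.IsSolvable ↥(Cfsg.centralizerPPrimeCore p a)) :
    Cfsg.IsSignalizerFunctor p A (fun a => ⨆ D : {D : Subgroup G // D ≤ A ∧ Nat.card ↥D = p ^ k},
      Cfsg.signalizerDelta p (D : Subgroup G) ⊓ Subgroup.centralizer {a}) := by
  refine ⟨fun a haA ha1 => ?_, fun a haA ha1 => ?_, fun a haA ha1 b hbA x hx => ?_,
    fun a haA ha1 b hbA _ => ?_⟩
  · exact (kb_theta_le_core hk hbal hA haA ha1).trans (Cfsg.Agent.S1861.cppc_le a)
  · intro hdvd
    have h1 : Nat.card (kbTheta p k A a) ∣ Nat.card (Cfsg.centralizerPPrimeCore p a) :=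
      Subgroup.card_dvd_of_le (kb_theta_le_core hk hbal hA haA ha1)
    exact Cfsg.Agent.S1861.cppc_card a (hdvd.trans h1)
  · have h1 := kb_theta_normalizer (p := p) (k := k) hA haA hbA
    exact (mem_normalizer_iff.mp h1 x).mp hx
  · exact kb_balance hk hbal hA hAk hsolv haA ha1 hbA

end Cfsg.Agent.Lib.Helper22.Kb
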