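import Mathlib

/-!
# Lb hive (S1301), leaf LB-A1E (helper22)

`lba1e_witness`: the local witness of LB-A1 from one "tame" subgroup `E` (as produced by the
Alperin-Goldschmidt theorem) and an element of `N_H(E)` moving `u`.
-/

set_option autoImplicit false

namespace Cfsg.Agent.Lib.Helper22.Lb

open Subgroup

universe u

section A1E

variable {H : Type*} [Group H]

/-- normalizer growth in a finite `p`-group, relative version -/
theorem lba1e_exists_mem_normalizer_not_mem [Finite H] {p : ℕ} [Fact p.Prime] {P D : Subgroup H}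
    (hP : IsPGroup p P) (hDP : D < P) :
    ∃ y ∈ P, y ∈ normalizer (D : Set H) ∧ y ∉ D := by
  have : Group.IsNilpotent P := hP.isNilpotent
  have hnc : NormalizerCondition P := Group.normalizerCondition_of_isNilpotent
  have hlt : D.subgroupOf P < ⊤ := by
    rw [lt_top_iff_ne_top]
    intro h
    rw [Subgroup.subgroupOf_eq_top] at h
    exact (not_le_of_gt hDP) h
  have h1 := hnc _ hlt
  obtain ⟨y, hyN, hyD⟩ := SetLike.exists_of_lt h1
  rw [← Subgroup.subgroupOf_normalizer_eq hDP.le] at hyN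
  refine ⟨y, y.2, ?_, ?_⟩
  · exact Subgroup.mem_subgroupOf.mp hyN
  · intro h
    exact hyD (Subgroup.mem_subgroupOf.mpr h)

/-- a `p`-subgroup `T` of `N` is conjugate in `N` into a `p`-subgroup `S` of `N` of index prime to `p` -/
theorem lba1e_exists_conj_le [Finite H] {p : ℕ} [Fact p.Prime] (N S T : Subgroup H)
    (hS : IsPGroup p S) (hidx : ¬ p ∣ S.relIndex N) (hTN : T ≤ N) (hT : IsPGroup p T) :
    ∃ y ∈ N, ∀ x ∈ T, y * x * y⁻¹ ∈ S := by
  have hS' : IsPGroup p (S.subgroupOf N) := hS.comap_subtype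
  have hT' : IsPGroup p (T.subgroupOf N) := hT.comap_subtype
  let Ssyl : Sylow p ↥N := hS'.toSylow hidx
  obtain ⟨Q, hQ⟩ := hT'.exists_le_sylow
  obtain ⟨g, hg⟩ := MulAction.exists_smul_eq (↥N) Q Ssyl
  refine ⟨g, g.2, fun x hx => ?_⟩
  have hxQ : (⟨x, hTN hx⟩ : ↥N) ∈ Q := hQ (mem_subgroupOf.mpr hx)
  have h2 : g * ⟨x, hTN hx⟩ * g⁻¹ ∈ (g • Q : Sylow p ↥N) := by
    have h4 : g * ⟨x, hTN hx⟩ * g⁻¹ ∈ ((g • Q : Sylow p ↥N) : Subgroup ↥N) := by
      rw [Sylow.coe_subgroup_smul]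
      exact ⟨⟨x, hTN hx⟩, hxQ, rfl⟩
    exact h4
  rw [hg] at h2
  have h3 : g * ⟨x, hTN hx⟩ * g⁻¹ ∈ S.subgroupOf N := (IsPGroup.mem_toSylow hS' hidx).mp h2
  exact mem_subgroupOf.mp h3

/-- conjugation by an element of `N(D)` preserves `C(D)` -/
theorem lba1e_conj_mem_centralizer {D : Subgroup H} {y x : H} (hy : y ∈ normalizer (D : Set H))
    (hx : x ∈ centralizer (D : Set H)) : y * x * y⁻¹ ∈ centralizer (D : Set H) := by
  rw [mem_centralizer_iff] at hx ⊢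
  intro d hd
  have hd' : y⁻¹ * d * y⁻¹⁻¹ ∈ D := (mem_normalizer_iff.mp (inv_mem hy) d).mp hd
  have h1 := hx _ hd'
  have h2 : d = y * (y⁻¹ * d * y⁻¹⁻¹) * y⁻¹ := by group
  calc d * (y * x * y⁻¹) = y * ((y⁻¹ * d * y⁻¹⁻¹) * x) * y⁻¹ := by group
    _ = y * (x * (y⁻¹ * d * y⁻¹⁻¹)) * y⁻¹ := by rw [h1]
    _ = y * x * y⁻¹ * d := by group

/-- `N(E) ≤ N(E ⊓ K)` for `K` normal -/
theorem lba1e_normalizer_le (K E : Subgroup H) [K.Normal] :
    normalizer (E : Set H) ≤ normalizer ((E ⊓ K : Subgroup H) : Set H) := by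
  intro y hy
  rw [mem_normalizer_iff] at hy ⊢
  intro h
  have hK : y ∈ normalizer (K : Set H) := by rw [normalizer_eq_top]; trivial
  rw [mem_normalizer_iff] at hK
  rw [mem_inf, mem_inf, hy h, hK h]

/-- a 2-element generates a 2-group -/
theorem lba1e_isPGroup_zpowers {x : H} (hx : ∃ m : ℕ, x ^ 2 ^ m = 1) : IsPGroup 2 (zpowers x) := by
  obtain ⟨m, hm⟩ := hx
  intro g
  obtain ⟨j, hj⟩ := mem_zpowers_iff.mp g.2
  refine ⟨m, ?_⟩
  apply Subtype.ext
  rw [SubgroupClass.coe_pow, ← hj, ← zpow_natCast, ← zpow_mul, mul_comm, zpow_mul, zpow_natCast, hm, one_zpow]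
  rfl

/-- `P ⊓ K = R` for a Sylow 2-subgroup `P ≥ R` of `H` -/
theorem lba1e_inf_eq [Finite H] (K : Subgroup H) (R : Subgroup H) (hRK : R ≤ K)
    (hRsyl : ∃ S : Sylow 2 ↥K, (S : Subgroup ↥K).map K.subtype = R)
    (P : Sylow 2 H) (hRP : R ≤ (P : Subgroup H)) : (P : Subgroup H) ⊓ K = R := by
  obtain ⟨S, hS⟩ := hRsyl
  have h2 : IsPGroup 2 (((P : Subgroup H) ⊓ K).subgroupOf K) :=
    (P.isPGroup'.to_le inf_le_left).comap_subtype
  have hle : (S : Subgroup ↥K) ≤ ((P : Subgroup H) ⊓ K).subgroupOf K := by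
    intro x hx
    rw [mem_subgroupOf]
    have : (x : H) ∈ R := by rw [← hS]; exact ⟨x, hx, rfl⟩
    exact ⟨hRP this, hRK this⟩
  have heq := S.is_maximal' h2 hle
  apply le_antisymm
  · intro z hz
    have hz' : (⟨z, hz.2⟩ : ↥K) ∈ ((P : Subgroup H) ⊓ K).subgroupOf K := mem_subgroupOf.mpr hz
    rw [heq] at hz'
    rw [← hS]
    exact ⟨⟨z, hz.2⟩, hz', rfl⟩
  · exact le_inf hRP hRK

/-- every element of `P` is `r * u ^ j` with `r ∈ R` -/
theorem lba1e_decomp [Finite H] (K : Subgroup H) [K.Normal] (u : H) (hKu : K ⊔ zpowers u = ⊤)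
    (R : Subgroup H) (P : Sylow 2 H) (hPK : (P : Subgroup H) ⊓ K = R) (huP : u ∈ (P : Subgroup H))
    {e : H} (he : e ∈ (P : Subgroup H)) : ∃ r ∈ R, ∃ j : ℤ, e = r * u ^ j := by
  have he' : e ∈ K ⊔ zpowers u := by rw [hKu]; trivial
  have h1 : e ∈ ((K ⊔ zpowers u : Subgroup H) : Set H) := he'
  rw [normal_mul] at h1
  obtain ⟨k, hk, w, hw, hkw⟩ := Set.mem_mul.mp h1
  obtain ⟨j, hj⟩ := mem_zpowers_iff.mp hw
  have hwP : w ∈ (P : Subgroup H) := by rw [← hj]; exact zpow_mem huP j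
  have hkP : k ∈ (P : Subgroup H) := by
    have : k = e * w⁻¹ := by rw [← hkw]; group
    rw [this]; exact mul_mem he (inv_mem hwP)
  refine ⟨k, ?_, j, ?_⟩
  · rw [← hPK]; exact ⟨hkP, hk⟩
  · rw [hj, hkw]

/-- Claim 1: a 2-element of `C_K(D) ∩ N(E)`, `D = E ⊓ K`, lies in `E` -/
theorem lba1e_claim1 [Finite H] (K : Subgroup H) [K.Normal] (u : H) (hKu : K ⊔ zpowers u = ⊤)
    (R : Subgroup H) (huR : u ∈ centralizer (R : Set H))
    (P : Sylow 2 H) (hPK : (P : Subgroup H) ⊓ K = R) (huP : u ∈ (P : Subgroup H))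
    (E : Subgroup H) (hEP : E ≤ (P : Subgroup H)) (huE : u ∈ E)
    (hcen : (P : Subgroup H) ⊓ centralizer (E : Set H) ≤ E)
    (hsyl : ¬ 2 ∣ ((P : Subgroup H) ⊓ normalizer (E : Set H)).relIndex (normalizer (E : Set H)))
    {x : H} (hxK : x ∈ K) (hxD : x ∈ centralizer ((E ⊓ K : Subgroup H) : Set H))
    (hxN : x ∈ normalizer (E : Set H)) (hx2 : ∃ m : ℕ, x ^ 2 ^ m = 1) : x ∈ E := by
  obtain ⟨y, hyN, hy⟩ := lba1e_exists_conj_le (p := 2) (normalizer (E : Set H))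
    ((P : Subgroup H) ⊓ normalizer (E : Set H)) (zpowers x)
    (P.isPGroup'.to_le inf_le_left) hsyl (zpowers_le.mpr hxN) (lba1e_isPGroup_zpowers hx2)
  have hz := hy x (mem_zpowers x)
  set z := y * x * y⁻¹ with hzdef
  have hzP : z ∈ (P : Subgroup H) := hz.1
  have hzK : z ∈ K := Normal.conj_mem inferInstance x hxK y
  have hzR : z ∈ R := by rw [← hPK]; exact ⟨hzP, hzK⟩
  have hyD : y ∈ normalizer ((E ⊓ K : Subgroup H) : Set H) := lba1e_normalizer_le K E hyN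
  have hzD : z ∈ centralizer ((E ⊓ K : Subgroup H) : Set H) := lba1e_conj_mem_centralizer hyD hxD
  have hzu : z * u = u * z := mem_centralizer_iff.mp huR z hzR
  have hzE : z ∈ centralizer (E : Set H) := by
    rw [mem_centralizer_iff]
    intro e he
    obtain ⟨r, hr, j, hej⟩ := lba1e_decomp K u hKu R P hPK huP (hEP he)
    have hrE : r ∈ E := by
      have : r = e * (u ^ j)⁻¹ := by rw [hej]; group
      rw [this]; exact mul_mem he (inv_mem (zpow_mem huE j))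
    have hrK : r ∈ K := by rw [← hPK] at hr; exact hr.2
    have hrz : r * z = z * r := mem_centralizer_iff.mp hzD r ⟨hrE, hrK⟩
    have huz : Commute z (u ^ j) := (Commute.zpow_right hzu j)
    rw [hej, mul_assoc, ← huz.eq, ← mul_assoc, hrz, mul_assoc]
  have hzE' : z ∈ E := hcen ⟨hzP, hzE⟩
  have : x = y⁻¹ * z * y⁻¹⁻¹ := by rw [hzdef]; group
  rw [this]
  exact (mem_normalizer_iff.mp (inv_mem hyN) z).mp hzE'

/-- (c): every 2-element of `C_K(D)` lies in `D = E ⊓ K` -/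
theorem lba1e_cent [Finite H] (K : Subgroup H) [K.Normal] (u : H) (hKu : K ⊔ zpowers u = ⊤)
    (R : Subgroup H) (huR : u ∈ centralizer (R : Set H))
    (P : Sylow 2 H) (hPK : (P : Subgroup H) ⊓ K = R) (huP : u ∈ (P : Subgroup H))
    (E : Subgroup H) (hEP : E ≤ (P : Subgroup H)) (huE : u ∈ E)
    (hcen : (P : Subgroup H) ⊓ centralizer (E : Set H) ≤ E)
    (hsyl : ¬ 2 ∣ ((P : Subgroup H) ⊓ normalizer (E : Set H)).relIndex (normalizer (E : Set H)))
    {x : H} (hxK : x ∈ K) (hxD : x ∈ centralizer ((E ⊓ K : Subgroup H) : Set H))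
    (hx2 : ∃ m : ℕ, x ^ 2 ^ m = 1) : x ∈ E ⊓ K := by
  set D : Subgroup H := E ⊓ K with hD
  set Y : Subgroup H := K ⊓ centralizer (D : Set H) with hY
  have hND : normalizer (E : Set H) ≤ normalizer (D : Set H) := lba1e_normalizer_le K E
  have hED : E ≤ normalizer (D : Set H) := le_trans le_normalizer hND
  -- N(D) ≤ N(Y)
  have hNDY : normalizer (D : Set H) ≤ normalizer (Y : Set H) := by
    intro y hy
    rw [mem_normalizer_iff]
    intro h
    have hK : y ∈ normalizer (K : Set H) := by rw [normalizer_eq_top]; trivial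
    rw [mem_normalizer_iff] at hK
    rw [hY, mem_inf, mem_inf, ← hK h]
    constructor
    · rintro ⟨h1, h2⟩; exact ⟨h1, lba1e_conj_mem_centralizer hy h2⟩
    · rintro ⟨h1, h2⟩
      refine ⟨h1, ?_⟩
      have := lba1e_conj_mem_centralizer (inv_mem hy) h2
      have e : y⁻¹ * (y * h * y⁻¹) * y⁻¹⁻¹ = h := by group
      rwa [e] at this
  have hEY : E ≤ normalizer (Y : Set H) := le_trans hED hNDY
  set Yh : Subgroup H := Y ⊔ E with hYh
  have hYD : Y ≤ normalizer (D : Set H) := le_trans inf_le_right (centralizer_le_normalizer _)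
  have hYhD : Yh ≤ normalizer (D : Set H) := sup_le hYD hED
  have hYhY : Yh ≤ normalizer (Y : Set H) := sup_le le_normalizer hEY
  have hEYh : E ≤ Yh := le_sup_right
  -- Sylow of Yh containing E
  have hE2 : IsPGroup 2 E := P.isPGroup'.to_le hEP
  obtain ⟨Q, hQ⟩ := (hE2.comap_subtype (K := Yh)).exists_le_sylow
  set Sg : Subgroup H := (Q : Subgroup ↥Yh).map Yh.subtype with hSg
  have hSg2 : IsPGroup 2 Sg := Q.isPGroup'.map _
  have hESg : E ≤ Sg := by
    intro e he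
    exact ⟨⟨e, hEYh he⟩, hQ (mem_subgroupOf.mpr he), rfl⟩
  have hSgYh : Sg ≤ Yh := by
    rintro _ ⟨q, _, rfl⟩; exact q.2
  have hSgE : Sg = E := by
    by_contra hne
    have hlt : E < Sg := lt_of_le_of_ne hESg (Ne.symm hne)
    obtain ⟨z, hzS, hzN, hzE⟩ := lba1e_exists_mem_normalizer_not_mem hSg2 hlt
    have hzYh : z ∈ ((Y ⊔ E : Subgroup H) : Set H) := hSgYh hzS
    rw [coe_mul_of_right_le_normalizer_left Y E hEY] at hzYh
    obtain ⟨y, hy, e, he, hye⟩ := Set.mem_mul.mp hzYh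
    have hyz : y = z * e⁻¹ := by rw [← hye]; group
    have hySg : y ∈ Sg := by rw [hyz]; exact mul_mem hzS (inv_mem (hESg he))
    have hyN : y ∈ normalizer (E : Set H) := by
      rw [hyz]; exact mul_mem hzN (inv_mem (le_normalizer he))
    have hy2 : ∃ m : ℕ, y ^ 2 ^ m = 1 := by
      obtain ⟨m, hm⟩ := hSg2 ⟨y, hySg⟩
      exact ⟨m, by simpa using congrArg Subtype.val hm⟩
    have hyE : y ∈ E :=
      lba1e_claim1 K u hKu R huR P hPK huP E hEP huE hcen hsyl hy.1 hy.2 hyN hy2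
    exact hzE (by rw [← hye]; exact mul_mem hyE he)
  -- conjugate x into Sg = E inside Yh
  have hidx : ¬ 2 ∣ Sg.relIndex Yh := by
    have h1 : Sg.subgroupOf Yh = (Q : Subgroup ↥Yh) := by
      rw [hSg]; exact comap_map_eq_self_of_injective Yh.subtype_injective _
    rw [relIndex, h1]
    exact Q.not_dvd_index
  have hxY : x ∈ Y := ⟨hxK, hxD⟩
  obtain ⟨w, hwYh, hw⟩ := lba1e_exists_conj_le (p := 2) Yh Sg (zpowers x) hSg2 hidx
    (zpowers_le.mpr (le_sup_left (a := Y) hxY)) (lba1e_isPGroup_zpowers hx2)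
  have h1 := hw x (mem_zpowers x)
  rw [hSgE] at h1
  have h2 : w * x * w⁻¹ ∈ Y := (mem_normalizer_iff.mp (hYhY hwYh) x).mp hxY
  have h3 : w * x * w⁻¹ ∈ D := ⟨h1, h2.1⟩
  have h4 := (mem_normalizer_iff.mp (inv_mem (hYhD hwYh)) _).mp h3
  have e : w⁻¹ * (w * x * w⁻¹) * w⁻¹⁻¹ = x := by group
  rwa [e] at h4

end A1E

/-- LB-A1E: the local witness from one tame subgroup `E` and an element of `N_H(E)` moving `u` -/
theorem lba1e_witness {H : Type u} [Group H] [Finite H] (K : Subgroup H) [K.Normal] (u : H)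
    (hu : orderOf u = 2) (hKu : K ⊔ zpowers u = ⊤)
    (R : Subgroup H) (hRK : R ≤ K)
    (hRsyl : ∃ S : Sylow 2 ↥K, (S : Subgroup ↥K).map K.subtype = R)
    (huR : u ∈ centralizer (R : Set H))
    (P : Sylow 2 H) (hRP : R ≤ (P : Subgroup H)) (huP : u ∈ (P : Subgroup H))
    (E : Subgroup H) (hEP : E ≤ (P : Subgroup H)) (huE : u ∈ E)
    (hcen : (P : Subgroup H) ⊓ centralizer (E : Set H) ≤ E)
    (hsyl : ¬ 2 ∣ ((P : Subgroup H) ⊓ normalizer (E : Set H)).relIndex (normalizer (E : Set H)))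
    (n : H) (hn : n ∈ normalizer (E : Set H)) (hnu : n⁻¹ * u * n ≠ u) :
    ∃ D : Subgroup H, D ≤ R ∧ ∃ k ∈ K, k ∈ normalizer (D : Set H) ∧
        k⁻¹ * u * k * u⁻¹ ∈ D ∧ k⁻¹ * u * k * u⁻¹ ∈ centralizer (D : Set H) ∧
        k⁻¹ * u * k * u⁻¹ ≠ 1 ∧
        ∀ x ∈ K, x ∈ centralizer (D : Set H) → (∃ n : ℕ, x ^ 2 ^ n = 1) → x ∈ D := by
  have hPK : (P : Subgroup H) ⊓ K = R := lba1e_inf_eq K R hRK hRsyl P hRP
  have hDR : E ⊓ K ≤ R := by rw [← hPK]; exact inf_le_inf_right K hEP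
  -- n = u ^ j * k
  have hn' : n ∈ ((zpowers u ⊔ K : Subgroup H) : Set H) := by
    rw [sup_comm, hKu]; trivial
  rw [mul_normal] at hn'
  obtain ⟨w, hw, k, hk, hwk⟩ := Set.mem_mul.mp hn'
  obtain ⟨j, hj⟩ := mem_zpowers_iff.mp hw
  have hwE : w ∈ E := by rw [← hj]; exact zpow_mem huE j
  have hkN : k ∈ normalizer (E : Set H) := by
    have : k = w⁻¹ * n := by rw [← hwk]; group
    rw [this]; exact mul_mem (inv_mem (le_normalizer hwE)) hn
  have hwu : w⁻¹ * u * w = u := by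
    rw [← hj]
    have : Commute (u ^ j) u := (Commute.refl u).zpow_left j
    rw [mul_assoc, ← this.eq, ← mul_assoc, inv_mul_cancel, one_mul]
  have hku : k⁻¹ * u * k = n⁻¹ * u * n := by
    rw [← hwk]
    calc k⁻¹ * u * k = k⁻¹ * (w⁻¹ * u * w) * k := by rw [hwu]
      _ = (w * k)⁻¹ * u * (w * k) := by group
  have hkD : k ∈ normalizer ((E ⊓ K : Subgroup H) : Set H) := lba1e_normalizer_le K E hkN
  have hkuE : k⁻¹ * u * k ∈ E := by
    have := (mem_normalizer_iff.mp (inv_mem hkN) u).mp huE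
    rwa [inv_inv] at this
  have huD : u ∈ centralizer ((E ⊓ K : Subgroup H) : Set H) := by
    rw [mem_centralizer_iff] at huR ⊢
    intro d hd
    exact huR d (hDR hd)
  have hkuD : k⁻¹ * u * k ∈ centralizer ((E ⊓ K : Subgroup H) : Set H) := by
    have := lba1e_conj_mem_centralizer (inv_mem hkD) huD
    rwa [inv_inv] at this
  have htE : k⁻¹ * u * k * u⁻¹ ∈ E := mul_mem hkuE (inv_mem huE)
  have htK : k⁻¹ * u * k * u⁻¹ ∈ K := by
    have : k⁻¹ * u * k * u⁻¹ = k⁻¹ * (u * k * u⁻¹) := by group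
    rw [this]
    exact mul_mem (inv_mem hk) (Normal.conj_mem inferInstance k hk u)
  have htC : k⁻¹ * u * k * u⁻¹ ∈ centralizer ((E ⊓ K : Subgroup H) : Set H) :=
    mul_mem hkuD (inv_mem huD)
  refine ⟨E ⊓ K, hDR, k, hk, hkD, mem_inf.mpr ⟨htE, htK⟩, htC, ?_, ?_⟩
  · intro h1
    apply hnu
    rw [← hku]
    exact mul_inv_eq_one.mp h1
  · intro x hxK hxD hx2
    exact lba1e_cent K u hKu R huR P hPK huP E hEP huE hcen hsyl hxK hxD hx2



end Cfsg.Agent.Lib.Helper22.Lb
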