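import Mathlib
import Cfsg.Agent.Lib.Helper55.LbINV
import Cfsg.Agent.Lib.Helper27.LbTRcore
import Cfsg.Agent.Lib.Helper80.LbA1
import Cfsg.Agent.Lib.Helper95.LbZS
import Cfsg.Agent.Lib.Helper33.LbTH

/-!
# Lb hive (S1301), assembly F-bar: a perfect group generated by 2-elements that acts faithfully on
`K` (`O(K) = 1`) and centralizes a Sylow 2-subgroup of `K` is trivial (consequence of Glauberman's
`Z*`-theorem S0215).
-/

set_option autoImplicit false

namespace Cfsg.Agent.Lib.Helper22.Lb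

open Subgroup Cfsg
open scoped commutatorElement
open Cfsg.Agent.Lib.Helper23 (pUp pUp_le mem_pUp_of_pow coreIn coreIn_le)

/-- LB-TR (transport of LB-A1 + LB-ZS from `H = K<u>` to an ambient group `X`): the wrapper of
`lbtr_core` (helper27) around LB-A1 (helper80, helper22) and LB-ZS (helper95). -/
theorem lbfbar_centralizes_or_witness {X : Type*} [Group X] [Finite X] (K : Subgroup X) [K.Normal]
    (hOK : ∀ N : Subgroup X, N ≤ K → K ≤ normalizer (N : Set X) → Odd (Nat.card N) → N = ⊥)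
    (u : X) (hu : orderOf u = 2)
    (R : Subgroup X) (hRK : R ≤ K)
    (hRsyl : ∃ S : Sylow 2 ↥K, (S : Subgroup ↥K).map K.subtype = R)
    (huR : u ∈ centralizer (R : Set X)) :
    u ∈ centralizer (K : Set X) ∨
    ∃ D : Subgroup X, D ≤ R ∧ ∃ k ∈ K, k ∈ normalizer (D : Set X) ∧
      k⁻¹ * u * k * u⁻¹ ∈ D ∧ k⁻¹ * u * k * u⁻¹ ∈ centralizer (D : Set X) ∧
      k⁻¹ * u * k * u⁻¹ ≠ 1 ∧
      ∀ x ∈ K, x ∈ centralizer (D : Set X) → (∃ n : ℕ, x ^ 2 ^ n = 1) → x ∈ D :=
  lbtr_core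
    (fun K _ u hu hKu R hRK hRsyl huR hni =>
      exists_witness_of_not_isolated K u hu hKu R hRK hRsyl huR hni)
    (fun K _ hOK u hu hKu R hRK hRsyl huR hiso =>
      centralizes_of_isolated K hOK u hu hKu R hRK hRsyl huR hiso)
    K hOK u hu R hRK hRsyl huR

/-- ASSEMBLY (F-bar): a perfect group generated by 2-elements, acting faithfully on `K`
(`O(K) = 1`) and centralizing a Sylow 2-subgroup of `K`, is trivial. -/
theorem eq_bot_of_centralizes_sylow {X : Type*} [Group X] [Finite X] (K : Subgroup X) [K.Normal]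
    (hCK : centralizer (K : Set X) = ⊥)
    (hOK : ∀ N : Subgroup X, N ≤ K → K ≤ normalizer (N : Set X) → Odd (Nat.card N) → N = ⊥)
    (R : Subgroup X) (hRK : R ≤ K)
    (hRsyl : ∃ S : Sylow 2 ↥K, (S : Subgroup ↥K).map K.subtype = R)
    (I : Subgroup X) (hIR : I ≤ centralizer (R : Set X))
    (hperf : ⁅I, I⁆ = I) (hgen : pUp 2 I = I) : I = ⊥ := by
  by_contra hI
  obtain ⟨u, huI, hu⟩ := exists_involution_of_pUp I hgen hI
  have hR2 : IsPGroup 2 R := by
    obtain ⟨S, rfl⟩ := hRsyl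
    exact S.2.map _
  rcases lbfbar_centralizes_or_witness K hOK u hu R hRK hRsyl (hIR huI) with h | h
  · rw [hCK, Subgroup.mem_bot] at h
    rw [h, orderOf_one] at hu
    norm_num at hu
  · obtain ⟨D, hDR, k, hkK, hkD, htD, htC, ht1, hcent⟩ := h
    exact false_of_witness K R hRK hR2 I hIR hperf u huI D hDR k hkK hkD htD htC ht1 hcent


end Cfsg.Agent.Lib.Helper22.Lb
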