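import Mathlib
import Cfsg.Agent.Lib.Helper22.LBalS
import Cfsg.Agent.Lib.Helper22.CharP2
import Cfsg.Agent.Lib.Helper54.QBalance
import Cfsg.Agent.Lib.Helper22.LbFbar
import Cfsg.Agent.Lib.Helper69.LbFQ
import Cfsg.Agent.Lib.Helper78.LbSYL
import Cfsg.Agent.Lib.Helper86.LbJ1

/-!
# Lb hive (S1301): `L_{2'}`-balance without the Schreier property

Gorenstein-Walter chain argument on top of `Helper22.LBal` / `LBalS`; the Schreier step is replaced
by `le_centralizer_of_centralizes_sylow` (leaf LB-FQ, a consequence of Glauberman's `Z*` S0215).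
-/

set_option autoImplicit false

namespace Cfsg.Agent.Lib.Helper22.Lb

open Subgroup Cfsg
open scoped commutatorElement
open Cfsg.Agent.Lib.Helper23 (pUp pUp_le mem_pUp_of_pow coreIn coreIn_le)
open Cfsg.Agent.Lib.Helper22.LBal

section partII

variable {G : Type*} [Group G] [Finite G]

/-- LB-FQ (pass to `N_G(L)/C_G(L)` and apply `eq_bot_of_centralizes_sylow`): helper69's `lbfq_core`
applied to the F-bar assembly. -/
theorem le_centralizer_of_centralizes_sylow (hO : pPrimeCore 2 G = ⊥) {L : Subgroup G}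
    (hL : IsComponent L) (R : Subgroup G) (hRL : R ≤ L)
    (hRsyl : ∃ S : Sylow 2 ↥L, (S : Subgroup ↥L).map L.subtype = R)
    (I : Subgroup G) (hIN : I ≤ normalizer (L : Set G)) (hIR : I ≤ centralizer (R : Set G))
    (hperf : ⁅I, I⁆ = I) (hgen : pUp 2 I = I) : I ≤ centralizer (L : Set G) :=
  lbfq_core
    (fun X _ _ K _ hCK hOK R hRK hRsyl I hIR hperf hgen =>
      eq_bot_of_centralizes_sylow K hCK hOK R hRK hRsyl I hIR hperf hgen)
    hO hL R hRL hRsyl I hIN hIR hperf hgen

/-- ASSEMBLY (Gorenstein-Walter): induction on `|G| - |P|`. -/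
theorem pComp_le_sup_centralizer_two (hO : pPrimeCore 2 G = ⊥) {P : Subgroup G}
    (hP : IsPGroup 2 P) {J₀ : Subgroup ↥(normalizer (P : Set G))} (hJ : IsPComponent 2 J₀)
    {L : Subgroup G} (hL : IsComponent L) :
    J₀.map (normalizer (P : Set G)).subtype ≤ L ⊔ centralizer (L : Set G) := by
  classical
  induction hn : Nat.card G - Nat.card P using Nat.strong_induction_on generalizing P with
  | _ n ih =>
  set J : Subgroup G := J₀.map (normalizer (P : Set G)).subtype with hJdef
  set W : Subgroup G := coreIn 2 (normalizer (P : Set G)) with hWdef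
  have hloc := localPrime_coreIn (p := 2) hP
  have hWL : W ≤ normalizer (L : Set G) := hloc.le_normalizer_component hO hL
  have hWc : (Nat.card W).Coprime 2 := hloc.cop
  have hgen : pUp 2 J = J := pComp_gen hJ
  have hEn : (layer G).Normal := Cfsg.Agent.Lib.Helper22.layer_normal G
  have hLE : L ≤ layer G := le_sSup hL
  -- `E(G) ≤ L C(L)`
  have hELC : layer G ≤ L ⊔ centralizer (L : Set G) := by
    apply sSup_le
    intro L' hL'
    by_cases hne : L' = L
    · rw [hne]; exact le_sup_left
    · refine le_trans ?_ le_sup_right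
      exact Subgroup.commutator_eq_bot_iff_le_centralizer.mp
        (Cfsg.Agent.Lib.Helper22.components_commute hL' hL hne)
  have hSN : layer G ⊓ normalizer (P : Set G) ≤ normalizer (P : Set G) := inf_le_right
  have hNS : normalizer (P : Set G) ≤
      normalizer ((layer G ⊓ normalizer (P : Set G) : Subgroup G) : Set G) := by
    refine le_trans ?_ (Cfsg.Agent.Lib.Helper54.normalizer_inf_normalizer_le_normalizer_inf _ _)
    refine le_inf ?_ Subgroup.le_normalizer
    rw [Subgroup.normalizer_eq_top_iff.mpr hEn]; exact le_top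
  rcases pComp_dichotomy hJ hSN hNS with hA | hB
  · -- case A
    have h1 : J ≤ layer G ⊔ W := le_trans hA (sup_le_sup_right inf_le_left _)
    have h2 : J ≤ layer G := le_of_le_sup_of_pUp
      (by rw [Subgroup.normalizer_eq_top_iff.mpr hEn]; exact le_top) hWc hgen h1
    exact le_trans h2 hELC
  · -- case B
    by_cases hQ : ∀ Q : Subgroup G, IsPGroup 2 Q → Q ≤ layer G ⊓ normalizer (P : Set G) → Q ≤ P
    · obtain ⟨S, hS⟩ := exists_sylow_inf_of_forall_le (layer G) hP hQ L hLE
        (layer_le_normalizer_component hL)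
      have hJC : J ≤ centralizer (P : Set G) := pComp_le_centralizer hP hJ
      have h1 := le_centralizer_of_centralizes_sylow hO hL (P ⊓ L) inf_le_right ⟨S, hS⟩ J
        (pComp_le_normalizer_component hO hP hJ hL)
        (le_trans hJC (Subgroup.centralizer_le (by exact_mod_cast (inf_le_left : P ⊓ L ≤ P))))
        (pComp_perfect hJ) hgen
      exact le_trans h1 le_sup_right
    · push Not at hQ
      obtain ⟨Q, hQ2, hQle, hQP⟩ := hQ
      have hQN : Q ≤ normalizer (P : Set G) := le_trans hQle inf_le_right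
      have hQJ : ⁅Q, J⁆ ≤ W := le_trans (Subgroup.commutator_mono hQle le_rfl) hB
      obtain ⟨J₁, hJ₁, hle⟩ := exists_pComp_sup hP hJ Q hQ2 hQN hQJ
      have hP₁ : IsPGroup 2 (P ⊔ Q : Subgroup G) := by
        rw [sup_comm]; exact IsPGroup.to_sup_of_normal_right' hQ2 hP hQN
      have hlt : Nat.card P < Nat.card (P ⊔ Q : Subgroup G) := by
        have hss : (P : Set G) ⊂ ((P ⊔ Q : Subgroup G) : Set G) :=
          ⟨fun x hx => (le_sup_left : P ≤ P ⊔ Q) hx,
            fun h => hQP (fun x hx => h ((le_sup_right : Q ≤ P ⊔ Q) hx))⟩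
        have h := Set.ncard_lt_ncard hss (Set.toFinite _)
        rw [← Nat.card_coe_set_eq, ← Nat.card_coe_set_eq] at h
        exact h
      have hle' : Nat.card (P ⊔ Q : Subgroup G) ≤ Nat.card G := Subgroup.card_le_card_group _
      have hm : Nat.card G - Nat.card (P ⊔ Q : Subgroup G) < n := by omega
      have hIH := ih _ hm hP₁ hJ₁ rfl
      have h1 : J ≤ (L ⊔ centralizer (L : Set G)) ⊔ W := le_trans hle (sup_le_sup_right hIH _)
      have hWN : W ≤ normalizer ((L ⊔ centralizer (L : Set G) : Subgroup G) : Set G) := by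
        refine le_trans ?_ (Cfsg.Agent.Lib.Helper54.normalizer_inf_normalizer_le_normalizer_sup _ _)
        exact le_inf hWL
          (le_trans hWL (Cfsg.Agent.Lib.Helper22.normalizer_le_normalizer_centralizer' L))
      exact le_of_le_sup_of_pUp hWN hWc hgen h1

/-- ASSEMBLY (copy of `LBalS.le_layer_of_schreier` with the inner-ness as hypothesis). -/
theorem le_layer_of_le_sup_centralizer {G : Type*} [Group G] [Finite G] {p : ℕ} [hp : Fact p.Prime]
    (hO : pPrimeCore p G = ⊥) {J : Subgroup G} (hperf : ⁅J, J⁆ = J)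
    (hJQ : J ≤ centralizer (pCore p G : Set G))
    (h1 : ∀ L : Subgroup G, IsComponent L → J ≤ L ⊔ centralizer (L : Set G)) : J ≤ layer G := by
  have hEn : (layer G).Normal := Cfsg.Agent.Lib.Helper22.layer_normal G
  have hF : fittingSubgroup G = pCore p G :=
    Cfsg.Agent.Lib.Helper91.fittingSubgroup_eq_pCore_of_pPrimeCore_eq_bot hO
  have hEQ : layer G ≤ centralizer (pCore p G : Set G) := by
    rw [← hF]; exact Cfsg.Agent.Lib.Helper22.layer_le_centralizer_fitting G
  have h2 := Cfsg.Agent.Lib.Helper22.LBalS.le_layer_sup_centralizer h1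
  -- `A = Z(F*(G))`
  set A : Subgroup G := generalizedFittingSubgroup G ⊓
    centralizer (generalizedFittingSubgroup G : Set G) with hA
  have h3 : J ≤ layer G ⊔ A := by
    intro j hj
    obtain ⟨e, he, c, hc, rfl⟩ := Subgroup.mem_sup_of_normal_left.mp (h2 hj)
    apply Subgroup.mul_mem_sup he
    have hcQ : c ∈ centralizer (pCore p G : Set G) := by
      have := mul_mem (inv_mem (hEQ he)) (hJQ hj)
      simpa using this
    have hcF : c ∈ centralizer (generalizedFittingSubgroup G : Set G) := by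
      have : zpowers c ≤ centralizer (generalizedFittingSubgroup G : Set G) := by
        rw [Subgroup.le_centralizer_iff]
        unfold generalizedFittingSubgroup
        rw [hF]
        apply sup_le
        · rw [← Subgroup.le_centralizer_iff, Subgroup.zpowers_le]; exact hc
        · rw [← Subgroup.le_centralizer_iff, Subgroup.zpowers_le]; exact hcQ
      exact this (Subgroup.mem_zpowers c)
    exact ⟨Cfsg.Agent.Lib.Helper22.centralizer_generalizedFitting_le G hcF, hcF⟩
  have hAc : A ≤ centralizer ((layer G ⊔ A : Subgroup G) : Set G) := by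
    refine le_trans inf_le_right (Subgroup.centralizer_le ?_)
    have : layer G ⊔ A ≤ generalizedFittingSubgroup G :=
      sup_le (Cfsg.Agent.Lib.Helper22.layer_le_generalizedFitting G) inf_le_left
    exact_mod_cast this
  have h4 : ⁅(layer G ⊔ A : Subgroup G), (layer G ⊔ A : Subgroup G)⁆ ≤ layer G := by
    rw [Subgroup.commutator_le]
    intro g₁ hg₁ g₂ hg₂
    obtain ⟨e, he, a, ha, rfl⟩ := Subgroup.mem_sup_of_normal_left.mp hg₁
    have hcomm : a * g₂ = g₂ * a := (Subgroup.mem_centralizer_iff.mp (hAc ha) g₂ hg₂).symm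
    have e1 : ⁅e * a, g₂⁆ = e * (g₂ * e⁻¹ * g₂⁻¹) := by
      rw [commutatorElement_def]
      calc e * a * g₂ * (e * a)⁻¹ * g₂⁻¹ = e * (a * g₂) * a⁻¹ * e⁻¹ * g₂⁻¹ := by group
        _ = e * (g₂ * a) * a⁻¹ * e⁻¹ * g₂⁻¹ := by rw [hcomm]
        _ = e * (g₂ * e⁻¹ * g₂⁻¹) := by group
    rw [e1]
    exact mul_mem he (hEn.conj_mem _ (inv_mem he) g₂)
  calc J = ⁅J, J⁆ := hperf.symm
    _ ≤ ⁅(layer G ⊔ A : Subgroup G), (layer G ⊔ A : Subgroup G)⁆ := Subgroup.commutator_mono h3 h3
    _ ≤ layer G := h4


/-- ASSEMBLY: a 2-component of a 2-local lies in `E(G)` when `O(G) = 1`. -/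
theorem pComp_le_layer_two (hO : pPrimeCore 2 G = ⊥) {P : Subgroup G} (hP : IsPGroup 2 P)
    {J₀ : Subgroup ↥(normalizer (P : Set G))} (hJ : IsPComponent 2 J₀) :
    J₀.map (normalizer (P : Set G)).subtype ≤ layer G :=
  le_layer_of_le_sup_centralizer hO (pComp_perfect hJ) (pComp_le_centralizer_pCore hP hJ)
    (fun _ hL => pComp_le_sup_centralizer_two hO hP hJ hL)

end partII

section partIII

universe u
variable {G : Type u} [Group G] [Finite G]

/-- **`L_{2'}`-balance without the Schreier property**, for a single `2`-component. -/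
theorem pComp_le_pLayer_two
    {R : Subgroup G} (hR : IsPGroup 2 R) {J₀ : Subgroup ↥(normalizer (R : Set G))}
    (hJ : IsPComponent 2 J₀) :
    J₀.map (normalizer (R : Set G)).subtype ≤ pLayer 2 G := by
  have hπ : Function.Surjective (QuotientGroup.mk' (pPrimeCore 2 G)) :=
    QuotientGroup.mk'_surjective _
  have hOc : (Nat.card (pPrimeCore 2 G)).Coprime 2 :=
    Cfsg.Agent.Lib.Helper30.pPrimeCore_card_coprime 2
  have hker : (Nat.card (QuotientGroup.mk' (pPrimeCore 2 G)).ker).Coprime 2 := by
    rw [QuotientGroup.ker_mk']; exact hOc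
  -- the map between the normalizers
  let f : ↥(normalizer (R : Set G)) →*
      ↥(normalizer ((R.map (QuotientGroup.mk' (pPrimeCore 2 G)) : Subgroup _) : Set _)) :=
    ((QuotientGroup.mk' (pPrimeCore 2 G)).comp (normalizer (R : Set G)).subtype).codRestrict _
      (fun x => Subgroup.le_normalizer_map (QuotientGroup.mk' (pPrimeCore 2 G))
        ⟨x.1, x.2, rfl⟩)
  have hfval : ∀ x, ((f x : G ⧸ pPrimeCore 2 G)) = QuotientGroup.mk' (pPrimeCore 2 G) x.1 :=
    fun x => rfl
  have hfs : Function.Surjective f := by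
    rintro ⟨n', hn'⟩
    obtain ⟨n, hn, hfn⟩ := Cfsg.Agent.Lib.Helper54.exists_mem_normalizer_map_eq 2
      (QuotientGroup.mk' (pPrimeCore 2 G)) hπ hker R hR n' hn'
    exact ⟨⟨n, hn⟩, Subtype.ext hfn⟩
  have hfker : (Nat.card f.ker).Coprime 2 := by
    have h1 : f.ker.map (normalizer (R : Set G)).subtype ≤ pPrimeCore 2 G := by
      rintro _ ⟨x, hx, rfl⟩
      have h2 := congrArg Subtype.val (MonoidHom.mem_ker.mp hx)
      rw [hfval] at h2
      have h3 : (x.1 : G) ∈ (QuotientGroup.mk' (pPrimeCore 2 G)).ker := by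
        rw [MonoidHom.mem_ker]; simpa using h2
      rwa [QuotientGroup.ker_mk'] at h3
    rw [← Subgroup.card_subtype (normalizer (R : Set G)) f.ker]
    exact Nat.Coprime.coprime_dvd_left (Subgroup.card_dvd_of_le h1) hOc
  have hJ' : IsPComponent 2 (J₀.map f) := Cfsg.Agent.Lib.Helper22.LBalS.isPComponent_map_of_coprime_ker f hfs hfker hJ
  have hObar : pPrimeCore 2 (G ⧸ pPrimeCore 2 G) = ⊥ :=
    Cfsg.Agent.Lib.Helper30.pPrimeCore_quotient_eq_bot 2
  have h1 := pComp_le_layer_two hObar (hR.map (QuotientGroup.mk' (pPrimeCore 2 G))) hJ'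
  have h2 : (J₀.map f).map
      (normalizer ((R.map (QuotientGroup.mk' (pPrimeCore 2 G)) : Subgroup _) : Set _)).subtype =
      (J₀.map (normalizer (R : Set G)).subtype).map (QuotientGroup.mk' (pPrimeCore 2 G)) := by
    rw [Subgroup.map_map, Subgroup.map_map]
    rfl
  rw [h2] at h1
  have h3 : J₀.map (normalizer (R : Set G)).subtype ≤ pLayer 2 G ⊔ pPrimeCore 2 G := by
    have := le_trans h1 Cfsg.Agent.Lib.Helper22.LBalS.layer_quotient_le_map_pLayer
    rw [Subgroup.map_le_iff_le_comap, Subgroup.comap_map_eq, QuotientGroup.ker_mk'] at this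
    exact this
  haveI : (pLayer 2 G).Normal := Cfsg.Agent.Lib.Helper23.pLayer_normal 2
  exact le_of_le_sup_of_pUp (Subgroup.normalizer_eq_top (H := pLayer 2 G) ▸ le_top) hOc
    (pComp_gen hJ) h3

/-- **`L_{2'}`-balance without the Schreier property.** -/
theorem pLayer_normalizer_le_pLayer_two'
    {R : Subgroup G} (hR : IsPGroup 2 R) :
    (pLayer 2 ↥(normalizer (R : Set G))).map (normalizer (R : Set G)).subtype ≤ pLayer 2 G := by
  rw [Subgroup.map_le_iff_le_comap]
  unfold pLayer
  apply sSup_le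
  intro J₀ hJ
  rw [← Subgroup.map_le_iff_le_comap]
  exact pComp_le_pLayer_two hR hJ


theorem pLayer_normalizer_le_pLayer_two {R : Subgroup G} (hR : IsPGroup 2 R) :
    (pLayer 2 ↥(normalizer (R : Set G))).map (normalizer (R : Set G)).subtype ≤ pLayer 2 G :=
  pLayer_normalizer_le_pLayer_two' hR


end partIII

end Cfsg.Agent.Lib.Helper22.Lb
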