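import Mathlib
import Cfsg.Statements.S1305

/-! # S1305 Mc hive, leaf MC7b. -/

set_option autoImplicit false
open Cfsg Subgroup
open scoped commutatorElement

namespace Cfsg.Agent.Lib.Helper22.McB

universe u

/-- MC7b. An element `β` commuting with `a`, centralizing the diagonal `K` and normalizing `J`
centralizes `J`. -/
theorem mc7b {G : Type u} [Group G] [Finite G] (a β : G) (ha : a ^ 2 = 1) (K J : Subgroup G)
    (hJq : IsQuasisimple ↥J)
    (hcomm : ∀ x ∈ J, ∀ y ∈ J.map (MulAut.conj a).toMonoidHom, x * y = y * x)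
    (hdiag : ∀ k, k ∈ K ↔ ∃ x ∈ J, k = x * (a * x * a⁻¹))
    (hβa : β * a = a * β) (hβK : β ∈ centralizer (K : Set G))
    (hβJ : J.map (MulAut.conj β).toMonoidHom = J) :
    ∀ x ∈ J, β * x = x * β := by
  -- `J` is perfect
  have hperf : ⁅J, J⁆ = J := by
    have := hJq.1
    exact Subgroup.commutator_eq_self
  -- conjugation by β maps J into J
  have hβJmem : ∀ x ∈ J, β * x * β⁻¹ ∈ J := by
    intro x hx
    have : β * x * β⁻¹ ∈ J.map (MulAut.conj β).toMonoidHom := ⟨x, hx, by simp [MulAut.conj_apply]⟩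
    rwa [hβJ] at this
  -- key: β x β⁻¹ = x d with d central in J
  have hd : ∀ x ∈ J, ∃ d ∈ J, (∀ y ∈ J, d * y = y * d) ∧ β * x * β⁻¹ = x * d := by
    intro x hx
    set x' := β * x * β⁻¹ with hx'
    have hx'J : x' ∈ J := hβJmem x hx
    have hk : x * (a * x * a⁻¹) ∈ K := (hdiag _).mpr ⟨x, hx, rfl⟩
    have hkβ : (x * (a * x * a⁻¹)) * β = β * (x * (a * x * a⁻¹)) := mem_centralizer_iff.mp hβK _ hk
    have hβa' : β * a⁻¹ = a⁻¹ * β := by
      have : a⁻¹ * (β * a) * a⁻¹ = a⁻¹ * (a * β) * a⁻¹ := by rw [hβa]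
      simpa [mul_assoc] using this.symm
    -- β k β⁻¹ = x' (a x' a⁻¹)
    have h1 : x' * (a * x' * a⁻¹) = x * (a * x * a⁻¹) := by
      have e1 : x' * (a * x' * a⁻¹) = β * (x * (a * x * a⁻¹)) * β⁻¹ := by
        rw [hx']
        have : a * (β * x * β⁻¹) * a⁻¹ = β * (a * x * a⁻¹) * β⁻¹ := by
          have hβinv : β⁻¹ * a⁻¹ = a⁻¹ * β⁻¹ := by
            have := congrArg (fun g => g⁻¹) hβa
            simpa [mul_inv_rev] using this.symm
          calc a * (β * x * β⁻¹) * a⁻¹ = (a * β) * x * (β⁻¹ * a⁻¹) := by group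
            _ = (β * a) * x * (a⁻¹ * β⁻¹) := by rw [hβa, hβinv]
            _ = β * (a * x * a⁻¹) * β⁻¹ := by group
        rw [this]; group
      rw [e1, ← hkβ]; group
    set d := x⁻¹ * x' with hdd
    have hdJ : d ∈ J := J.mul_mem (J.inv_mem hx) hx'J
    have hd2 : d = a * (x * x'⁻¹) * a⁻¹ := by
      -- from h1: x⁻¹ x' = (a x a⁻¹)(a x' a⁻¹)⁻¹
      have e : x⁻¹ * x' = (a * x * a⁻¹) * (a * x' * a⁻¹)⁻¹ := by
        have := congrArg (fun g => x⁻¹ * g * (a * x' * a⁻¹)⁻¹) h1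
        simpa [mul_assoc] using this
      rw [hdd, e]; group
    have hdJa : d ∈ J.map (MulAut.conj a).toMonoidHom := by
      rw [hd2]
      exact ⟨x * x'⁻¹, J.mul_mem hx (J.inv_mem hx'J), by simp [MulAut.conj_apply]⟩
    refine ⟨d, hdJ, fun y hy => (hcomm y hy d hdJa).symm, ?_⟩
    rw [hdd]; group
  -- commutators of J are fixed by β
  have hcomm_fix : ∀ x ∈ J, ∀ y ∈ J, ⁅x, y⁆ ∈ centralizer ({β} : Set G) := by
    intro x hx y hy
    obtain ⟨dx, hdxJ, hdxc, hdx⟩ := hd x hx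
    obtain ⟨dy, hdyJ, hdyc, hdy⟩ := hd y hy
    rw [mem_centralizer_singleton_iff]
    -- β [x,y] β⁻¹ = [x dx, y dy] = [x,y]
    have h1 : β * ⁅x, y⁆ * β⁻¹ = ⁅β * x * β⁻¹, β * y * β⁻¹⁆ := by
      simp only [commutatorElement_def]; group
    have h2 : ⁅x * dx, y * dy⁆ = ⁅x, y⁆ := by
      simp only [commutatorElement_def, mul_inv_rev]
      have c1 := hdxc y hy
      have c2 := hdxc dy hdyJ
      have c3 := hdyc x hx
      have c4 := hdxc x hx
      have c5 := hdyc y hy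
      have c6 := hdxc x⁻¹ (J.inv_mem hx)
      have c7 := hdyc x⁻¹ (J.inv_mem hx)
      have c8 := hdxc y⁻¹ (J.inv_mem hy)
      have c9 := hdyc y⁻¹ (J.inv_mem hy)
      calc x * dx * (y * dy) * (dx⁻¹ * x⁻¹) * (dy⁻¹ * y⁻¹)
          = x * (dx * y) * dy * dx⁻¹ * x⁻¹ * dy⁻¹ * y⁻¹ := by group
        _ = x * (y * dx) * dy * dx⁻¹ * x⁻¹ * dy⁻¹ * y⁻¹ := by rw [c1]
        _ = x * y * (dx * dy) * dx⁻¹ * x⁻¹ * dy⁻¹ * y⁻¹ := by group
        _ = x * y * (dy * dx) * dx⁻¹ * x⁻¹ * dy⁻¹ * y⁻¹ := by rw [c2]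
        _ = x * y * (dy * x⁻¹) * dy⁻¹ * y⁻¹ := by group
        _ = x * y * (x⁻¹ * dy) * dy⁻¹ * y⁻¹ := by rw [c7]
        _ = x * y * x⁻¹ * y⁻¹ := by group
    have h3 : β * ⁅x, y⁆ * β⁻¹ = ⁅x, y⁆ := by rw [h1, hdx, hdy, h2]
    have := congrArg (fun g => g * β) h3
    simpa [mul_assoc] using this.symm
  have hle : ⁅J, J⁆ ≤ centralizer ({β} : Set G) :=
    (Subgroup.commutator_le).mpr hcomm_fix
  rw [hperf] at hle
  intro x hx
  exact (mem_centralizer_singleton_iff.mp (hle hx)).symm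

end Cfsg.Agent.Lib.Helper22.McB
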