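import Mathlib
import Cfsg.Statements.S1305
import Cfsg.Agent.Lib.Helper22.FStar
import Cfsg.Agent.Lib.Helper91.Components

/-! # S1305 Mc hive, leaf MC8: component-theoretic input for the diagonal case. -/

set_option autoImplicit false
open Cfsg Subgroup

namespace Cfsg.Agent.Lib.Helper22.McC

universe u

variable {G : Type u} [Group G]

/-- a conjugate (by an element of `C_G(b)`) of a component of `C_G(b)` is a component of `C_G(b)` -/
theorem mc8_conj_comp (b g : G) (hgb : g * b = b * g) (J : Subgroup G)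
    (hJb : J ≤ centralizer ({b} : Set G))
    (hJ : IsComponent (J.subgroupOf (centralizer ({b} : Set G)))) :
    J.map (MulAut.conj g).toMonoidHom ≤ centralizer ({b} : Set G) ∧
    IsComponent ((J.map (MulAut.conj g).toMonoidHom).subgroupOf (centralizer ({b} : Set G))) := by
  have hgb' : g * b * g⁻¹ = b := by rw [hgb]; group
  constructor
  · rintro _ ⟨x, hx, rfl⟩
    have hxb : x * b = b * x := mem_centralizer_singleton_iff.mp (hJb hx)
    rw [mem_centralizer_singleton_iff]
    show g * x * g⁻¹ * b = b * (g * x * g⁻¹)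
    have hginv : g⁻¹ * b = b * g⁻¹ := by
      have : g⁻¹ * (g * b) * g⁻¹ = g⁻¹ * (b * g) * g⁻¹ := by rw [hgb]
      simpa [mul_assoc] using this.symm
    calc g * x * g⁻¹ * b = g * x * (g⁻¹ * b) := by group
      _ = g * x * (b * g⁻¹) := by rw [hginv]
      _ = g * (x * b) * g⁻¹ := by group
      _ = g * (b * x) * g⁻¹ := by rw [hxb]
      _ = (g * b) * x * g⁻¹ := by group
      _ = (b * g) * x * g⁻¹ := by rw [hgb]
      _ = b * (g * x * g⁻¹) := by group
  · have := Cfsg.Agent.Lib.Helper22.isComponent_subgroupOf_map_conj g hJ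
    rw [Cfsg.Agent.Lib.Helper22.map_conj_centralizer_singleton, hgb'] at this
    exact this

/-- distinct components of `C_G(b)` (as subgroups of `G`) commute elementwise -/
theorem mc8_comm [Finite G] (b : G) (J₁ J₂ : Subgroup G)
    (h₁b : J₁ ≤ centralizer ({b} : Set G)) (h₂b : J₂ ≤ centralizer ({b} : Set G))
    (h₁ : IsComponent (J₁.subgroupOf (centralizer ({b} : Set G))))
    (h₂ : IsComponent (J₂.subgroupOf (centralizer ({b} : Set G))))
    (hne : J₁ ≠ J₂) : ∀ x ∈ J₁, ∀ y ∈ J₂, x * y = y * x := by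
  have hne' : J₁.subgroupOf (centralizer ({b} : Set G)) ≠ J₂.subgroupOf (centralizer ({b} : Set G)) := by
    intro h
    apply hne
    have := (subgroupOf_inj).mp h
    rwa [inf_eq_left.mpr h₁b, inf_eq_left.mpr h₂b] at this
  intro x hx y hy
  have := Cfsg.Agent.Lib.Helper91.component_commute_of_ne h₁ h₂ hne'
    ⟨x, h₁b hx⟩ (mem_subgroupOf.mpr hx) ⟨y, h₂b hy⟩ (mem_subgroupOf.mpr hy)
  exact congrArg Subtype.val this

/-- MC8. Component-theoretic input for the diagonal case. -/
theorem mc8 [Finite G] (a b : G) (ha : orderOf a = 2) (hab : a * b = b * a)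
    (J K : Subgroup G) (hJb : J ≤ centralizer ({b} : Set G))
    (hJ : IsComponent (J.subgroupOf (centralizer ({b} : Set G))))
    (hJa : J.map (MulAut.conj a).toMonoidHom ≠ J)
    (hdiag : ∀ k, k ∈ K ↔ ∃ x ∈ J, k = x * (a * x * a⁻¹))
    (hKna : ∃ k₁ ∈ K, ∃ k₂ ∈ K, k₁ * k₂ ≠ k₂ * k₁) :
    IsQuasisimple ↥J ∧
    (∀ x ∈ J, ∀ y ∈ J.map (MulAut.conj a).toMonoidHom, x * y = y * x) ∧
    (∀ β : G, β * b = b * β → β * a = a * β → β ∈ centralizer (K : Set G) →
      J.map (MulAut.conj β).toMonoidHom = J ∨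
      J.map (MulAut.conj β).toMonoidHom = J.map (MulAut.conj a).toMonoidHom) := by
  have ha2 : a * a = 1 := by
    have := pow_orderOf_eq_one a
    rw [ha, pow_two] at this
    exact this
  have hainv : a⁻¹ = a := inv_eq_of_mul_eq_one_right ha2
  obtain ⟨hJab, hJac⟩ := mc8_conj_comp b a hab J hJb hJ
  have hcommJJa := mc8_comm b J (J.map (MulAut.conj a).toMonoidHom) hJb hJab hJ hJac (Ne.symm hJa)
  refine ⟨Cfsg.Agent.Lib.Helper91.isQuasisimple_of_mulEquiv (subgroupOfEquivOfLe hJb) hJ.2,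
    hcommJJa, ?_⟩
  intro β hβb hβa hβK
  by_contra hcon
  have hne1 : J.map (MulAut.conj β).toMonoidHom ≠ J := fun h => hcon (Or.inl h)
  have hne2 : J.map (MulAut.conj β).toMonoidHom ≠ J.map (MulAut.conj a).toMonoidHom :=
    fun h => hcon (Or.inr h)
  set Jβ := J.map (MulAut.conj β).toMonoidHom with hJβ
  obtain ⟨hJβb, hJβc⟩ := mc8_conj_comp b β hβb J hJb hJ
  obtain ⟨hJβab, hJβac⟩ := mc8_conj_comp b a hab Jβ hJβb hJβc
  set Jβa := Jβ.map (MulAut.conj a).toMonoidHom with hJβa
  -- conjugating by `a` twice is the identity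
  have hconj2 : ∀ H : Subgroup G, (H.map (MulAut.conj a).toMonoidHom).map (MulAut.conj a).toMonoidHom = H := by
    intro H
    ext z
    constructor
    · rintro ⟨_, ⟨x, hx, rfl⟩, rfl⟩
      have : a * (a * x * a⁻¹) * a⁻¹ = x := by
        rw [hainv]
        calc a * (a * x * a) * a = (a * a) * x * (a * a) := by group
          _ = x := by rw [ha2]; simp
      show (MulAut.conj a).toMonoidHom ((MulAut.conj a).toMonoidHom x) ∈ H
      have h2 : (MulAut.conj a).toMonoidHom ((MulAut.conj a).toMonoidHom x) = x := by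
        simpa [MulAut.conj_apply] using this
      rw [h2]; exact hx
    · intro hz
      refine ⟨a * z * a⁻¹, ⟨z, hz, by simp [MulAut.conj_apply]⟩, ?_⟩
      have : a * (a * z * a⁻¹) * a⁻¹ = z := by
        rw [hainv]
        calc a * (a * z * a) * a = (a * a) * z * (a * a) := by group
          _ = z := by rw [ha2]; simp
      simpa [MulAut.conj_apply] using this
  have hne3 : Jβa ≠ J := by
    intro h
    apply hne2
    have := congrArg (fun H : Subgroup G => H.map (MulAut.conj a).toMonoidHom) h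
    simp only [hJβa, hconj2] at this
    exact this
  have hne4 : Jβa ≠ J.map (MulAut.conj a).toMonoidHom := by
    intro h
    apply hne1
    have := congrArg (fun H : Subgroup G => H.map (MulAut.conj a).toMonoidHom) h
    simp only [hJβa, hconj2] at this
    exact this
  have c1 := mc8_comm b Jβ J hJβb hJb hJβc hJ hne1
  have c2 := mc8_comm b Jβ (J.map (MulAut.conj a).toMonoidHom) hJβb hJab hJβc hJac hne2
  have c3 := mc8_comm b Jβa J hJβab hJb hJβac hJ hne3
  have c4 := mc8_comm b Jβa (J.map (MulAut.conj a).toMonoidHom) hJβab hJab hJβac hJac hne4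
  -- every element of K commutes with every element of K
  obtain ⟨k₁, hk₁, k₂, hk₂, hne⟩ := hKna
  apply hne
  obtain ⟨x, hx, rfl⟩ := (hdiag k₁).mp hk₁
  obtain ⟨y, hy, rfl⟩ := (hdiag k₂).mp hk₂
  -- k₁ = β k₁ β⁻¹ = x^β (x^β)^a
  have hk₁β : (x * (a * x * a⁻¹)) * β = β * (x * (a * x * a⁻¹)) := mem_centralizer_iff.mp hβK _ hk₁
  set u := β * x * β⁻¹ with hu
  have huJβ : u ∈ Jβ := ⟨x, hx, by simp [MulAut.conj_apply, hu]⟩
  have huaJβa : a * u * a⁻¹ ∈ Jβa := ⟨u, huJβ, by simp [MulAut.conj_apply]⟩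
  have hβinv : β⁻¹ * a⁻¹ = a⁻¹ * β⁻¹ := by
    have := congrArg (fun g => g⁻¹) hβa
    simpa [mul_inv_rev] using this.symm
  have hk₁eq : x * (a * x * a⁻¹) = u * (a * u * a⁻¹) := by
    have e1 : u * (a * u * a⁻¹) = β * (x * (a * x * a⁻¹)) * β⁻¹ := by
      rw [hu]
      have : a * (β * x * β⁻¹) * a⁻¹ = β * (a * x * a⁻¹) * β⁻¹ := by
        calc a * (β * x * β⁻¹) * a⁻¹ = (a * β) * x * (β⁻¹ * a⁻¹) := by group
          _ = (β * a) * x * (a⁻¹ * β⁻¹) := by rw [hβa, hβinv]
          _ = β * (a * x * a⁻¹) * β⁻¹ := by group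
      rw [this]; group
    rw [e1, ← hk₁β]; group
  have hyaJa : a * y * a⁻¹ ∈ J.map (MulAut.conj a).toMonoidHom := ⟨y, hy, by simp [MulAut.conj_apply]⟩
  rw [hk₁eq]
  -- u and a u a⁻¹ commute with y and a y a⁻¹
  have e1 := c1 u huJβ y hy
  have e2 := c2 u huJβ _ hyaJa
  have e3 := c3 _ huaJβa y hy
  have e4 := c4 _ huaJβa _ hyaJa
  have hC1 : Commute u y := e1
  have hC2 : Commute u (a * y * a⁻¹) := e2
  have hC3 : Commute (a * u * a⁻¹) y := e3
  have hC4 : Commute (a * u * a⁻¹) (a * y * a⁻¹) := e4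
  exact ((hC1.mul_right hC2).mul_left (hC3.mul_right hC4)).eq

end Cfsg.Agent.Lib.Helper22.McC
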