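import Mathlib
import Cfsg.Statements.S1305
import Cfsg.Agent.Lib.Helper25.Mc9
import Cfsg.Agent.Lib.Helper79.McBQS
import Cfsg.Agent.Lib.Helper85.McLBAL
import Cfsg.Agent.Lib.Helper75.McPCOMP

/-!
# Mc hive (S1305): leaf MC2 — `K ≤ E(C_G(b))`.
Assembled from MC9 (transport), and the three leaves BQS / LBAL / PCOMP of helper18's hive.
-/

set_option autoImplicit false

open Cfsg Subgroup

namespace Cfsg.Agent.Lib.Helper22.McE

universe u

/-- MC2. `K ≤ E(C_G(b))` (L-balance S1301 + B-property). -/
theorem mc2 {G : Type u} [Group G] [Finite G] (hO : oddCore G = ⊥) (hB : HasBProperty G) (a b : G)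
    (ha : orderOf a = 2) (hb : orderOf b = 2) (hab : a * b = b * a) (K : Subgroup G)
    (hKa : K ≤ centralizer ({a} : Set G)) (hKb : K ≤ centralizer ({b} : Set G))
    (hK : IsComponent (K.subgroupOf (centralizer ({a} : Set G)))) (heven : Even (Nat.card K)) :
    K.subgroupOf (centralizer ({b} : Set G)) ≤ layer ↥(centralizer ({b} : Set G)) := by
  have hamem : a ∈ centralizer ({b} : Set G) := mem_centralizer_singleton_iff.mpr hab
  have ha2 : a * a = 1 := by
    have := pow_orderOf_eq_one a
    rw [ha, pow_two] at this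
    exact this
  set a' : ↥(centralizer ({b} : Set G)) := ⟨a, hamem⟩ with ha'
  set K' : Subgroup ↥(centralizer ({b} : Set G)) := K.subgroupOf (centralizer ({b} : Set G)) with hK'
  have ha'2 : a' * a' = 1 := Subtype.ext ha2
  have hK'a : K' ≤ centralizer ({a'} : Set ↥(centralizer ({b} : Set G))) := by
    intro x hx
    have hx' : (x : G) ∈ K := hx
    have h1 : (x : G) * a = a * (x : G) := mem_centralizer_singleton_iff.mp (hKa hx')
    rw [mem_centralizer_singleton_iff]
    exact Subtype.ext h1
  have hcomp := Cfsg.Agent.Lib.Helper22.Mc.mc9 a b hamem K hKa hKb hK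
  have hcard1 : Nat.card K' = Nat.card K :=
    Nat.card_congr (Subgroup.subgroupOfEquivOfLe hKb).toEquiv
  have hcard2 : Nat.card (K'.subgroupOf (centralizer ({a'} : Set ↥(centralizer ({b} : Set G))))) =
      Nat.card K' := Nat.card_congr (Subgroup.subgroupOfEquivOfLe hK'a).toEquiv
  have hev : Even (Nat.card (K'.subgroupOf
      (centralizer ({a'} : Set ↥(centralizer ({b} : Set G)))))) := by
    rw [hcard2, hcard1]; exact heven
  have hpc := Cfsg.Agent.Lib.Helper18.Mc.comp_isPComponent _ hcomp hev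
  have h1 := Cfsg.Agent.Lib.Helper18.Mc.le_pLayer a' ha'2 K' hK'a hpc
  exact le_trans h1 (Cfsg.Agent.Lib.Helper18.Mc.pLayer_le_layer hO hB b hb)

end Cfsg.Agent.Lib.Helper22.McE
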