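import Mathlib
import Cfsg.Statements.S2924
import Cfsg.Agent.Lib.Helper22.OcDefs
import Cfsg.Agent.Lib.Helper34.OcOC1
import Cfsg.Agent.Lib.Helper70.Oc4a
import Cfsg.Agent.Lib.Helper55.Cores

/-! # S2924 hive, leaf OC4: balance. -/

set_option autoImplicit false
open Cfsg Subgroup

namespace Cfsg.Agent.Lib.Helper22.OcBal

open Cfsg.Agent.Lib.Helper22.Oc

universe u

/-- OC4. Balance: `θ(x) ∩ C_X(y) ≤ θ(y)` when `C_X(y)/O(C_X(y))` has characteristic 2. -/
theorem oc4 {X : Type u} [Group X] [Finite X] (x y : X) (hxy : x * y = y * x) (hx2 : x ^ 2 = 1)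
    (hbar : generalizedFittingSubgroup
        (↥(centralizer ({y} : Set X)) ⧸ oddCore ↥(centralizer ({y} : Set X))) =
      pCore 2 (↥(centralizer ({y} : Set X)) ⧸ oddCore ↥(centralizer ({y} : Set X)))) :
    ∀ a ∈ th x, a * y = y * a → a ∈ th y := by
  classical
  set H : Subgroup X := centralizer ({y} : Set X) with hH
  set N : Subgroup ↥H := oddCore ↥H with hN
  have hxH : x ∈ H := mem_centralizer_singleton_iff.mpr hxy
  set x' : ↥H := ⟨x, hxH⟩ with hx'
  set xbar : ↥H ⧸ N := QuotientGroup.mk' N x' with hxbar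
  have hxbar2 : xbar ^ 2 = 1 := by
    rw [hxbar, ← map_pow]
    have : x' ^ 2 = 1 := Subtype.ext (by simpa using hx2)
    rw [this, map_one]
  have hNodd : Odd (Nat.card N) :=
    Nat.coprime_two_right.mp (Cfsg.Agent.Lib.Helper55.pPrimeCore_card_coprime 2)
  have hcore := (oc1 hbar xbar hxbar2).1
  have hcent := oc4a N hNodd x' (Subtype.ext (by simpa using hx2))
  set D' : Subgroup ↥H := (th x).subgroupOf H with hD'
  set Dbar : Subgroup (↥H ⧸ N) := D'.map (QuotientGroup.mk' N) with hDbar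
  set Cbar : Subgroup (↥H ⧸ N) := centralizer ({xbar} : Set (↥H ⧸ N)) with hCbar
  -- elements of `θ(x)` commute with `x`
  have hthx : ∀ a ∈ th x, a * x = x * a := by
    intro a ha
    obtain ⟨a', _, rfl⟩ := ha
    exact mem_centralizer_singleton_iff.mp a'.2
  -- `θ(x)` is normalized by `C_X(x)`
  have hthn : ∀ c : X, c * x = x * c → ∀ a ∈ th x, c * a * c⁻¹ ∈ th x := by
    intro c hc a ha
    obtain ⟨a', ha', rfl⟩ := ha
    have hcC : c ∈ centralizer ({x} : Set X) := mem_centralizer_singleton_iff.mpr hc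
    refine ⟨⟨c, hcC⟩ * a' * ⟨c, hcC⟩⁻¹, ?_, rfl⟩
    exact (inferInstance : (oddCore ↥(centralizer ({x} : Set X))).Normal).conj_mem a' ha' _
  have hDC : Dbar ≤ Cbar := by
    rintro _ ⟨d, hd, rfl⟩
    rw [hCbar, mem_centralizer_singleton_iff, hxbar, ← map_mul, ← map_mul]
    congr 1
    apply Subtype.ext
    exact hthx _ (mem_subgroupOf.mp hd)
  have hnormal : (Dbar.subgroupOf Cbar).Normal := by
    refine ⟨fun e he c => ?_⟩
    rw [mem_subgroupOf] at he ⊢
    obtain ⟨d, hd, hde⟩ := he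
    have hcmem : (c : ↥H ⧸ N) ∈ (centralizer ({x'} : Set ↥H)).map (QuotientGroup.mk' N) := by
      rw [← hcent]; exact c.2
    obtain ⟨c', hc', hcc⟩ := hcmem
    refine ⟨c' * d * c'⁻¹, ?_, ?_⟩
    · show c' * d * c'⁻¹ ∈ (th x).subgroupOf H
      rw [mem_subgroupOf]
      have hd' : d ∈ (th x).subgroupOf H := hd
      have hc'x : (c' : X) * x = x * (c' : X) := by
        have := mem_centralizer_singleton_iff.mp hc'
        exact congrArg Subtype.val this
      have := hthn (c' : X) hc'x (d : X) (mem_subgroupOf.mp hd')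
      simpa using this
    · rw [map_mul, map_mul, map_inv, hde, hcc]
      simp
  have hcop : (Nat.card (Dbar.subgroupOf Cbar)).Coprime 2 := by
    have h1 : Nat.card (Dbar.subgroupOf Cbar) = Nat.card Dbar :=
      Nat.card_congr (subgroupOfEquivOfLe hDC).toEquiv
    have h2 : Nat.card Dbar ∣ Nat.card D' := Subgroup.card_map_dvd _ _
    have h3 : Nat.card D' ∣ Nat.card (th x) := by
      -- `D' = (th x).subgroupOf H` embeds in `th x`
      have : Function.Injective (fun d : D' => (⟨(d : ↥H), mem_subgroupOf.mp d.2⟩ : th x)) := by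
        intro d e hde
        apply Subtype.ext; apply Subtype.ext
        exact congrArg (fun t : th x => (t : X)) hde
      exact Subgroup.card_dvd_of_injective
        ({ toFun := fun d : D' => (⟨(d : ↥H), mem_subgroupOf.mp d.2⟩ : th x)
           map_one' := rfl
           map_mul' := fun _ _ => rfl } : D' →* th x) this
    have h4 : Odd (Nat.card (th x)) := by
      have h1 : Nat.card (th x) = Nat.card (oddCore ↥(centralizer ({x} : Set X))) :=
        Nat.card_congr ((oddCore ↥(centralizer ({x} : Set X))).equivMapOfInjective _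
          (centralizer ({x} : Set X)).subtype_injective).symm.toEquiv
      rw [h1]
      exact Nat.coprime_two_right.mp (Cfsg.Agent.Lib.Helper55.pPrimeCore_card_coprime 2)
    rw [h1]
    exact Nat.Coprime.coprime_dvd_left (h2.trans h3) (Nat.coprime_two_right.mpr h4)
  have hle : Dbar.subgroupOf Cbar ≤ oddCore ↥Cbar :=
    le_sSup ⟨hnormal, hcop⟩
  rw [hcore] at hle
  intro a ha hay
  have haH : a ∈ H := mem_centralizer_singleton_iff.mpr hay
  have hdD : (⟨a, haH⟩ : ↥H) ∈ D' := mem_subgroupOf.mpr ha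
  have hbarD : QuotientGroup.mk' N (⟨a, haH⟩ : ↥H) ∈ Dbar := ⟨_, hdD, rfl⟩
  have hmem : (⟨QuotientGroup.mk' N (⟨a, haH⟩ : ↥H), hDC hbarD⟩ : ↥Cbar) ∈ Dbar.subgroupOf Cbar :=
    mem_subgroupOf.mpr hbarD
  have h1 := hle hmem
  rw [mem_bot] at h1
  have h2 : QuotientGroup.mk' N (⟨a, haH⟩ : ↥H) = 1 := congrArg Subtype.val h1
  have h3 : (⟨a, haH⟩ : ↥H) ∈ N := (QuotientGroup.eq_one_iff _).mp h2
  exact ⟨⟨a, haH⟩, h3, rfl⟩

end Cfsg.Agent.Lib.Helper22.OcBal
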