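import Mathlib
import Cfsg.Prelude.Def_LieExceptional

/-! # OPBN-SUB (S2548 hive, helper40): a (B,N)-pair "inside `B ⊔ N`". -/

set_option autoImplicit false

namespace Cfsg.Agent.Lib.Helper40.OpBN

open Cfsg

theorem sub_val_image_subgroupOf {G : Type*} [Group G] {A K : Subgroup G} (h : A ≤ K) :
    (Subtype.val : ↥K → G) '' ((A.subgroupOf K : Subgroup ↥K) : Set ↥K) = (A : Set G) := by
  ext x
  constructor
  · rintro ⟨y, hy, rfl⟩
    exact hy
  · intro hx
    exact ⟨⟨x, h hx⟩, hx, rfl⟩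

theorem sub_mem_doubleCoset {G : Type*} [Group G] {B K : Subgroup G} (hBK : B ≤ K)
    (x a : ↥K) (h : (x : G) ∈ DoubleCoset.doubleCoset (a : G) (B : Set G) B) :
    x ∈ DoubleCoset.doubleCoset a ((B.subgroupOf K : Subgroup ↥K) : Set ↥K) (B.subgroupOf K) := by
  rw [DoubleCoset.mem_doubleCoset] at h ⊢
  obtain ⟨b1, hb1, b2, hb2, hx⟩ := h
  exact ⟨⟨b1, hBK hb1⟩, hb1, ⟨b2, hBK hb2⟩, hb2, Subtype.ext hx⟩

/-- LEAF SUB (pure group theory): a (B,N)-pair "inside `B ⊔ N`". -/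
def subBN {G : Type*} [Group G] (B N : Subgroup G) (S : Set G)
    (conj_mem : ∀ n ∈ N, ∀ t ∈ B ⊓ N, n * t * n⁻¹ ∈ B)
    (subset : S ⊆ (N : Set G))
    (sq_mem : ∀ s ∈ S, s * s ∈ B)
    (inj : ∀ s ∈ S, ∀ s' ∈ S, s⁻¹ * s' ∈ B → s = s')
    (closure_sup : Subgroup.closure S ⊔ (B ⊓ N) = N)
    (mul_mem_union : ∀ s ∈ S, ∀ n ∈ N, ∀ b ∈ B,
      s * b * n ∈ DoubleCoset.doubleCoset (s * n) (B : Set G) B ∪ DoubleCoset.doubleCoset n (B : Set G) B)
    (conj_ne : ∀ s ∈ S, (fun b : G => s * b * s) '' (B : Set G) ≠ (B : Set G)) :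
    Cfsg.BNPair ↥(B ⊔ N) where
  B := B.subgroupOf (B ⊔ N)
  N := N.subgroupOf (B ⊔ N)
  S := Subtype.val ⁻¹' S
  sup_eq_top := by
    exact codisjoint_iff.mp (Subgroup.codisjoint_subgroupOf_sup B N)
  conj_mem := by
    intro n hn t ht
    rw [Subgroup.mem_inf] at ht
    have := conj_mem (n : G) hn (t : G) ⟨ht.1, ht.2⟩
    simpa [Subgroup.mem_subgroupOf] using this
  subset := by
    intro s hs
    exact subset hs
  sq_mem := by
    intro s hs
    have := sq_mem (s : G) hs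
    simpa [Subgroup.mem_subgroupOf] using this
  inj := by
    intro s hs s' hs' h
    apply Subtype.ext
    apply inj (s : G) hs (s' : G) hs'
    simpa [Subgroup.mem_subgroupOf] using h
  closure_sup := by
    apply Subgroup.map_injective (B ⊔ N).subtype_injective
    have hN : N ≤ B ⊔ N := le_sup_right
    have hS : (Subtype.val : ↥(B ⊔ N) → G) '' (Subtype.val ⁻¹' S) = S := by
      rw [Set.image_preimage_eq_iff, Subtype.range_val]
      intro x hx
      exact hN (subset hx)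
    have hBN : (B.subgroupOf (B ⊔ N) ⊓ N.subgroupOf (B ⊔ N)) = (B ⊓ N).subgroupOf (B ⊔ N) := by
      ext x
      simp [Subgroup.mem_subgroupOf]
    rw [Subgroup.map_sup, MonoidHom.map_closure, Subgroup.coe_subtype, hS, hBN,
      Subgroup.subgroupOf_map_subtype, Subgroup.subgroupOf_map_subtype]
    have h1 : B ⊓ N ⊓ (B ⊔ N) = B ⊓ N := inf_eq_left.mpr (inf_le_right.trans hN)
    have h2 : N ⊓ (B ⊔ N) = N := inf_eq_left.mpr hN
    rw [h1, h2]
    exact closure_sup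
  mul_mem_union := by
    intro s hs n hn b hb
    have hB : B ≤ B ⊔ N := le_sup_left
    rcases mul_mem_union (s : G) hs (n : G) hn (b : G) hb with h | h
    · left
      exact sub_mem_doubleCoset hB (s * b * n) (s * n) (by simpa using h)
    · right
      exact sub_mem_doubleCoset hB (s * b * n) n (by simpa using h)
  conj_ne := by
    intro s hs heq
    apply conj_ne (s : G) hs
    have hB : B ≤ B ⊔ N := le_sup_left
    ext x
    constructor
    · rintro ⟨b, hb, rfl⟩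
      have hb' : (⟨b, hB hb⟩ : ↥(B ⊔ N)) ∈ ((B.subgroupOf (B ⊔ N) : Subgroup ↥(B ⊔ N)) : Set ↥(B ⊔ N)) := hb
      have h1 : s * ⟨b, hB hb⟩ * s ∈ (fun b => s * b * s) '' ((B.subgroupOf (B ⊔ N) : Subgroup ↥(B ⊔ N)) : Set ↥(B ⊔ N)) :=
        ⟨_, hb', rfl⟩
      rw [heq] at h1
      exact h1
    · intro hx
      have hx' : (⟨x, hB hx⟩ : ↥(B ⊔ N)) ∈ ((B.subgroupOf (B ⊔ N) : Subgroup ↥(B ⊔ N)) : Set ↥(B ⊔ N)) := hx
      rw [← heq] at hx'
      obtain ⟨b', hb', hbx⟩ := hx'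
      exact ⟨(b' : G), hb', congrArg Subtype.val hbx⟩

end Cfsg.Agent.Lib.Helper40.OpBN
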