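import Mathlib

/-! # OPBN-TOPABS (S2548 hive, helper40): `G' ≤ H` when `H ⊔ ⟨r⟩ = ⊤` and `r` normalises `H`. -/

set_option autoImplicit false

namespace Cfsg.Agent.Lib.Helper40.OpBN

open scoped commutatorElement

/-- LEAF TOPABS (pure group theory): if `H ⊔ zpowers r = ⊤` and `r` normalises `H` then `G' ≤ H`. -/
theorem commutator_le_of_sup_zpowers {G : Type*} [Group G] (H : Subgroup G) (r : G)
    (hr : ∀ h ∈ H, r * h * r⁻¹ ∈ H) (hr' : ∀ h ∈ H, r⁻¹ * h * r ∈ H)
    (htop : H ⊔ Subgroup.zpowers r = ⊤) : commutator G ≤ H := by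
  have hrN : r ∈ Subgroup.normalizer (H : Set G) := by
    rw [Subgroup.mem_normalizer_iff]
    intro h
    constructor
    · exact hr h
    · intro hh
      have := hr' _ hh
      simpa [mul_assoc] using this
  have hN : Subgroup.normalizer (H : Set G) = ⊤ := by
    apply top_le_iff.mp
    rw [← htop]
    exact sup_le Subgroup.le_normalizer ((Subgroup.zpowers_le).2 hrN)
  have hHn : H.Normal := Subgroup.normalizer_eq_top_iff.mp hN
  have hcyc : ∀ x : G ⧸ H, x ∈ Subgroup.zpowers (QuotientGroup.mk' H r) := by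
    intro x
    obtain ⟨g, rfl⟩ := QuotientGroup.mk'_surjective H x
    have hg : g ∈ H ⊔ Subgroup.zpowers r := htop ▸ Subgroup.mem_top g
    have hle : (H ⊔ Subgroup.zpowers r).map (QuotientGroup.mk' H) ≤
        Subgroup.zpowers (QuotientGroup.mk' H r) := by
      rw [Subgroup.map_sup, sup_le_iff]
      constructor
      · rw [QuotientGroup.map_mk'_self H]
        exact bot_le
      · rw [MonoidHom.map_zpowers]
    exact hle (Subgroup.mem_map_of_mem _ hg)
  rw [commutator_def, Subgroup.commutator_le]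
  intro a _ b _
  rw [← QuotientGroup.eq_one_iff]
  obtain ⟨i, hi⟩ := Subgroup.mem_zpowers_iff.mp (hcyc (QuotientGroup.mk' H a))
  obtain ⟨j, hj⟩ := Subgroup.mem_zpowers_iff.mp (hcyc (QuotientGroup.mk' H b))
  have : ((⁅a, b⁆ : G) : G ⧸ H) = ⁅(QuotientGroup.mk' H a), (QuotientGroup.mk' H b)⁆ := by
    simp [commutatorElement_def]
  rw [this, ← hi, ← hj, commutatorElement_eq_one_iff_commute]
  exact (Commute.refl _).zpow_zpow i j

end Cfsg.Agent.Lib.Helper40.OpBN
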