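import Cfsg.Agent.Lib.Helper22.StarCount
import Cfsg.Agent.S1430
import Cfsg.Agent.S1433
import Cfsg.Agent.Lib.Helper56.BG143
import Cfsg.Agent.Lib.Helper68.BG147U
import Cfsg.Agent.Lib.Helper64.BG9
import Cfsg.Agent.Lib.Helper32.Transitivity
import Cfsg.Agent.Lib.Helper23.TransCore

set_option autoImplicit false
set_option linter.style.haveILetI false
set_option linter.unusedSectionVars false
set_option linter.unusedVariables false

/-!
# The P-star: a maximal subgroup `M` with `K ≠ 1` and all its partners cannot all be of type P1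

`pstar`: let `K ≠ 1` be a Hall `κ(M)`-subgroup of the maximal subgroup `M`, `K* = C_{M_σ}(K)`,
`Z = K K*`.  If `M = M_σ K` and every maximal subgroup `L ≥ N_G(X)` (`X ≤ K` of prime order)
satisfies `L = L_σ Z`, we get a contradiction (the star count).
Armed on `StmtPartner` (the single-partner analysis) and `Stmt1377`.
-/

namespace Cfsg.Agent.Lib.Helper22.PStar

open Subgroup Cfsg Cfsg.Agent.Lib.Helper33 Cfsg.Agent.Lib.Helper22.StarCount
open Cfsg.Agent.Lib.Helper56.BG143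

universe u

variable {G : Type u} [Group G] [Finite G]

/-- the conclusion of the single-partner analysis for `(M, K)`, `X ≤ K` of prime order and a
maximal subgroup `L ≥ N_G(X)` -/
def PartnerConcl (M K X L : Subgroup G) : Prop :=
  (∀ g : G, L ≠ M.map (MulAut.conj g).toMonoidHom) ∧ X ≤ sigmaCore L ∧
  K ⊔ (sigmaCore M ⊓ centralizer (K : Set G)) ≤ L ∧
  sigmaCore M ⊓ L = sigmaCore M ⊓ centralizer (K : Set G) ∧
  M ⊓ L = K ⊔ (sigmaCore M ⊓ centralizer (K : Set G)) ∧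
  (∀ q : ℕ, q.Prime → q ∣ Nat.card ↥(sigmaCore M ⊓ centralizer (K : Set G)) → q ∈ kappa L) ∧
  ∃ K1 : Subgroup G, IsPiHallOf (kappa L) K1 L ∧ sigmaCore M ⊓ centralizer (K : Set G) ≤ K1 ∧
    K1 ≤ K ⊔ (sigmaCore M ⊓ centralizer (K : Set G)) ∧
    sigmaCore L ⊓ centralizer (K1 : Set G) = sigmaCore L ⊓ M ∧
    sigmaCore L ⊓ centralizer (K1 : Set G) ≤ K ∧
    X ≤ sigmaCore L ⊓ centralizer (K1 : Set G) ∧
    K ⊔ (sigmaCore M ⊓ centralizer (K : Set G)) = K1 ⊔ (sigmaCore L ⊓ centralizer (K1 : Set G))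

/-- the single-partner analysis as a hypothesis -/
def StmtPartner (G : Type u) [Group G] [Finite G] : Prop :=
  ∀ M K : Subgroup G, IsCoatom M → IsPiHallOf (kappa M) K M → K ≠ ⊥ →
    ∀ X : Subgroup G, X ≤ K → (Nat.card X).Prime →
    ∀ L : Subgroup G, IsCoatom L → normalizer (X : Set G) ≤ L → PartnerConcl M K X L

theorem stmt1430 (hG : IsMinSimpleOddOrder G) : Stmt1430 G :=
  fun M hM K hK hK1 => Cfsg.Agent.S1430.result hG M hM K hK hK1

theorem stmt1433 (hG : IsMinSimpleOddOrder G) : StarCount.Stmt1433 G :=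
  fun M N hM hN x y hx hy hx1 hy1 hxy => Cfsg.Agent.S1433.result hG M N hM hN x y hx hy hx1 hy1 hxy

theorem Ks_ne_bot' (hG : IsMinSimpleOddOrder G) {M K : Subgroup G} (hM : IsCoatom M)
    (hK : IsPiHallOf (kappa M) K M) (hK1 : K ≠ ⊥) :
    sigmaCore M ⊓ centralizer (K : Set G) ≠ ⊥ :=
  Ks_ne_bot hK hK1 (Cfsg.Agent.S1430.result hG M hM K hK hK1).1

theorem centralizer_singleton_le_zpowers (a : G) :
    centralizer ({a} : Set G) ≤ centralizer ((zpowers a : Subgroup G) : Set G) := by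
  intro c hc
  rw [mem_centralizer_iff] at hc ⊢
  intro y hy
  obtain ⟨n, rfl⟩ := mem_zpowers_iff.mp hy
  have h1 : Commute a c := hc a rfl
  exact (h1.zpow_left n).eq

/-- the partner `L` is the only maximal subgroup over `N_G(X')` for `X' ≤ K ∩ L_σ` of prime order -/
theorem partner_unique (hG : IsMinSimpleOddOrder G) {M K X L : Subgroup G} (hM : IsCoatom M)
    (hK : IsPiHallOf (kappa M) K M) (hK1 : K ≠ ⊥) (hL : IsCoatom L) (hc : PartnerConcl M K X L)
    {X' : Subgroup G} (hX'K : X' ≤ K) (hX' : (Nat.card X').Prime) (hX'L : X' ≤ sigmaCore L)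
    {L' : Subgroup G} (hL' : IsCoatom L') (hNL' : normalizer (X' : Set G) ≤ L') : L' = L := by
  obtain ⟨-, -, -, -, -, -, K1, hK1h, hKsK1, -, hK1s, -, -, -⟩ := hc
  have hK1ne : K1 ≠ ⊥ := by
    intro h
    apply Ks_ne_bot' hG hM hK hK1
    rw [h] at hKsK1
    exact le_bot_iff.mp hKsK1
  have h1 : X' ≤ sigmaCore L ⊓ centralizer (K1 : Set G) := by
    rw [hK1s]; exact le_inf hX'L (hX'K.trans hK.1)
  have := (Cfsg.Agent.Lib.Helper68.BG147.lemmaU hG (stmt1430 hG) hL hK1h hK1ne h1 hX').2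
  exact this L' hL' ((Subgroup.centralizer_le_normalizer _).trans hNL')

/-- centralizers of prime-order elements of `L_σ ∩ Z` lie in the partner `L` -/
theorem partner_cent (hG : IsMinSimpleOddOrder G) {M K X L : Subgroup G} (hM : IsCoatom M)
    (hK : IsPiHallOf (kappa M) K M) (hK1 : K ≠ ⊥) (hL : IsCoatom L) (hc : PartnerConcl M K X L)
    {a : G} (ha : a ∈ sigmaCore L ⊓ (K ⊔ (sigmaCore M ⊓ centralizer (K : Set G))))
    (hap : (orderOf a).Prime) : centralizer ({a} : Set G) ≤ L := by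
  obtain ⟨-, -, -, -, hML, -, K1, hK1h, hKsK1, -, hK1s, -, -, -⟩ := hc
  have hK1ne : K1 ≠ ⊥ := by
    intro h
    apply Ks_ne_bot' hG hM hK hK1
    rw [h] at hKsK1
    exact le_bot_iff.mp hKsK1
  have haM : a ∈ M := by
    have : a ∈ M ⊓ L := by rw [hML]; exact ha.2
    exact this.1
  have h1 : zpowers a ≤ sigmaCore L ⊓ centralizer (K1 : Set G) := by
    rw [hK1s, zpowers_le]; exact ⟨ha.1, haM⟩
  have h2 : (Nat.card (zpowers a)).Prime := by rw [Nat.card_zpowers]; exact hap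
  have := (Cfsg.Agent.Lib.Helper68.BG147.lemmaU hG (stmt1430 hG) hL hK1h hK1ne h1 h2).1
  exact (centralizer_singleton_le_zpowers a).trans this

/-- centralizers of prime-order elements of `M_σ ∩ Z` lie in `M` -/
theorem base_cent (hG : IsMinSimpleOddOrder G) {M K X L : Subgroup G} (hM : IsCoatom M)
    (hK : IsPiHallOf (kappa M) K M) (hK1 : K ≠ ⊥) (hc : PartnerConcl M K X L)
    {a : G} (ha : a ∈ sigmaCore M ⊓ (K ⊔ (sigmaCore M ⊓ centralizer (K : Set G))))
    (hap : (orderOf a).Prime) : centralizer ({a} : Set G) ≤ M := by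
  obtain ⟨-, -, hZL, hWL, -, -, -⟩ := hc
  have h1 : zpowers a ≤ sigmaCore M ⊓ centralizer (K : Set G) := by
    rw [← hWL, zpowers_le]; exact ⟨ha.1, hZL ha.2⟩
  have h2 : (Nat.card (zpowers a)).Prime := by rw [Nat.card_zpowers]; exact hap
  have := (Cfsg.Agent.Lib.Helper68.BG147.lemmaU hG (stmt1430 hG) hM hK hK1 h1 h2).1
  exact (centralizer_singleton_le_zpowers a).trans this

/-- a second partner `L'` (via `X' ≤ K` not in `L_σ`) meets `L` in `Z` and is not conjugate to `L` -/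
theorem partner_inf (hG : IsMinSimpleOddOrder G) (hPart : StmtPartner G) {M K X L : Subgroup G}
    (hM : IsCoatom M) (hK : IsPiHallOf (kappa M) K M) (hK1 : K ≠ ⊥) (hL : IsCoatom L)
    (hc : PartnerConcl M K X L)
    {X' : Subgroup G} (hX'K : X' ≤ K) (hX' : (Nat.card X').Prime) (hX'L : ¬ X' ≤ sigmaCore L)
    {L' : Subgroup G} (hL' : IsCoatom L') (hNL' : normalizer (X' : Set G) ≤ L') :
    L ⊓ L' = K ⊔ (sigmaCore M ⊓ centralizer (K : Set G)) ∧
      ∀ g : G, L' ≠ L.map (MulAut.conj g).toMonoidHom := by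
  obtain ⟨-, -, hZL, -, -, -, K1, hK1h, hKsK1, hK1Z, hK1s, -, -, hZeq⟩ := hc
  have hHallL := (Cfsg.Agent.S1350.result hG L hL).1
  have hK1ne : K1 ≠ ⊥ := by
    intro h
    apply Ks_ne_bot' hG hM hK hK1
    rw [h] at hKsK1
    exact le_bot_iff.mp hKsK1
  set p' := Nat.card X' with hp'
  haveI : Fact p'.Prime := ⟨hX'⟩
  have hX'Z : X' ≤ K ⊔ (sigmaCore M ⊓ centralizer (K : Set G)) := hX'K.trans le_sup_left
  have hp'σ : p' ∉ sigma L := by
    intro h
    apply hX'L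
    apply Cfsg.Agent.Lib.Helper68.BG1215.le_sigmaCore_of_isPGroup hHallL h (hX'Z.trans hZL)
    exact IsPGroup.of_card (n := 1) (by rw [pow_one])
  have hcop : ∀ c ∈ sigmaCore L, c ^ p' = 1 → c = 1 := by
    intro c hc hcp
    have h1 : orderOf c ∣ p' := orderOf_dvd_of_pow_eq_one hcp
    rcases (Nat.dvd_prime hX').mp h1 with h | h
    · exact orderOf_eq_one_iff.mp h
    · exfalso
      apply hp'σ
      apply mem_sigma_of_dvd_orderOf hG hL hc hX'
      rw [h]
  have hbot : K1 ⊓ sigmaCore L = ⊥ := by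
    apply (Subgroup.disjoint_of_coprime_natCard ?_).eq_bot
    apply Nat.coprime_of_dvd
    intro q hq hq1 hq2
    have h1 : q ∈ kappa L := hK1h.2.1 q hq hq1
    have h2 : q ∈ sigma L := hHallL.2.1 q hq hq2
    exact h1.2.2.1 h2
  have hX'K1 : X' ≤ K1 := by
    intro x hx
    have hxZ : x ∈ K1 ⊔ (sigmaCore L ⊓ centralizer (K1 : Set G)) := by
      rw [← hZeq]; exact hX'Z hx
    have hcomm : ∀ t ∈ K1, ∀ k ∈ sigmaCore L ⊓ centralizer (K1 : Set G), t * k = k * t := by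
      intro t ht k hk
      exact (mem_centralizer_iff.mp hk.2 t ht)
    obtain ⟨t, ht, k, hk, rfl⟩ := Cfsg.Agent.Lib.Helper48.TICount.mem_sup_of_commute hcomm hxZ
    have hxp : (t * k) ^ p' = 1 := by
      have h1 : orderOf (⟨t * k, hx⟩ : X') = orderOf (t * k) := Subgroup.orderOf_mk _ hx
      have h2 := orderOf_dvd_natCard (⟨t * k, hx⟩ : X')
      rw [h1] at h2
      exact orderOf_dvd_iff_pow_eq_one.mp h2
    have hmul : (t * k) ^ p' = t ^ p' * k ^ p' := (Commute.mul_pow (hcomm t ht k hk) p')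
    rw [hmul] at hxp
    have hkp : k ^ p' ∈ K1 ⊓ sigmaCore L := by
      refine ⟨?_, (sigmaCore L).pow_mem hk.1 _⟩
      have : k ^ p' = (t ^ p')⁻¹ := eq_inv_of_mul_eq_one_right hxp
      rw [this]
      exact K1.inv_mem (K1.pow_mem ht _)
    rw [hbot, mem_bot] at hkp
    have hk1 : k = 1 := hcop k hk.1 hkp
    rw [hk1, mul_one]; exact ht
  have hc' := hPart L K1 hL hK1h hK1ne X' hX'K1 hX' L' hL' hNL'
  obtain ⟨hnc', -, -, -, hLL', -⟩ := hc'
  refine ⟨?_, hnc'⟩
  rw [hLL', hZeq]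

/-- Cauchy inside `K`, producing a subgroup of `K` of prime order `p` and a partner over its
normalizer -/
theorem exists_partner (hG : IsMinSimpleOddOrder G) {M K : Subgroup G} (hM : IsCoatom M)
    (hKM : K ≤ M) {p : ℕ} (hp : p.Prime) (hpK : p ∣ Nat.card K) :
    ∃ X L : Subgroup G, X ≤ K ∧ Nat.card X = p ∧ IsCoatom L ∧ normalizer (X : Set G) ≤ L := by
  haveI : IsSimpleGroup G := hG.2.1
  haveI : Fact p.Prime := ⟨hp⟩
  obtain ⟨x, hx⟩ := exists_prime_orderOf_dvd_card' (G := K) p hpK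
  have hxo : orderOf (x : G) = p := by rw [Subgroup.orderOf_coe]; exact hx
  have hXc : Nat.card (zpowers (x : G)) = p := by rw [Nat.card_zpowers]; exact hxo
  have hXK : zpowers (x : G) ≤ K := by rw [zpowers_le]; exact x.2
  have hX1 : zpowers (x : G) ≠ ⊥ := by
    intro h
    rw [h, Subgroup.card_bot] at hXc
    exact hp.one_lt.ne hXc
  have hXtop : zpowers (x : G) ≠ ⊤ := by
    intro h
    apply hM.1
    rw [eq_top_iff, ← h]
    exact hXK.trans hKM
  have hN := Cfsg.Agent.Lib.Helper32.normalizer_ne_top_of_simple hX1 hXtop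
  obtain ⟨L, hL, hNL⟩ := Cfsg.Agent.Lib.Helper64.BG9.exists_coatom_ge hN
  exact ⟨zpowers (x : G), L, hXK, hXc, hL, hNL⟩

/-- **P-star.** -/
theorem pstar (hG : IsMinSimpleOddOrder G) (hPart : StmtPartner G) (h77 : Stmt1377 G)
    {M K : Subgroup G} (hM : IsCoatom M) (hK : IsPiHallOf (kappa M) K M) (hK1 : K ≠ ⊥)
    (hP1 : M ≤ sigmaCore M ⊔ K)
    (hP1' : ∀ X : Subgroup G, X ≤ K → (Nat.card X).Prime → ∀ L : Subgroup G, IsCoatom L →
      normalizer (X : Set G) ≤ L →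
      L ≤ sigmaCore L ⊔ (K ⊔ (sigmaCore M ⊓ centralizer (K : Set G)))) : False := by
  classical
  have hHallM := (Cfsg.Agent.S1350.result hG M hM).1
  -- the partners
  let IsP : Subgroup G → Prop := fun L => IsCoatom L ∧ ∃ X : Subgroup G, X ≤ K ∧
    (Nat.card X).Prime ∧ normalizer (X : Set G) ≤ L
  have hconcl : ∀ L, IsP L → ∃ X : Subgroup G, X ≤ K ∧ (Nat.card X).Prime ∧
      normalizer (X : Set G) ≤ L ∧ PartnerConcl M K X L := by
    rintro L ⟨hL, X, hXK, hX, hNL⟩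
    exact ⟨X, hXK, hX, hNL, hPart M K hM hK hK1 X hXK hX L hL hNL⟩
  -- a first partner
  have hcardK : Nat.card K ≠ 1 := fun h => hK1 (Subgroup.card_eq_one.mp h)
  obtain ⟨p₀, hp₀, hp₀K⟩ := Nat.exists_prime_and_dvd hcardK
  obtain ⟨X₀, L₀, hX₀K, hX₀c, hL₀, hNL₀⟩ := exists_partner hG hM hK.1 hp₀ hp₀K
  have hX₀p : (Nat.card X₀).Prime := hX₀c ▸ hp₀
  have hL₀P : IsP L₀ := ⟨hL₀, X₀, hX₀K, hX₀p, hNL₀⟩
  have hc₀ := hPart M K hM hK hK1 X₀ hX₀K hX₀p L₀ hL₀ hNL₀
  -- two distinct partners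
  have hpair : ∀ L L', IsP L → IsP L' → L ≠ L' →
      L ⊓ L' = K ⊔ (sigmaCore M ⊓ centralizer (K : Set G)) ∧
      ∀ g : G, L' ≠ L.map (MulAut.conj g).toMonoidHom := by
    intro L L' hLP hL'P hne
    obtain ⟨X, hXK, hX, hNL, hc⟩ := hconcl L hLP
    obtain ⟨hL', X', hX'K, hX', hNL'⟩ := hL'P
    have hX'L : ¬ X' ≤ sigmaCore L := by
      intro h
      exact hne (partner_unique hG hM hK hK1 hLP.1 hc hX'K hX' h hL' hNL').symm
    exact partner_inf hG hPart hM hK hK1 hLP.1 hc hX'K hX' hX'L hL' hNL'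
  -- the index type
  let ι := {L : Subgroup G // L = M ∨ IsP L}
  haveI : Fintype ι := Fintype.ofFinite ι
  let i₀ : ι := ⟨M, Or.inl rfl⟩
  let i₁ : ι := ⟨L₀, Or.inr hL₀P⟩
  have h01 : i₀ ≠ i₁ := by
    intro h
    have h1 : M = L₀ := congrArg Subtype.val h
    apply hc₀.1 1
    rw [← h1]
    exact (cj_one M).symm
  have hZM : K ⊔ (sigmaCore M ⊓ centralizer (K : Set G)) ≤ M :=
    sup_le hK.1 (inf_le_left.trans hHallM.1)
  refine star_count hG h77 (stmt1433 hG) i₀ i₁ h01 (fun i : ι => i.1)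
    (K ⊔ (sigmaCore M ⊓ centralizer (K : Set G))) ?_ ?_ ?_ ?_ ?_ ?_ ?_
  · -- coatoms
    rintro ⟨L, hL | hL⟩
    · exact hL ▸ hM
    · exact hL.1
  · -- non-conjugate
    rintro ⟨L, hL | hL⟩ ⟨L', hL' | hL'⟩ hij g
    · exfalso; apply hij; apply Subtype.ext; show L = L'; rw [hL, hL']
    · obtain ⟨X', hX'K, hX', hNL', hc'⟩ := hconcl L' hL'
      show L' ≠ L.map (MulAut.conj g).toMonoidHom
      rw [hL]; exact hc'.1 g
    · obtain ⟨X, hXK, hX, hNL, hc⟩ := hconcl L hL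
      show L' ≠ L.map (MulAut.conj g).toMonoidHom
      rw [hL']
      intro h
      apply hc.1 g⁻¹
      have h2 : cj g⁻¹ M = cj g⁻¹ (cj g L) := congrArg (cj g⁻¹) h
      rw [cj_inv_cj] at h2
      exact h2.symm
    · have hne : L ≠ L' := fun h => hij (Subtype.ext h)
      exact (hpair L L' hL hL' hne).2 g
  · -- Z ≤ H i
    rintro ⟨L, hL | hL⟩
    · show _ ≤ L
      rw [hL]; exact hZM
    · obtain ⟨X, hXK, hX, hNL, hc⟩ := hconcl L hL
      exact hc.2.2.1
  · -- intersections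
    rintro ⟨L, hL | hL⟩ ⟨L', hL' | hL'⟩ hij
    · exfalso; apply hij; apply Subtype.ext; show L = L'; rw [hL, hL']
    · obtain ⟨X', hX'K, hX', hNL', hc'⟩ := hconcl L' hL'
      show L ⊓ L' ≤ _
      rw [hL]; exact le_of_eq hc'.2.2.2.2.1
    · obtain ⟨X, hXK, hX, hNL, hc⟩ := hconcl L hL
      show L ⊓ L' ≤ _
      rw [hL', inf_comm]; exact le_of_eq hc.2.2.2.2.1
    · have hne : L ≠ L' := fun h => hij (Subtype.ext h)
      exact le_of_eq (hpair L L' hL hL' hne).1
  · -- P1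
    rintro ⟨L, hL | hL⟩
    · show L ≤ sigmaCore L ⊔ _
      rw [hL]
      exact hP1.trans (sup_le le_sup_left (le_sup_left.trans le_sup_right))
    · obtain ⟨hLc, X, hXK, hX, hNL⟩ := hL
      exact hP1' X hXK hX L hLc hNL
  · -- primes
    intro p hp hpZ
    have hnorm : K ≤ normalizer ((sigmaCore M ⊓ centralizer (K : Set G) : Subgroup G) : Set G) := by
      refine le_trans ?_ (Subgroup.centralizer_le_normalizer _)
      rw [Subgroup.le_centralizer_iff]
      exact inf_le_right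
    have hdvd := Cfsg.Agent.Lib.Helper23.card_sup_dvd_of_le_normalizer K
      (sigmaCore M ⊓ centralizer (K : Set G)) hnorm
    rcases (Nat.Prime.dvd_mul hp).mp (hpZ.trans hdvd) with h | h
    · obtain ⟨X, L, hXK, hXc, hL, hNL⟩ := exists_partner hG hM hK.1 hp h
      have hXp : (Nat.card X).Prime := hXc ▸ hp
      have hc := hPart M K hM hK hK1 X hXK hXp L hL hNL
      refine ⟨⟨L, Or.inr ⟨hL, X, hXK, hXp, hNL⟩⟩, ?_⟩
      show p ∈ sigma L
      have hHallL := (Cfsg.Agent.S1350.result hG L hL).1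
      apply hHallL.2.1 p hp
      rw [← hXc]
      exact Subgroup.card_dvd_of_le hc.2.1
    · refine ⟨i₀, ?_⟩
      show p ∈ sigma M
      apply hHallM.2.1 p hp
      exact h.trans (Subgroup.card_dvd_of_le inf_le_left)
  · -- centralizers
    rintro ⟨L, hL | hL⟩ a ha hap
    · show centralizer ({a} : Set G) ≤ L
      subst hL
      exact base_cent hG hM hK hK1 hc₀ ha hap
    · obtain ⟨X, hXK, hX, hNL, hc⟩ := hconcl L hL
      exact partner_cent hG hM hK hK1 hL.1 hc ha hap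

end Cfsg.Agent.Lib.Helper22.PStar
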