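import Cfsg.Agent.Lib.Helper22.PStar
import Cfsg.Agent.Lib.Helper64.BG147Pair
import Cfsg.Agent.S1377

set_option autoImplicit false
set_option linter.unusedSectionVars false
set_option linter.unusedVariables false

/-!
# Unconditional forms of the star count and of the P-star

All inputs (S1377, S1433, the single-partner analysis) are on main: the hypotheses of
`StarCount.star_count` and `PStar.pstar` are discharged here.
-/

namespace Cfsg.Agent.Lib.Helper22.PStar

open Subgroup Cfsg Cfsg.Agent.Lib.Helper33 Cfsg.Agent.Lib.Helper22.StarCount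

universe u

variable {G : Type u} [Group G] [Finite G]

theorem stmt1377 (hG : IsMinSimpleOddOrder G) : StarCount.Stmt1377 G :=
  fun M hM => Cfsg.Agent.S1377.result hG M hM

theorem stmtPartner (hG : IsMinSimpleOddOrder G) : StmtPartner G := by
  intro M K hM hK hK1 X hXK hX L hL hNL
  obtain ⟨h1, h2, h3, h4, h5, h6, K1, h7, h8, h9, h10, h11, h12, h13⟩ :=
    Cfsg.Agent.Lib.Helper64.BG147Pair.partner hG (stmt1430 hG) hM hK hK1 hXK hX hL hNL
  exact ⟨h1, h2, h3, h4, h5, h6, K1, h7, h8, h9, h10.symm, h11, h12, h13⟩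

/-- **Star count**, unconditional. -/
theorem star_count_final (hG : IsMinSimpleOddOrder G)
    {ι : Type*} [Fintype ι] (i₀ i₁ : ι) (h01 : i₀ ≠ i₁)
    (H : ι → Subgroup G) (Z : Subgroup G)
    (hH : ∀ i, IsCoatom (H i))
    (hnc : ∀ i j, i ≠ j → ∀ g : G, H j ≠ (H i).map (MulAut.conj g).toMonoidHom)
    (hZ : ∀ i, Z ≤ H i)
    (hHH : ∀ i j, i ≠ j → H i ⊓ H j ≤ Z)
    (hVZ : ∀ i, H i ≤ sigmaCore (H i) ⊔ Z)
    (hπ : ∀ p : ℕ, p.Prime → p ∣ Nat.card Z → ∃ i, p ∈ sigma (H i))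
    (hC : ∀ i, ∀ a ∈ sigmaCore (H i) ⊓ Z, (orderOf a).Prime →
      centralizer ({a} : Set G) ≤ H i) : False :=
  star_count hG (stmt1377 hG) (stmt1433 hG) i₀ i₁ h01 H Z hH hnc hZ hHH hVZ hπ hC

/-- **P-star**, unconditional: a maximal subgroup `M = M_σ K` (`K ≠ 1` a Hall `κ(M)`-subgroup)
has a partner `L ≥ N_G(X)`, `X ≤ K` of prime order, which is NOT of the form `L_σ (K K*)`. -/
theorem pstar_final (hG : IsMinSimpleOddOrder G)
    {M K : Subgroup G} (hM : IsCoatom M) (hK : IsPiHallOf (kappa M) K M) (hK1 : K ≠ ⊥)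
    (hP1 : M ≤ sigmaCore M ⊔ K)
    (hP1' : ∀ X : Subgroup G, X ≤ K → (Nat.card X).Prime → ∀ L : Subgroup G, IsCoatom L →
      normalizer (X : Set G) ≤ L →
      L ≤ sigmaCore L ⊔ (K ⊔ (sigmaCore M ⊓ centralizer (K : Set G)))) : False :=
  pstar hG (stmtPartner hG) (stmt1377 hG) hM hK hK1 hP1 hP1'

end Cfsg.Agent.Lib.Helper22.PStar
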