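import Cfsg.Agent.Lib.Helper22.PStarFinal
import Cfsg.Agent.Lib.Helper23.NStarA7
import Cfsg.Agent.Lib.Helper56.BG141

set_option autoImplicit false
set_option linter.unusedSectionVars false
set_option linter.unusedVariables false

/-!
# Case N is impossible: `κ(M) ∩ τ₃(M) = ∅`

`caseN_false`: helper23's context `Ctx M E` (Case N) is contradictory, by `pstar_final`
(`M = M_σ E` and every partner `L = L_σ Z` is of type P1: helper23/helper96 `par_decomp`).
`stmtA`: `κ(M) ∩ τ₃(M) = ∅` for every maximal subgroup.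
-/

namespace Cfsg.Agent.Lib.Helper22.PStar

open Subgroup Cfsg Cfsg.Agent.Lib.Helper23.NStar

universe u

variable {G : Type u} [Group G] [Finite G]

theorem caseN_false (hG : IsMinSimpleOddOrder G) {M E : Subgroup G} (c : Ctx M E) : False := by
  refine pstar_final hG c.hM (c.hallE hG) c.hE1 ?_ ?_
  · intro m hm
    obtain ⟨a, ha, b, hb, rfl⟩ := c.hE.2.2.2 m hm
    exact Subgroup.mul_mem _ (mem_sup_right ha) (mem_sup_left hb)
  · intro X hXE hX L hL hNL
    exact par_decomp hG c ⟨hXE, hX, hL, hNL⟩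

/-- `κ(M) ∩ τ₃(M) = ∅` -/
theorem stmtA (hG : IsMinSimpleOddOrder G) : Cfsg.Agent.Lib.Helper56.BG141.StmtA G := by
  intro M hM p hpκ hp3
  obtain ⟨E, c⟩ := exists_ctx hG hM hp3 hpκ
  exact caseN_false hG c

end Cfsg.Agent.Lib.Helper22.PStar
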